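import Cfsg.Agent.Lib.Recog.OrderSix.Basic
import Cfsg.Agent.Lib.Invol.BrauerSuzuki

/-!
# An involution central modulo `u` in a Sylow subgroup with centre `⟨u⟩`
-/

set_option autoImplicit false
set_option linter.unusedSectionVars false
set_option linter.style.haveILetI false

namespace CfsgLib.Recog.OrderSix

open Subgroup CfsgLib.Char.SelfCentThree

universe u

variable {G : Type u} [Group G] [Finite G] {u v x : G}

/-- In a nonabelian simple group no Sylow 2-subgroup has a single involution. -/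
theorem false_of_one_invol [IsSimpleGroup G] (hG : ¬ IsMulCommutative G) (P : Sylow 2 G)
    (hu : orderOf u = 2) (h : ∀ y ∈ (P : Subgroup G), orderOf y = 2 → y = u) : False := by
  have hcore : Cfsg.pPrimeCore 2 G = ⊥ := by
    haveI := CfsgLib.Coprime.pPrimeCore_characteristic (G := G) 2
    refine (IsSimpleGroup.eq_bot_or_eq_top_of_normal (Cfsg.pPrimeCore 2 G) inferInstance).resolve_right
      fun e => CfsgLib.Coprime.pPrimeCore_not_dvd (G := G) Nat.prime_two ?_
    rw [e, card_top, ← hu]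
    exact orderOf_dvd_natCard u
  have hcen : u ∈ center G :=
    CfsgLib.Invol.eq_of_zcentral_bot (CfsgLib.Invol.zcentral_of_unique_invol P hu h) hcore
  rcases IsSimpleGroup.eq_bot_or_eq_top_of_normal (center G) inferInstance with e | e
  · rw [e, mem_bot] at hcen
    exact ne_one_of_order hu (by norm_num) hcen
  · exact hG ⟨⟨fun a b => (mem_center_iff.1 (e ▸ mem_top b) a)⟩⟩

/-- The pair of Sylow subgroups attached to `x`. -/
structure Second (u x : G) (S T : Sylow 2 G) (e e' : G) : Prop where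
  u_mem : u ∈ (S : Subgroup G)
  u_comm : ∀ s ∈ (S : Subgroup G), u * s = s * u
  x_mem : x ∈ (S : Subgroup G)
  x_ord : orderOf x = 2
  x_ne : x ≠ u
  x_comm : ∀ s ∈ (S : Subgroup G), x * s = s * x ∨ x * s = u * (s * x)
  le_T : (S : Subgroup G) ⊓ centralizer {x} ≤ (T : Subgroup G)
  T_comm : ∀ s ∈ (T : Subgroup G), x * s = s * x
  e_mem : e ∈ (S : Subgroup G)
  e_notMem : x * e = u * (e * x)
  e'_mem : e' ∈ (T : Subgroup G)
  e'_notMem : e' ∉ (S : Subgroup G) ⊓ centralizer {x}
  e'_norm : ∀ r, r ∈ (S : Subgroup G) ⊓ centralizer {x} →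
    e' * r * e'⁻¹ ∈ (S : Subgroup G) ⊓ centralizer {x} ∧
      e'⁻¹ * r * e' ∈ (S : Subgroup G) ⊓ centralizer {x}
  e'_u : e' * u * e'⁻¹ = u * x
  card_eq : Nat.card (S : Subgroup G) = 2 * Nat.card ↥((S : Subgroup G) ⊓ centralizer {x})

theorem mem_inf_cent {S : Subgroup G} {x g : G} :
    g ∈ S ⊓ centralizer {x} ↔ g ∈ S ∧ g * x = x * g := by
  rw [mem_inf, mem_centralizer_singleton_iff]

/-- The four group of central involutions of `R`. -/
theorem mul_split {S : Subgroup G} {e : G} (hu : orderOf u = 2)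
    (hxc : ∀ s ∈ S, x * s = s * x ∨ x * s = u * (s * x))
    (he : e ∈ S) (hxe : x * e = u * (e * x)) {s : G} (hs : s ∈ S) :
    s ∈ S ⊓ centralizer {x} ∨ e⁻¹ * s ∈ S ⊓ centralizer {x} := by
  rcases hxc s hs with h | h
  · exact Or.inl (mem_inf_cent.2 ⟨hs, h.symm⟩)
  · refine Or.inr (mem_inf_cent.2 ⟨mul_mem (inv_mem he) hs, ?_⟩)
    symm
    calc x * (e⁻¹ * s) = e⁻¹ * (e * x) * e⁻¹ * s := by group
      _ = e⁻¹ * (u⁻¹ * (x * e)) * e⁻¹ * s := by rw [hxe]; group
      _ = e⁻¹ * (u * (x * s)) := by rw [inv_eq_self hu]; group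
      _ = e⁻¹ * s * x := by rw [h, ← mul_assoc u u, mul_self_invol hu, one_mul, mul_assoc]

theorem central_of_comm {S : Subgroup G} {e z : G} (hu : orderOf u = 2)
    (hxc : ∀ s ∈ S, x * s = s * x ∨ x * s = u * (s * x))
    (he : e ∈ S) (hxe : x * e = u * (e * x)) (h1 : z * e = e * z)
    (h2 : ∀ r ∈ S ⊓ centralizer {x}, z * r = r * z) : ∀ s ∈ S, z * s = s * z := fun s hs => by
  rcases mul_split hu hxc he hxe hs with h | h
  · exact h2 s h
  · calc z * s = (z * e) * (e⁻¹ * s) := by group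
      _ = e * (z * (e⁻¹ * s)) := by rw [h1]; group
      _ = s * z := by rw [h2 _ h]; group

/-- The four group of central elements of `R` inverted trivially modulo `u`. -/
theorem central_four {S : Subgroup G} {e w : G} (hu : orderOf u = 2) (hxS : x ∈ S) (hx2 : x * x = 1)
    (huc : ∀ s ∈ S, u * s = s * u) (hxc : ∀ s ∈ S, x * s = s * x ∨ x * s = u * (s * x))
    (hcen : ∀ z ∈ S, (∀ s ∈ S, z * s = s * z) → z = 1 ∨ z = u)
    (he : e ∈ S) (hxe : x * e = u * (e * x)) (hw : w ∈ S)
    (hwR : ∀ r ∈ S ⊓ centralizer {x}, w * r = r * w) (hew : w * e = e * w ∨ w * e = u * (e * w)) :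
    w = 1 ∨ w = u ∨ w = x ∨ w = u * x := by
  rcases hew with h | h
  · exact (hcen w hw (central_of_comm hu hxc he hxe h hwR)).imp_right Or.inl
  · have hwx : ∀ r ∈ S ⊓ centralizer {x}, w * x * r = r * (w * x) := fun r hr => by
      rw [mul_assoc, ← (mem_inf_cent.1 hr).2, ← mul_assoc, hwR r hr, mul_assoc]
    have hwe : w * x * e = e * (w * x) := by
      calc w * x * e = w * (u * (e * x)) := by rw [← hxe]; group
        _ = u * (w * e) * x := by rw [← mul_assoc, ← huc w hw]; group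
        _ = (u * u) * (e * (w * x)) := by rw [h]; group
        _ = _ := by rw [mul_self_invol hu, one_mul]
    rcases hcen (w * x) (mul_mem hw hxS) (central_of_comm hu hxc he hxe hwe hwx) with h1 | h1
    · exact Or.inr (Or.inr (Or.inl
        ((eq_inv_of_mul_eq_one_left h1).trans (inv_eq_of_mul_eq_one_right hx2))))
    · refine Or.inr (Or.inr (Or.inr ?_))
      rw [← h1, mul_assoc, hx2, mul_one]

theorem exists_second (hone : ∀ a b : G, orderOf a = 2 → orderOf b = 2 → IsConj a b)
    (S : Sylow 2 G) (hu : orderOf u = 2) (huS : u ∈ (S : Subgroup G))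
    (huc : ∀ s ∈ (S : Subgroup G), u * s = s * u)
    (hcen : ∀ z ∈ (S : Subgroup G), (∀ s ∈ (S : Subgroup G), z * s = s * z) → z = 1 ∨ z = u)
    (hxS : x ∈ (S : Subgroup G)) (hxo : orderOf x = 2) (hxu : x ≠ u)
    (hxc : ∀ s ∈ (S : Subgroup G), x * s = s * x ∨ x * s = u * (s * x)) :
    ∃ (T : Sylow 2 G) (e e' : G), Second u x S T e e' := by
  classical
  haveI : Fact (Nat.Prime 2) := ⟨Nat.prime_two⟩
  have hx2 := mul_self_invol hxo
  have hux : u * x = x * u := huc x hxS
  set C := centralizer ({x} : Set G) with hC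
  set R := (S : Subgroup G) ⊓ C with hR
  obtain ⟨e, he, hxe⟩ : ∃ e ∈ (S : Subgroup G), x * e = u * (e * x) := by
    by_contra hc
    rcases hcen x hxS (fun s hs => (hxc s hs).resolve_right fun e => hc ⟨s, hs, e⟩) with e | e
    · exact ne_one_of_order hxo (by norm_num) e
    · exact hxu e
  have heR : e ∉ R := fun h => by
    have h1 := (mem_inf_cent.1 h).2
    rw [← h1] at hxe
    exact ne_one_of_order hu (by norm_num) (mul_eq_right.1 hxe.symm)
  have hidx : (R.subgroupOf (S : Subgroup G)).index = 2 := by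
    rw [Subgroup.index_eq_two_iff]
    refine ⟨⟨e⁻¹, inv_mem he⟩, fun s => ?_⟩
    have hs := mul_split hu hxc he hxe s.2
    simp only [mem_subgroupOf, coe_mul]
    by_cases h : (s : G) ∈ R
    · refine Or.inr ⟨h, fun h' => heR ?_⟩
      have h2 := mul_mem h' (inv_mem h)
      rw [show (s : G) * e⁻¹ * (s : G)⁻¹ = (s : G) * e⁻¹ * (s : G)⁻¹ from rfl] at h2
      have h3 : (s : G)⁻¹ * ((s : G) * e⁻¹ * (s : G)⁻¹) * s ∈ R := mul_mem (mul_mem (inv_mem h) h2) h
      simpa [mul_assoc] using h3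
    · refine Or.inl ⟨?_, h⟩
      have h2 := hs.resolve_left h
      -- `R` is normal in `S`
      have hn : ∀ r ∈ R, e * r * e⁻¹ ∈ R := fun r hr => by
        obtain ⟨hr1, hr2⟩ := mem_inf_cent.1 hr
        refine mem_inf_cent.2 ⟨mul_mem (mul_mem he hr1) (inv_mem he), ?_⟩
        have hu' : u * r = r * u := huc r hr1
        have hexe : e⁻¹ * x * e = u * x := by
          rw [mul_assoc, hxe, ← mul_assoc, ← huc _ (inv_mem he)]; group
        calc e * r * e⁻¹ * x = e * (r * (e⁻¹ * x * e)) * e⁻¹ := by group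
          _ = e * ((r * u) * x) * e⁻¹ := by rw [hexe]; group
          _ = e * (u * (r * x)) * e⁻¹ := by rw [← hu']; group
          _ = e * ((u * x) * r) * e⁻¹ := by rw [hr2]; group
          _ = x * (e * r * e⁻¹) := by rw [← hexe]; group
      have := hn _ h2
      rwa [show e * (e⁻¹ * (s : G)) * e⁻¹ = (s : G) * e⁻¹ by group] at this
  have hcard : Nat.card (S : Subgroup G) = 2 * Nat.card R := by
    rw [← (R.subgroupOf (S : Subgroup G)).card_mul_index, hidx, mul_comm,
      Nat.card_congr (subgroupOfEquivOfLe (inf_le_left : R ≤ (S : Subgroup G))).toEquiv]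
  -- a Sylow subgroup centralized by `x`
  obtain ⟨g, hg⟩ := isConj_iff.1 (hone u x hu hxo)
  have hT0 : ((g • S : Sylow 2 G) : Subgroup G) ≤ C := fun y hy => by
    rw [Sylow.coe_subgroup_smul] at hy
    obtain ⟨s, hs, rfl⟩ := hy
    rw [hC, mem_centralizer_singleton_iff, ← hg]
    show g * s * g⁻¹ * (g * u * g⁻¹) = g * u * g⁻¹ * (g * s * g⁻¹)
    calc g * s * g⁻¹ * (g * u * g⁻¹) = g * (s * u) * g⁻¹ := by group
      _ = g * (u * s) * g⁻¹ := by rw [huc s hs]
      _ = _ := by group
  obtain ⟨P, hP⟩ := ((S.2.to_le (inf_le_left : R ≤ (S : Subgroup G))).comap_of_injective C.subtype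
    C.subtype_injective).exists_le_sylow
  obtain ⟨c, hc⟩ := MulAction.exists_smul_eq C ((g • S : Sylow 2 G).subtype hT0) P
  set T : Sylow 2 G := (c : G) • (g • S) with hTdef
  have hTmem : ∀ y : G, y ∈ (T : Subgroup G) ↔ ∃ s ∈ (S : Subgroup G),
      ((c : G) * g) * s * ((c : G) * g)⁻¹ = y := fun y => by
    rw [hTdef, ← mul_smul, Sylow.coe_subgroup_smul]
    exact Iff.rfl
  have hle : R ≤ (T : Subgroup G) := by
    intro r hr
    have hrP : (⟨r, (inf_le_right : R ≤ C) hr⟩ : C) ∈ (P : Subgroup C) := hP hr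
    rw [← hc, Sylow.coe_subgroup_smul] at hrP
    obtain ⟨y, hy, hy'⟩ := hrP
    rw [hTdef, Sylow.coe_subgroup_smul]
    refine ⟨(y : G), ?_, congrArg Subtype.val hy'⟩
    exact hy
  have hxg : ((c : G) * g) * u * ((c : G) * g)⁻¹ = x := by
    have hcx : (c : G) * x = x * c := mem_centralizer_singleton_iff.1 c.2
    rw [show (c : G) * g * u * ((c : G) * g)⁻¹ = c * (g * u * g⁻¹) * (c : G)⁻¹ by group, hg, hcx,
      mul_inv_cancel_right]
  have hTx : ∀ y ∈ (T : Subgroup G), x * y = y * x := fun y hy => by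
    obtain ⟨s, hs, rfl⟩ := (hTmem y).1 hy
    rw [← hxg]
    set d := (c : G) * g
    calc d * u * d⁻¹ * (d * s * d⁻¹) = d * (u * s) * d⁻¹ := by group
      _ = d * (s * u) * d⁻¹ := by rw [huc s hs]
      _ = _ := by group
  have hcardT : Nat.card (T : Subgroup G) = 2 * Nat.card R := by
    rw [T.card_eq_multiplicity, ← S.card_eq_multiplicity, hcard]
  obtain ⟨e', he', he'R⟩ : ∃ e' ∈ (T : Subgroup G), e' ∉ R := by
    by_contra hc'
    push Not at hc'
    have := Subgroup.card_le_of_le (show (T : Subgroup G) ≤ R from hc')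
    have := Nat.card_pos (α := R)
    omega
  haveI hRn : (R.subgroupOf (T : Subgroup G)).Normal := by
    refine Subgroup.normal_of_index_eq_two ?_
    have h1 := (R.subgroupOf (T : Subgroup G)).card_mul_index
    rw [hcardT, Nat.card_congr (subgroupOfEquivOfLe hle).toEquiv, mul_comm 2] at h1
    exact Nat.eq_of_mul_eq_mul_left Nat.card_pos h1
  have hnorm : ∀ d ∈ (T : Subgroup G), ∀ r ∈ R, d * r * d⁻¹ ∈ R := fun d hd r hr => by
    have := hRn.conj_mem ⟨r, hle hr⟩ (mem_subgroupOf.2 hr) ⟨d, hd⟩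
    exact mem_subgroupOf.1 this
  have hn2 : ∀ r, r ∈ R → e' * r * e'⁻¹ ∈ R ∧ e'⁻¹ * r * e' ∈ R := fun r hr =>
    ⟨hnorm e' he' r hr, by simpa using hnorm e'⁻¹ (inv_mem he') r hr⟩
  have he'x : e' * x = x * e' := (hTx e' he').symm
  have huR : u ∈ R := mem_inf_cent.2 ⟨huS, hux⟩
  have hxR : x ∈ R := mem_inf_cent.2 ⟨hxS, rfl⟩
  -- the image of `u`
  set w := e' * u * e'⁻¹ with hw
  have hwR : w ∈ R := (hn2 u huR).1
  have hwc : ∀ r ∈ R, w * r = r * w := fun r hr => by
    have h1 := huc _ (mem_inf_cent.1 (hn2 r hr).2).1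
    calc w * r = e' * (u * (e'⁻¹ * r * e')) * e'⁻¹ := by rw [hw]; group
      _ = e' * ((e'⁻¹ * r * e') * u) * e'⁻¹ := by rw [h1]
      _ = r * w := by rw [hw]; group
  have hwu : w ≠ u := by
    intro hwu
    have hue' : u * e' = e' * u := by
      rw [hw, mul_inv_eq_iff_eq_mul] at hwu; exact hwu.symm
    have huT : ∀ t ∈ (T : Subgroup G), u * t = t * u := by
      intro t ht
      by_cases htR : t ∈ R
      · exact huc t htR.1
      · have h2 : (⟨e', he'⟩ : (T : Subgroup G)) * ⟨t, ht⟩ ∈ R.subgroupOf (T : Subgroup G) := by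
          refine (Subgroup.mul_mem_iff_of_index_two ?_).2 ⟨fun h => absurd (mem_subgroupOf.1 h) he'R,
            fun h => absurd (mem_subgroupOf.1 h) htR⟩
          have h1 := (R.subgroupOf (T : Subgroup G)).card_mul_index
          rw [hcardT, Nat.card_congr (subgroupOfEquivOfLe hle).toEquiv, mul_comm 2] at h1
          exact Nat.eq_of_mul_eq_mul_left Nat.card_pos h1
        have h3 : u * (e' * t) = e' * t * u := huc _ (mem_subgroupOf.1 h2).1
        rw [← mul_assoc, hue', mul_assoc, mul_assoc] at h3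
        exact mul_left_cancel h3
    obtain ⟨s, hs, hsu⟩ := (hTmem u).1 (hle huR)
    rcases hcen s hs (fun s' hs' => by
      have h4 := huT _ ((hTmem _).2 ⟨s', hs', rfl⟩)
      rw [← hsu] at h4
      set d := (c : G) * g
      rw [show d * s * d⁻¹ * (d * s' * d⁻¹) = d * (s * s') * d⁻¹ by group,
        show d * s' * d⁻¹ * (d * s * d⁻¹) = d * (s' * s) * d⁻¹ by group] at h4
      exact mul_left_cancel (mul_right_cancel h4)) with h | h
    · exact ne_one_of_order hu (by norm_num) (by rw [← hsu, h]; group)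
    · exact hxu (hxg.symm.trans (by rw [h] at hsu; exact hsu))
  have hw2 : w * w = 1 := by
    rw [hw, show e' * u * e'⁻¹ * (e' * u * e'⁻¹) = e' * (u * u) * e'⁻¹ by group, mul_self_invol hu,
      mul_one, mul_inv_cancel]
  have hwx : w ≠ x := by
    intro h
    apply hxu
    rw [hw, mul_inv_eq_iff_eq_mul, ← he'x] at h
    exact (mul_left_cancel h).symm
  -- `e` fixes `u`, so moves `w` to `w` or `u w`
  have hRe : ∀ r ∈ R, e * r * e⁻¹ ∈ R := fun r hr => by
    have hnS : (R.subgroupOf (S : Subgroup G)).Normal := Subgroup.normal_of_index_eq_two hidx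
    exact mem_subgroupOf.1 (hnS.conj_mem ⟨r, hr.1⟩ (mem_subgroupOf.2 hr) ⟨e, he⟩)
  set p := w * (e * w * e⁻¹) with hp
  have hee : e * e ∈ R := by
    rcases hxc (e * e) (mul_mem he he) with h | h
    · exact mem_inf_cent.2 ⟨mul_mem he he, h.symm⟩
    · exfalso
      apply ne_one_of_order hu (by norm_num : (2 : ℕ) ≠ 1)
      have h5 : x * (e * e) = e * e * x := by
        calc x * (e * e) = (x * e) * e := by group
          _ = u * e * (x * e) := by
            conv_lhs => rw [hxe]
            group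
          _ = (u * e * u) * (e * x) := by rw [hxe]; group
          _ = _ := by rw [huc e he, mul_assoc e u u, mul_self_invol hu, mul_one, mul_assoc]
      rw [h] at h5
      exact mul_eq_right.1 h5
  have hqR : e * w * e⁻¹ ∈ R := hRe w hwR
  have hpS : p ∈ (S : Subgroup G) := mul_mem hwR.1 hqR.1
  have hqc : ∀ r ∈ R, e * w * e⁻¹ * r = r * (e * w * e⁻¹) := fun r hr => by
    have hr' : e⁻¹ * r * e ∈ R := by
      have hnS : (R.subgroupOf (S : Subgroup G)).Normal := Subgroup.normal_of_index_eq_two hidx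
      simpa using mem_subgroupOf.1
        (hnS.conj_mem ⟨r, hr.1⟩ (mem_subgroupOf.2 hr) ⟨e⁻¹, inv_mem he⟩)
    calc e * w * e⁻¹ * r = e * (w * (e⁻¹ * r * e)) * e⁻¹ := by group
      _ = e * ((e⁻¹ * r * e) * w) * e⁻¹ := by rw [hwc _ hr']
      _ = _ := by group
  have hpR : ∀ r ∈ R, p * r = r * p := fun r hr =>
    ((show Commute w r from hwc r hr).mul_left (show Commute (e * w * e⁻¹) r from hqc r hr)).eq
  have hpe : p * e = e * p := by
    have h2 : e * (e * w * e⁻¹) * e⁻¹ = w := by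
      rw [show e * (e * w * e⁻¹) * e⁻¹ = (e * e) * w * (e * e)⁻¹ by group, ← hwc _ hee,
        mul_inv_cancel_right]
    have h3 : e * p * e⁻¹ = p := by
      rw [hp, show e * (w * (e * w * e⁻¹)) * e⁻¹ = (e * w * e⁻¹) * (e * (e * w * e⁻¹) * e⁻¹) by group,
        h2, ← hwc _ hqR]
    exact (mul_inv_eq_iff_eq_mul.1 h3).symm
  have hwe : w * e = e * w ∨ w * e = u * (e * w) := by
    rcases hcen p hpS (central_of_comm hu hxc he hxe hpe hpR) with h | h
    · left
      have h6 : e * w * e⁻¹ = w := by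
        rw [eq_inv_of_mul_eq_one_right h, inv_eq_of_mul_eq_one_right hw2]
      exact (mul_inv_eq_iff_eq_mul.1 h6).symm
    · right
      have h6 : e * w * e⁻¹ = w * u := by
        calc e * w * e⁻¹ = (w * w) * (e * w * e⁻¹) := by rw [hw2, one_mul]
          _ = w * u := by rw [mul_assoc]; exact congrArg _ h
      rw [mul_inv_eq_iff_eq_mul] at h6
      rw [h6, ← huc w hwR.1, ← mul_assoc, ← mul_assoc, mul_self_invol hu, one_mul]
  have hwux : w = u * x := by
    rcases central_four hu hxS hx2 huc hxc hcen he hxe hwR.1 hwc hwe with h | h | h | h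
    · exact absurd (conj_eq_one_iff.1 h) (ne_one_of_order hu (by norm_num))
    · exact absurd h hwu
    · exact absurd h hwx
    · exact h
  exact ⟨T, e, e', huS, huc, hxS, hxo, hxu, hxc, hle, hTx, he, hxe, he', he'R, hn2, hwux, hcard⟩

end CfsgLib.Recog.OrderSix
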