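import Cfsg.Agent.Lib.Recog.OrderSix.TopBasic
import Cfsg.Agent.Lib.Coprime.Action
import Cfsg.Agent.Lib.Coprime.PGroupFrattini

/-!
# The two-core has centre `⟨u⟩`
-/

set_option autoImplicit false
set_option linter.unusedSectionVars false
set_option linter.style.haveILetI false

namespace CfsgLib.Recog.OrderSix

open Subgroup CfsgLib.Char.SelfCentThree
open scoped commutatorElement

universe u

variable {G : Type u} [Group G] [Finite G] {u v s : G} {Q O : Subgroup G} {m : ℕ}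

/-- A central element of `Q` outside `⟨u⟩` gives a central involution outside `⟨u⟩`. -/
theorem Core.exists_central_invol (h : Core u v Q O m) : ∀ (k : ℕ) (z : G), z ∈ Q →
    (∀ q ∈ Q, z * q = q * z) → z ^ 2 ^ k = 1 → z = 1 ∨ z = u ∨
      ∃ x ∈ Q, (∀ q ∈ Q, x * q = q * x) ∧ x * x = 1 ∧ x ≠ 1 ∧ x ≠ u := by
  intro k
  induction k with
  | zero => intro z _ _ hz; exact Or.inl (by rwa [pow_zero, pow_one] at hz)
  | succ k ih =>
    intro z hz hzc hzk
    by_cases hz1 : z = 1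
    · exact Or.inl hz1
    by_cases hzu : z = u
    · exact Or.inr (Or.inl hzu)
    refine Or.inr (Or.inr ?_)
    have hz2c : ∀ q ∈ Q, z * z * q = q * (z * z) := fun q hq => by
      rw [mul_assoc, hzc q hq, ← mul_assoc, hzc q hq, mul_assoc]
    rcases ih (z * z) (mul_mem hz hz) hz2c (by rw [← pow_two, ← pow_mul, ← pow_succ']; exact hzk)
      with e | e | e
    · exact ⟨z, hz, hzc, e, hz1, hzu⟩
    · set z' := v * z * v⁻¹ with hz'
      have hz'Q : z' ∈ Q := h.vQ hz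
      have hz'2 : z' * z' = u := by
        rw [hz', show v * z * v⁻¹ * (v * z * v⁻¹) = v * (z * z) * v⁻¹ by group, e, ← h.six.huv,
          mul_inv_cancel_right]
      have hd2 : (z' * z⁻¹) * (z' * z⁻¹) = 1 := by
        have hcz : z⁻¹ * z' = z' * z⁻¹ :=
          (show Commute z z' from hzc z' hz'Q).inv_left.eq
        calc (z' * z⁻¹) * (z' * z⁻¹) = z' * (z⁻¹ * z') * z⁻¹ := by group
          _ = (z' * z') * (z * z)⁻¹ := by rw [hcz]; group
          _ = 1 := by rw [hz'2, e, mul_inv_cancel]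
      have hdc : ∀ q ∈ Q, z' * z⁻¹ * q = q * (z' * z⁻¹) := by
        intro q hq
        have hq' : v⁻¹ * q * v ∈ Q := h.conjQ' h.six.huv.symm hq
        have h1 : Commute z' q := by
          show v * z * v⁻¹ * q = q * (v * z * v⁻¹)
          calc v * z * v⁻¹ * q = v * (z * (v⁻¹ * q * v)) * v⁻¹ := by group
            _ = v * ((v⁻¹ * q * v) * z) * v⁻¹ := by rw [hzc _ hq']
            _ = _ := by group
        exact (h1.mul_left (show Commute z q from hzc q hq).inv_left).eq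
      have hne1 : z' * z⁻¹ ≠ 1 := fun e1 => by
        rcases h.fixQ hz (by
          have := mul_inv_eq_one.1 e1
          rw [hz', mul_inv_eq_iff_eq_mul] at this
          exact this.symm) with e2 | e2
        · exact hz1 e2
        · exact hzu e2
      have hneu : z' * z⁻¹ ≠ u := fun e1 => by
        have hv1 : v * z * v⁻¹ = u * z := by rw [← hz', ← e1, inv_mul_cancel_right]
        have huv' : v * u * v⁻¹ = u := by rw [← h.six.huv, mul_inv_cancel_right]
        have h3 : v * (v * (v * z * v⁻¹) * v⁻¹) * v⁻¹ = z := by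
          rw [show v * (v * (v * z * v⁻¹) * v⁻¹) * v⁻¹ = (v * v * v) * z * (v * v * v)⁻¹ by group,
            h.six.vvv, one_mul, inv_one, mul_one]
        rw [hv1, show v * (u * z) * v⁻¹ = (v * u * v⁻¹) * (v * z * v⁻¹) by group, huv', hv1,
          show u * (u * z) = z by rw [← mul_assoc, h.six.uu, one_mul], hv1] at h3
        exact h.six.u_ne (mul_eq_right.1 h3)
      exact ⟨_, mul_mem hz'Q (inv_mem hz), hdc, hd2, hne1, hneu⟩
    · exact e

/-- The centre of `Q` is `⟨u⟩` unless `Q = ⟨u⟩`. -/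
theorem Top.center_Q (h : Top u v Q O s) {z : G} (hz : z ∈ Q) (hzc : ∀ q ∈ Q, z * q = q * z) :
    z = 1 ∨ z = u := by
  classical
  haveI : Fact (Nat.Prime 2) := ⟨Nat.prime_two⟩
  have hc := h.core
  have hu := hc.six.hu
  have huu := hc.six.uu
  obtain ⟨k, hk⟩ := hc.hQ ⟨z, hz⟩
  rcases hc.exists_central_invol k z hz hzc (congrArg Subtype.val hk) with e | e | ⟨y, hy, hyc, hy2, hy1, hyu⟩
  · exact Or.inl e
  · exact Or.inr e
  exfalso
  have hcard2 : 2 < Nat.card Q := by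
    haveI := Fintype.ofFinite Q
    rw [Nat.card_eq_fintype_card]
    refine Fintype.two_lt_card_iff.2 ⟨1, ⟨u, hc.uQ⟩, ⟨y, hy⟩, ?_, ?_, ?_⟩
    · exact fun c => hc.six.u_ne (congrArg Subtype.val c).symm
    · exact fun c => hy1 (congrArg Subtype.val c).symm
    · exact fun c => hyu (congrArg Subtype.val c).symm
  obtain ⟨T, hT⟩ : ∃ T : G → G, ∀ g, T g = g * (v * g * v⁻¹) * (v * (v * g * v⁻¹) * v⁻¹) := ⟨_, fun g => rfl⟩
  let inV : G → Prop := fun g => g ∈ Q ∧ (∀ q ∈ Q, g * q = q * g) ∧ g * g = 1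
  have hvV : ∀ {g}, inV g → inV (v * g * v⁻¹) := by
    intro g ⟨h1, h2, h3⟩
    refine ⟨hc.vQ h1, fun q hq => ?_, ?_⟩
    · calc v * g * v⁻¹ * q = v * (g * (v⁻¹ * q * v)) * v⁻¹ := by group
        _ = v * ((v⁻¹ * q * v) * g) * v⁻¹ := by rw [h2 _ (hc.conjQ' hc.six.huv.symm hq)]
        _ = _ := by group
    · rw [show v * g * v⁻¹ * (v * g * v⁻¹) = v * (g * g) * v⁻¹ by group, h3]; group
  have hsV : ∀ {g}, inV g → inV (s * g * s⁻¹) := by
    intro g ⟨h1, h2, h3⟩
    refine ⟨h.sQ h1, fun q hq => ?_, ?_⟩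
    · calc s * g * s⁻¹ * q = s * (g * (s⁻¹ * q * s)) * s⁻¹ := by group
        _ = s * ((s⁻¹ * q * s) * g) * s⁻¹ := by rw [h2 _ (hc.conjQ' h.su hq)]
        _ = _ := by group
    · rw [show s * g * s⁻¹ * (s * g * s⁻¹) = s * (g * g) * s⁻¹ by group, h3]; group
  have hmulV : ∀ {a b}, inV a → inV b → inV (a * b) := fun {a b} ha hb =>
    ⟨mul_mem ha.1 hb.1, fun q hq => by rw [mul_assoc, hb.2.1 q hq, ← mul_assoc, ha.2.1 q hq, mul_assoc],
      by rw [mul_assoc, ← mul_assoc b, hb.2.1 a ha.1, mul_assoc a b, hb.2.2, mul_one, ha.2.2]⟩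
  have hvvv : ∀ g : G, v * (v * (v * g * v⁻¹) * v⁻¹) * v⁻¹ = g := fun g => by
    rw [show v * (v * (v * g * v⁻¹) * v⁻¹) * v⁻¹ = (v * v * v) * g * (v * v * v)⁻¹ by group,
      hc.six.vvv, one_mul, inv_one, mul_one]
  have hTfix : ∀ {g}, inV g → T g = 1 ∨ T g = u := by
    intro g hg
    have h1 := hvV hg
    have h2 := hvV h1
    refine hc.fixQ (hT g ▸ (hmulV (hmulV hg h1) h2).1) ?_
    have : v * T g * v⁻¹ = T g := by
      rw [hT, show v * (g * (v * g * v⁻¹) * (v * (v * g * v⁻¹) * v⁻¹)) * v⁻¹ =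
        (v * g * v⁻¹) * (v * (v * g * v⁻¹) * v⁻¹) * (v * (v * (v * g * v⁻¹) * v⁻¹) * v⁻¹) by group,
        hvvv, hg.2.1 _ (mul_mem h1.1 h2.1) |>.symm, ← mul_assoc]
    exact (mul_inv_eq_iff_eq_mul.1 this).symm
  have hsv : s * v = v⁻¹ * s := by rw [← h.sv]; group
  have hsv' : s * v⁻¹ = v * s := by
    calc s * v⁻¹ = (s * v * s⁻¹)⁻¹ * s := by group
      _ = v * s := by rw [h.sv, inv_inv]
  have hvinv : ∀ g : G, v⁻¹ * g * v = v * (v * g * v⁻¹) * v⁻¹ := fun g => by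
    calc v⁻¹ * g * v = v⁻¹ * ((v * v * v) * g * (v * v * v)⁻¹) * v := by
          rw [hc.six.vvv, one_mul, inv_one, mul_one]
      _ = _ := by group
  have hTs : ∀ {g}, inV g → T (s * g * s⁻¹) = T g := by
    intro g hg
    have e1 : v * (s * g * s⁻¹) * v⁻¹ = s * (v * (v * g * v⁻¹) * v⁻¹) * s⁻¹ := by
      rw [← hvinv]
      calc v * (s * g * s⁻¹) * v⁻¹ = (v * s) * g * (v * s)⁻¹ := by group
        _ = _ := by rw [← hsv']; group
    have e2 : v * (v * (s * g * s⁻¹) * v⁻¹) * v⁻¹ = s * (v * g * v⁻¹) * s⁻¹ := by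
      rw [← hvinv]
      calc v⁻¹ * (s * g * s⁻¹) * v = (v⁻¹ * s) * g * (v⁻¹ * s)⁻¹ := by group
        _ = _ := by rw [← hsv]; group
    have hswap : s * T g * s⁻¹ = T g := by
      rcases hTfix hg with e | e <;> rw [e]
      · group
      · rw [h.su, mul_inv_cancel_right]
    have h1 := hvV hg
    have h2 := hvV h1
    rw [← hswap, hT, hT, e2, e1, mul_assoc g, ← h2.2.1 _ h1.1]
    group
  -- the map `g ↦ g·g^s`
  have hm : ∀ {g}, inV g → inV (g * (s * g * s⁻¹)) ∧ T (g * (s * g * s⁻¹)) = 1 ∧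
      ∀ b ∈ h.S, g * (s * g * s⁻¹) * b = b * (g * (s * g * s⁻¹)) := by
    intro g hg
    have hsg := hsV hg
    refine ⟨hmulV hg hsg, ?_, ?_⟩
    · have e : T (g * (s * g * s⁻¹)) = T g * T (s * g * s⁻¹) := by
        have a1 := hvV hg
        have a2 := hvV a1
        have b1 := hvV hsg
        have b2 := hvV b1
        rw [hT, hT, hT]
        set g' := s * g * s⁻¹
        calc g * g' * (v * (g * g') * v⁻¹) * (v * (v * (g * g') * v⁻¹) * v⁻¹) =
            g * (g' * (v * g * v⁻¹)) * (v * g' * v⁻¹) * (v * (v * g * v⁻¹) * v⁻¹) *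
              (v * (v * g' * v⁻¹) * v⁻¹) := by group
          _ = g * (v * g * v⁻¹) * ((g' * (v * g' * v⁻¹)) * (v * (v * g * v⁻¹) * v⁻¹)) *
              (v * (v * g' * v⁻¹) * v⁻¹) := by rw [hsg.2.1 _ a1.1]; group
          _ = _ := by rw [← a2.2.1 _ (mul_mem hsg.1 b1.1)]; group
      rw [e, hTs hg]
      rcases hTfix hg with e' | e' <;> rw [e']
      · rw [one_mul]
      · exact huu
    · have hfix : s * (g * (s * g * s⁻¹)) * s⁻¹ = g * (s * g * s⁻¹) := by
        have hss : s * (s * g * s⁻¹) * s⁻¹ = g := by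
          rw [show s * (s * g * s⁻¹) * s⁻¹ = (s * s) * g * (s * s)⁻¹ by group]
          rcases h.ss with e | e <;> rw [e]
          · group
          · rw [(hc.qu hg.1).symm, mul_inv_cancel_right]
        rw [show s * (g * (s * g * s⁻¹)) * s⁻¹ = (s * g * s⁻¹) * (s * (s * g * s⁻¹) * s⁻¹) by group, hss,
          ← hg.2.1 _ hsg.1]
      rintro b (hb | hb)
      · exact (hmulV hg hsg).2.1 b hb
      · set w := g * (s * g * s⁻¹)
        calc w * b = (w * (b * s⁻¹)) * s := by group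
          _ = (b * s⁻¹) * w * s := by rw [(hmulV hg hsg).2.1 _ hb]
          _ = (b * s⁻¹) * (s * w * s⁻¹) * s := by rw [hfix]
          _ = _ := by group
  -- a nontrivial value
  have hyV : inV y := ⟨hy, hyc, hy2⟩
  obtain ⟨g0, hg0, hg0ne⟩ : ∃ g, inV g ∧ g * (s * g * s⁻¹) ≠ 1 := by
    by_contra hno
    push Not at hno
    have hfixs : ∀ g, inV g → s * g * s⁻¹ = g := fun g hg => by
      have := inv_eq_of_mul_eq_one_right (hno g hg)
      rw [← this, inv_eq_of_mul_eq_one_right hg.2.2]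
    have h1 := hfixs _ hyV
    have h2 := hfixs _ (hvV hyV)
    have e : s * (v * y * v⁻¹) * s⁻¹ = v * (v * (s * y * s⁻¹) * v⁻¹) * v⁻¹ := by
      rw [← hvinv]
      calc s * (v * y * v⁻¹) * s⁻¹ = (s * v) * y * (s * v)⁻¹ := by group
        _ = _ := by rw [hsv]; group
    rw [h1, h2] at e
    have hfix' : v * y * v⁻¹ = y := by
      have := congrArg (fun g => v⁻¹ * g * v) e
      simpa [mul_assoc] using this.symm
    exact (hc.fixQ hy (mul_inv_eq_iff_eq_mul.1 hfix').symm).elim hy1 hyu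
  obtain ⟨mm, hmm⟩ : ∃ mm, mm = g0 * (s * g0 * s⁻¹) := ⟨_, rfl⟩
  obtain ⟨hmV, hmT, hmS⟩ := hm hg0
  rw [← hmm] at hmV hmT hmS hg0ne
  have hmu : mm ≠ u := by
    intro e
    rw [e, hT, ← hc.six.huv, mul_inv_cancel_right, ← hc.six.huv, mul_inv_cancel_right, huu, one_mul] at hmT
    exact hc.six.u_ne hmT
  have hm2 : mm * mm = 1 := hmV.2.2
  have hmo : orderOf mm = 2 := orderOf_two hm2 hg0ne
  -- `Q` is not abelian
  have hnab : ¬ ∀ a ∈ Q, ∀ b ∈ Q, a * b = b * a := by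
    intro hab
    have hTq : ∀ q ∈ Q, T q = 1 ∨ T q = u := fun q hq => by
      have h1 := hc.vQ hq
      have h2 := hc.vQ h1
      refine hc.fixQ (hT q ▸ mul_mem (mul_mem hq h1) h2) ?_
      have : v * T q * v⁻¹ = T q := by
        rw [hT, show v * (q * (v * q * v⁻¹) * (v * (v * q * v⁻¹) * v⁻¹)) * v⁻¹ =
          (v * q * v⁻¹) * (v * (v * q * v⁻¹) * v⁻¹) * (v * (v * (v * q * v⁻¹) * v⁻¹) * v⁻¹) by group,
          hvvv, hab _ (mul_mem h1 h2) q hq, ← mul_assoc]
      exact (mul_inv_eq_iff_eq_mul.1 this).symm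
    have hTmul : ∀ a ∈ Q, ∀ b ∈ Q, T (a * b) = T a * T b := fun a ha b hb => by
      rw [hT, hT, hT]
      calc a * b * (v * (a * b) * v⁻¹) * (v * (v * (a * b) * v⁻¹) * v⁻¹) =
          a * (b * (v * a * v⁻¹)) * (v * b * v⁻¹) * (v * (v * a * v⁻¹) * v⁻¹) *
            (v * (v * b * v⁻¹) * v⁻¹) := by group
        _ = a * (v * a * v⁻¹) * ((b * (v * b * v⁻¹)) * (v * (v * a * v⁻¹) * v⁻¹)) *
            (v * (v * b * v⁻¹) * v⁻¹) := by rw [hab b hb _ (hc.vQ ha)]; group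
        _ = _ := by rw [hab _ (mul_mem hb (hc.vQ hb)) _ (hc.vQ (hc.vQ ha))]; group
    have hT1 : T 1 = 1 := by rw [hT]; group
    have hTinv : ∀ a ∈ Q, T a⁻¹ = (T a)⁻¹ := fun a ha => eq_inv_of_mul_eq_one_left (by
      rw [← hTmul _ (inv_mem ha) _ ha, inv_mul_cancel, hT1])
    have hTsq : ∀ q ∈ Q, T (s * q * s⁻¹) = T q := by
      intro q hq
      have e1 : v * (s * q * s⁻¹) * v⁻¹ = s * (v * (v * q * v⁻¹) * v⁻¹) * s⁻¹ := by
        rw [← hvinv]
        calc v * (s * q * s⁻¹) * v⁻¹ = (v * s) * q * (v * s)⁻¹ := by group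
          _ = _ := by rw [← hsv']; group
      have e2 : v * (v * (s * q * s⁻¹) * v⁻¹) * v⁻¹ = s * (v * q * v⁻¹) * s⁻¹ := by
        rw [← hvinv]
        calc v⁻¹ * (s * q * s⁻¹) * v = (v⁻¹ * s) * q * (v⁻¹ * s)⁻¹ := by group
          _ = _ := by rw [← hsv]; group
      have hswap : s * T q * s⁻¹ = T q := by
        rcases hTq q hq with e | e <;> rw [e]
        · group
        · rw [h.su, mul_inv_cancel_right]
      rw [← hswap, hT, hT, e2, e1, mul_assoc q, hab _ (hc.vQ hq) _ (hc.vQ (hc.vQ hq))]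
      group
    -- commutators of `S` have trivial trace
    let W : Subgroup G :=
      { carrier := {q | q ∈ Q ∧ T q = 1}
        one_mem' := ⟨one_mem _, hT1⟩
        mul_mem' := fun {a b} ha hb => ⟨mul_mem ha.1 hb.1, by rw [hTmul _ ha.1 _ hb.1, ha.2, hb.2, one_mul]⟩
        inv_mem' := fun {a} ha => ⟨inv_mem ha.1, by rw [hTinv _ ha.1, ha.2, inv_one]⟩ }
    have hD : ∀ q ∈ Q, q * (s * q⁻¹ * s⁻¹) ∈ W := fun q hq =>
      ⟨mul_mem hq (h.sQ (inv_mem hq)), by
        rw [hTmul _ hq _ (h.sQ (inv_mem hq)), hTsq _ (inv_mem hq), hTinv _ hq, mul_inv_cancel]⟩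
    have hcomm : ∀ a ∈ h.S, ∀ b ∈ h.S, ⁅a, b⁆ ∈ W := by
      have hqs : ∀ q ∈ Q, ∀ b, b * s⁻¹ ∈ Q → ⁅q, b⁆ ∈ W := fun q hq b hb => by
        have e : ⁅q, b⁆ = q * (s * q⁻¹ * s⁻¹) := by
          obtain ⟨p, hp, rfl⟩ : ∃ p ∈ Q, b = p * s := ⟨_, hb, (inv_mul_cancel_right b s).symm⟩
          rw [commutatorElement_def]
          calc q * (p * s) * q⁻¹ * (p * s)⁻¹ = (q * p) * (s * q⁻¹ * s⁻¹) * p⁻¹ := by group
            _ = q * (p * (s * q⁻¹ * s⁻¹)) * p⁻¹ := by group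
            _ = _ := by rw [hab p hp _ (h.sQ (inv_mem hq))]; group
        rw [e]; exact hD q hq
      rintro a (ha | ha) b (hb | hb)
      · rw [commutatorElement_eq_one_iff_mul_comm.2 (hab a ha b hb)]; exact one_mem _
      · exact hqs a ha b hb
      · rw [← commutatorElement_inv]; exact inv_mem (hqs b hb a ha)
      · obtain ⟨p, hp, rfl⟩ : ∃ p ∈ Q, a = p * s := ⟨_, ha, (inv_mul_cancel_right a s).symm⟩
        obtain ⟨r, hr, rfl⟩ : ∃ r ∈ Q, b = r * s := ⟨_, hb, (inv_mul_cancel_right b s).symm⟩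
        have e : ⁅p * s, r * s⁆ = (p * (s * p⁻¹ * s⁻¹)) * (r * (s * r⁻¹ * s⁻¹))⁻¹ := by
          rw [commutatorElement_def]
          calc p * s * (r * s) * (p * s)⁻¹ * (r * s)⁻¹ =
              p * ((s * r * s⁻¹) * (s * p⁻¹ * s⁻¹)) * r⁻¹ := by group
            _ = _ := by rw [hab _ (h.sQ hr) _ (h.sQ (inv_mem hp))]; group
        rw [e]; exact mul_mem (hD p hp) (inv_mem (hD r hr))
    obtain ⟨n, hn, e⟩ := h.exists_conj_normalizer (h.Q_le hmV.1) hmS hmo
    have e0 : mm = ⁅g0, s⁆ := by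
      rw [hmm, commutatorElement_def, inv_eq_of_mul_eq_one_right hg0.2.2]; group
    have : u ∈ W := by
      have e1 : n⁻¹ * mm * n⁻¹⁻¹ = u := by rw [← e]; group
      rw [← e1, e0, conjugate_commutatorElement]
      exact hcomm _ ((mem_normalizer_iff.1 (inv_mem hn) _).1 (h.Q_le hg0.1)) _
        ((mem_normalizer_iff.1 (inv_mem hn) _).1 h.s_mem)
    have h5 := this.2
    rw [hT, ← hc.six.huv, mul_inv_cancel_right, ← hc.six.huv, mul_inv_cancel_right, huu, one_mul] at h5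
    exact hc.six.u_ne h5
  -- conjugates of `Q` in `S`
  have key : ∀ n ∈ normalizer (h.S : Set G), Q.map (MulAut.conj n).toMonoidHom ≠ Q →
      n * mm * n⁻¹ = u := by
    intro n hn hne
    set Q' := Q.map (MulAut.conj n).toMonoidHom with hQ'
    have hQ'mem : ∀ g, g ∈ Q' ↔ n⁻¹ * g * n ∈ Q := by
      intro g
      refine ⟨?_, fun hg => ⟨_, hg, ?_⟩⟩
      · rintro ⟨q, hq, rfl⟩
        show n⁻¹ * (n * q * n⁻¹) * n ∈ Q
        rwa [show n⁻¹ * (n * q * n⁻¹) * n = q by group]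
      · show n * (n⁻¹ * g * n) * n⁻¹ = g
        group
    have hQ'S : Q' ≤ h.S := fun g hg => by
      rw [hQ'mem] at hg
      have := (mem_normalizer_iff.1 hn _).1 (h.Q_le hg)
      rwa [show n * (n⁻¹ * g * n) * n⁻¹ = g by group] at this
    have huQ' : u ∈ Q' := by
      rw [hQ'mem]
      refine h.center_le hcard2 ((mem_normalizer_iff''.1 hn u).1 h.uS) fun b hb => ?_
      have hb' : n * b * n⁻¹ ∈ h.S := (mem_normalizer_iff.1 hn b).1 hb
      calc n⁻¹ * u * n * b = n⁻¹ * (u * (n * b * n⁻¹)) * n := by group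
        _ = n⁻¹ * ((n * b * n⁻¹) * u) * n := by rw [h.S_u hb']
        _ = _ := by group
    obtain ⟨y, hy⟩ : ∃ y, y = n * g0 * n⁻¹ := ⟨_, rfl⟩
    obtain ⟨c, hcdef⟩ : ∃ c, c = n * mm * n⁻¹ := ⟨_, rfl⟩
    rw [← hcdef]
    have hyQ' : y ∈ Q' := by rw [hQ'mem, hy, show n⁻¹ * (n * g0 * n⁻¹) * n = g0 by group]; exact hg0.1
    have hyc' : ∀ r ∈ Q', y * r = r * y := fun r hr => by
      rw [hQ'mem] at hr
      calc y * r = n * (g0 * (n⁻¹ * r * n)) * n⁻¹ := by rw [hy]; group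
        _ = n * ((n⁻¹ * r * n) * g0) * n⁻¹ := by rw [hg0.2.1 _ hr]
        _ = _ := by rw [hy]; group
    have hy2' : y * y = 1 := by
      rw [hy, show n * g0 * n⁻¹ * (n * g0 * n⁻¹) = n * (g0 * g0) * n⁻¹ by group, hg0.2.2]; group
    have hcard' : Nat.card Q' = Nat.card Q := card_map_of_injective (MulAut.conj n).injective
    have hRidx : Nat.card Q ≤ 2 * Nat.card ↥(Q ⊓ Q') := by
      have e := (Q.subgroupOf Q').card_mul_index
      rw [← inf_subgroupOf_right, Nat.card_congr (subgroupOfEquivOfLe inf_le_right).toEquiv,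
        inf_subgroupOf_right, hcard'] at e
      have h1 : Q.relIndex Q' ≤ Q.relIndex h.S := relIndex_le_of_le_right hQ'S
        ((Q.subgroupOf h.S).index_ne_zero_of_finite)
      have h2 : Q.relIndex h.S = 2 := by
        have e2 := (Q.subgroupOf h.S).card_mul_index
        rw [Nat.card_congr (subgroupOfEquivOfLe h.Q_le).toEquiv, h.card_S, mul_comm 2] at e2
        exact Nat.eq_of_mul_eq_mul_left Nat.card_pos e2
      rw [← e]
      calc Nat.card ↥(Q ⊓ Q') * Q.relIndex Q' ≤ Nat.card ↥(Q ⊓ Q') * 2 :=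
            Nat.mul_le_mul_left _ (h2 ▸ h1)
        _ = _ := mul_comm _ _
    by_cases hyQ : y ∈ Q
    swap
    · -- then `Q` is small, so abelian
      exfalso
      have hb := h.card_cent_le (hQ'S hyQ') hyQ (A := Q ⊓ Q') inf_le_left
        fun a ha => (hyc' a ha.2).symm
      have h8 : Nat.card Q ≤ 8 := by nlinarith
      apply hnab
      intro a ha b hb'
      -- the centre has index at most two
      by_contra hne'
      let Z : Subgroup Q := center Q
      have hZ4 : 4 ≤ Nat.card Z := by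
        have hu' : (⟨u, hc.uQ⟩ : Q) ∈ Z := mem_center_iff.2 fun q => Subtype.ext (hc.qu q.2)
        have hm' : (⟨mm, hmV.1⟩ : Q) ∈ Z := mem_center_iff.2 fun q => Subtype.ext (hmV.2.1 q q.2).symm
        haveI := Fintype.ofFinite Z
        rw [Nat.card_eq_fintype_card]
        classical
        have hcard4 : ({1, ⟨_, hu'⟩, ⟨_, hm'⟩, ⟨_, mul_mem hu' hm'⟩} : Finset Z).card = 4 := by
          refine Finset.card_eq_four.2 ⟨_, _, _, _, ?_, ?_, ?_, ?_, ?_, ?_, rfl⟩ <;> intro e <;>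
            have e := congrArg (fun z : Z => ((z : Q) : G)) e <;> simp only [coe_mul, OneMemClass.coe_one] at e
          · exact hc.six.u_ne e.symm
          · exact hg0ne e.symm
          · exact hmu ((eq_inv_of_mul_eq_one_right e.symm).trans hc.six.uinv)
          · exact hmu e.symm
          · exact hg0ne (mul_eq_left.1 e.symm)
          · exact hc.six.u_ne (mul_eq_right.1 e.symm)
        exact hcard4 ▸ Finset.card_le_univ _
      have hidx : Nat.card (Q ⧸ Z) ≤ 2 := by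
        have e1 := Z.card_mul_index
        have e2 : 4 * Z.index ≤ 8 := le_trans (Nat.mul_le_mul_right _ hZ4) (e1 ▸ h8)
        rw [← index_eq_card]
        omega
      haveI : IsCyclic (Q ⧸ Z) := by
        rcases Nat.lt_or_ge (Nat.card (Q ⧸ Z)) 2 with h' | h'
        · haveI := (Finite.card_le_one_iff_subsingleton.1 (by omega) : Subsingleton (Q ⧸ Z))
          infer_instance
        · exact isCyclic_of_prime_card (p := 2) (le_antisymm hidx h')
      exact hne' (congrArg Subtype.val (commutative_of_cyclic_center_quotient (QuotientGroup.mk' Z)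
        (by rw [QuotientGroup.ker_mk']) ⟨a, ha⟩ ⟨b, hb'⟩))
    -- now `y` lies in `Q`
    have hcS : ∀ b ∈ h.S, c * b = b * c := fun b hb => by
      calc c * b = n * (mm * (n⁻¹ * b * n)) * n⁻¹ := by rw [hcdef]; group
        _ = n * ((n⁻¹ * b * n) * mm) * n⁻¹ := by rw [hmS _ ((mem_normalizer_iff''.1 hn b).1 hb)]
        _ = _ := by rw [hcdef]; group
    have hcQ : c ∈ Q := h.center_le hcard2
      (hcdef ▸ (mem_normalizer_iff.1 hn mm).1 (h.Q_le hmV.1)) hcS
    have hcne : c ≠ 1 := fun e => hg0ne (conj_eq_one_iff.1 (hcdef ▸ e))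
    obtain ⟨q, hqQ, hqQ'⟩ : ∃ q ∈ Q, q ∉ Q' := by
      by_contra hcon
      push Not at hcon
      exact hne (eq_of_le_of_card_ge hcon (le_of_eq hcard')).symm
    -- elements outside `Q'` all move `y` by `c`
    have hmove : ∀ r ∈ h.S, r ∉ Q' → ⁅y, r⁆ = c := by
      intro r hr hrQ'
      have hr' : n⁻¹ * r * n ∈ h.S := (mem_normalizer_iff''.1 hn r).1 hr
      obtain ⟨p, hp, hpr⟩ : ∃ p ∈ Q, n⁻¹ * r * n = p * s :=
        ⟨_, hr'.resolve_left (fun e => hrQ' ((hQ'mem r).2 e)), (inv_mul_cancel_right _ s).symm⟩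
      have e1 : ⁅g0, p * s⁆ = mm := by
        rw [hmm, commutatorElement_def]
        calc g0 * (p * s) * g0⁻¹ * (p * s)⁻¹ = g0 * p * (s * g0⁻¹ * s⁻¹) * p⁻¹ := by group
          _ = g0 * p * (s * g0 * s⁻¹) * p⁻¹ := by rw [inv_eq_of_mul_eq_one_right hg0.2.2]
          _ = _ := by rw [mul_assoc g0 p, ← (hsV hg0).2.1 p hp]; group
      rw [hcdef, ← e1, conjugate_commutatorElement, ← hy, ← hpr,
        show n * (n⁻¹ * r * n) * n⁻¹ = r by group]
    have hR2 : ∀ r ∈ Q, ⁅y, r⁆ = 1 ∨ ⁅y, r⁆ = c := fun r hr => by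
      by_cases hr' : r ∈ Q'
      · exact Or.inl (commutatorElement_eq_one_iff_mul_comm.2 (hyc' r hr'))
      · exact Or.inr (hmove r (h.Q_le hr) hr')
    -- an element of `Q` outside `Q'` moved into `Q'` by `v`
    set R := (Q ⊓ Q').subgroupOf Q with hR
    have hR2i : ∀ a b : G, a ∈ Q → b ∈ Q → a ∉ Q' → b ∉ Q' → a * b ∈ Q' := by
      intro a b ha hb ha' hb'
      have hidx : (Q'.subgroupOf h.S).index = 2 := by
        have e2 := (Q'.subgroupOf h.S).card_mul_index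
        rw [Nat.card_congr (subgroupOfEquivOfLe hQ'S).toEquiv, hcard', h.card_S, mul_comm 2] at e2
        exact Nat.eq_of_mul_eq_mul_left Nat.card_pos e2
      have := (Subgroup.mul_mem_iff_of_index_two hidx (a := ⟨a, h.Q_le ha⟩) (b := ⟨b, h.Q_le hb⟩)).2
        ⟨fun e => absurd (mem_subgroupOf.1 e) ha', fun e => absurd (mem_subgroupOf.1 e) hb'⟩
      exact mem_subgroupOf.1 this
    obtain ⟨q1, hq1Q, hq1', hq1v⟩ : ∃ r ∈ Q, r ∉ Q' ∧ v⁻¹ * r * v ∈ Q' := by
      by_contra hcon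
      push Not at hcon
      have hinv : ∀ r ∈ Q ⊓ Q', v * r * v⁻¹ ∈ Q ⊓ Q' := fun r hr => by
        refine ⟨hc.vQ hr.1, ?_⟩
        by_contra h'
        have := hcon _ (hc.vQ hr.1) h'
        rw [show v⁻¹ * (v * r * v⁻¹) * v = r by group] at this
        exact this hr.2
      have hinv' : ∀ r ∈ Q ⊓ Q', v⁻¹ * r * v ∈ Q ⊓ Q' := fun r hr => by
        have := hinv _ (hinv r hr)
        rwa [← hvinv] at this
      have hAN : zpowers v ≤ normalizer ((Q ⊓ Q' : Subgroup G) : Set G) := by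
        rw [zpowers_le, mem_normalizer_iff]
        refine fun r => ⟨hinv r, fun hr => ?_⟩
        have := hinv' _ hr
        rwa [show v⁻¹ * (v * r * v⁻¹) * v = r by group] at this
      have hqN : q ∈ normalizer ((Q ⊓ Q' : Subgroup G) : Set G) := by
        have hpre : ∀ t r, t ∈ Q → t ∉ Q' → r ∈ Q ⊓ Q' → t * r * t⁻¹ ∈ Q ⊓ Q' := fun t r ht ht' hr => by
          refine mem_inf.2 ⟨mul_mem (mul_mem ht (mem_inf.1 hr).1) (inv_mem ht), ?_⟩
          exact hR2i _ _ (mul_mem ht (mem_inf.1 hr).1) (inv_mem ht)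
            (fun e => ht' (by have := mul_mem e (inv_mem (mem_inf.1 hr).2); rwa [mul_inv_cancel_right] at this))
            fun e => ht' (inv_mem_iff.1 e)
        rw [mem_normalizer_iff]
        refine fun r => ⟨hpre q r hqQ hqQ', fun hr => ?_⟩
        have := hpre q⁻¹ _ (inv_mem hqQ) (fun e => hqQ' (inv_mem_iff.1 e)) hr
        rwa [show q⁻¹ * (q * r * q⁻¹) * q⁻¹⁻¹ = r by group] at this
      have hfixq : ∀ a ∈ zpowers v, a * q * a⁻¹ * q⁻¹ ∈ Q ⊓ Q' := fun a ha => by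
        have haq : a * q * a⁻¹ ∈ Q := hc.conjQ (by
          obtain ⟨j, rfl⟩ := mem_zpowers_iff.1 ha
          exact ((show Commute v u from hc.six.huv.symm).zpow_left j).eq) hqQ
        refine mem_inf.2 ⟨mul_mem haq (inv_mem hqQ), hR2i _ _ haq (inv_mem hqQ) (fun e => hqQ' ?_)
          fun e => hqQ' ((inv_mem_iff (H := Q')).1 e)⟩
        have h1 : a * q * a⁻¹ ∈ Q ⊓ Q' := ⟨haq, e⟩
        have h2 := (mem_normalizer_iff.1 (hAN ha) q).2 h1
        exact h2.2
      have hcop : (Nat.card (zpowers v)).Coprime (Nat.card ↥(Q ⊓ Q')) := by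
        obtain ⟨j, hj⟩ := IsPGroup.iff_card.1 (hc.hQ.to_le (inf_le_left : Q ⊓ Q' ≤ Q))
        rw [Nat.card_zpowers, hc.six.hv, hj]
        exact Nat.Coprime.pow_right j (by norm_num)
      obtain ⟨r, hr, hrfix⟩ := CfsgLib.Coprime.exists_fixed_in_coset hAN hcop
        (Or.inl (CfsgLib.Coprime.isSolvable_of_isMulCommutative inferInstance)) hqN hfixq
      rcases hc.fixQ (mul_mem hqQ hr.1) (mem_centralizer_iff.1 hrfix v (mem_zpowers v)).symm with e | e
      · exact hqQ' (eq_inv_of_mul_eq_one_left e ▸ inv_mem hr.2)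
      · exact hqQ' (eq_mul_inv_of_mul_eq e ▸ mul_mem huQ' (inv_mem hr.2))
    -- the trace of `y` is central in `Q`
    obtain ⟨y1, hy1d⟩ : ∃ y1, y1 = v * y * v⁻¹ := ⟨_, rfl⟩
    obtain ⟨y2, hy2d⟩ : ∃ y2, y2 = v * y1 * v⁻¹ := ⟨_, rfl⟩
    obtain ⟨c1, hc1d⟩ : ∃ c1, c1 = v * c * v⁻¹ := ⟨_, rfl⟩
    obtain ⟨c2, hc2d⟩ : ∃ c2, c2 = v * c1 * v⁻¹ := ⟨_, rfl⟩
    have hy1Q : y1 ∈ Q := hy1d ▸ hc.vQ hyQ
    have hy2Q : y2 ∈ Q := hy2d ▸ hc.vQ hy1Q
    have hshift : ∀ (a d : G), (∀ r ∈ Q, ⁅a, r⁆ = 1 ∨ ⁅a, r⁆ = d) → ∀ r ∈ Q,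
        ⁅v * a * v⁻¹, r⁆ = 1 ∨ ⁅v * a * v⁻¹, r⁆ = v * d * v⁻¹ := by
      intro a d had r hr
      have := had _ (hc.conjQ' hc.six.huv.symm hr)
      rw [show r = v * (v⁻¹ * r * v) * v⁻¹ by group, ← conjugate_commutatorElement]
      rcases this with e | e <;> rw [e]
      · left; group
      · exact Or.inr rfl
    have hy1' : ∀ r ∈ Q, ⁅y1, r⁆ = 1 ∨ ⁅y1, r⁆ = c1 := hy1d ▸ hc1d ▸ hshift y c hR2
    have hy2' : ∀ r ∈ Q, ⁅y2, r⁆ = 1 ∨ ⁅y2, r⁆ = c2 := hy2d ▸ hc2d ▸ hshift y1 c1 hy1'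
    have hcV : inV c := ⟨hcQ, fun r hr => hcS r (h.Q_le hr), by
      rw [hcdef, show n * mm * n⁻¹ * (n * mm * n⁻¹) = n * (mm * mm) * n⁻¹ by group, hm2]; group⟩
    have hc1V : inV c1 := hc1d ▸ hvV hcV
    have hc2V : inV c2 := hc2d ▸ hvV hc1V
    -- the centre of `Q`
    let Z : Subgroup G := Q ⊓ centralizer (Q : Set G)
    have hZmem : ∀ {a}, a ∈ Z → ∀ r ∈ Q, a * r = r * a := fun ha r hr =>
      (mem_centralizer_iff.1 ha.2 r hr).symm
    have hZin : ∀ {a}, inV a → a ∈ Z := fun ha =>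
      ⟨ha.1, mem_centralizer_iff.2 fun r hr => (ha.2.1 r hr).symm⟩
    obtain ⟨Y, hY⟩ : ∃ Y, Y = y * y1 * y2 := ⟨_, rfl⟩
    have hYQ : Y ∈ Q := hY ▸ mul_mem (mul_mem hyQ hy1Q) hy2Q
    have hvY : v * Y * v⁻¹ * Y⁻¹ ∈ Z := by
      have e : v * Y * v⁻¹ = y1 * y2 * y := by
        rw [hY, show v * (y * y1 * y2) * v⁻¹ = (v * y * v⁻¹) * (v * y1 * v⁻¹) * (v * y2 * v⁻¹) by group,
          ← hy1d, ← hy2d, hy2d, hy1d, hvvv]
      rw [e, hY, show y1 * y2 * y * (y * y1 * y2)⁻¹ = ⁅y, y1 * y2⁆⁻¹ by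
        rw [commutatorElement_def]; group]
      rcases hR2 _ (mul_mem hy1Q hy2Q) with e' | e' <;> rw [e']
      · exact inv_mem (one_mem _)
      · exact inv_mem (hZin hcV)
    have hZn : ∀ g : G, g * u = u * g → ∀ r ∈ Z, g * r * g⁻¹ ∈ Z := fun g hg r hr =>
      ⟨hc.conjQ hg hr.1, mem_centralizer_iff.2 fun b hb => by
        have := hZmem hr _ (hc.conjQ' hg hb)
        calc b * (g * r * g⁻¹) = g * ((g⁻¹ * b * g) * r) * g⁻¹ := by group
          _ = g * (r * (g⁻¹ * b * g)) * g⁻¹ := by rw [this]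
          _ = _ := by group⟩
    have hvN : ∀ g : G, g * u = u * g → g ∈ normalizer (Z : Set G) := fun g hg => by
      rw [mem_normalizer_iff]
      refine fun r => ⟨hZn g hg r, fun hr => ?_⟩
      have := hZn g⁻¹ ((show Commute g u from hg).inv_left.eq) _ hr
      rwa [show g⁻¹ * (g * r * g⁻¹) * g⁻¹⁻¹ = r by group] at this
    have hYZ : Y ∈ Z := by
      have hAN : zpowers v ≤ normalizer (Z : Set G) := zpowers_le.2 (hvN v hc.six.huv.symm)
      have hcop : (Nat.card (zpowers v)).Coprime (Nat.card Z) := by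
        obtain ⟨j, hj⟩ := IsPGroup.iff_card.1 (hc.hQ.to_le (inf_le_left : Z ≤ Q))
        rw [Nat.card_zpowers, hc.six.hv, hj]
        exact Nat.Coprime.pow_right j (by norm_num)
      have hfix : ∀ a ∈ zpowers v, a * Y * a⁻¹ * Y⁻¹ ∈ Z := by
        intro a ha
        obtain ⟨i, hi⟩ : ∃ i : ℕ, v ^ i = a :=
          (Submonoid.mem_powers_iff _ _).1 (mem_powers_iff_mem_zpowers.2 ha)
        subst hi
        clear ha
        induction i with
        | zero => simp
        | succ i ih =>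
          rw [show v ^ (i + 1) * Y * (v ^ (i + 1))⁻¹ * Y⁻¹ =
            v * (v ^ i * Y * (v ^ i)⁻¹ * Y⁻¹) * v⁻¹ * (v * Y * v⁻¹ * Y⁻¹) by rw [pow_succ']; group]
          exact mul_mem (hZn v hc.six.huv.symm _ ih) hvY
      obtain ⟨r, hr, hrfix⟩ := CfsgLib.Coprime.exists_fixed_in_coset hAN hcop
        (Or.inl (CfsgLib.Coprime.isSolvable_of_isMulCommutative inferInstance)) (hvN Y (hc.qu hYQ)) hfix
      have huZ : u ∈ Z := ⟨hc.uQ, mem_centralizer_iff.2 fun b hb => hc.qu hb⟩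
      rcases hc.fixQ (mul_mem hYQ hr.1) (mem_centralizer_iff.1 hrfix v (mem_zpowers v)).symm with e | e
      · rw [eq_inv_of_mul_eq_one_left e]; exact inv_mem hr
      · rw [eq_mul_inv_of_mul_eq e]; exact mul_mem huZ (inv_mem hr)
    have hyc1 : ⁅y, q1⁆ = c := hmove q1 (h.Q_le hq1Q) hq1'
    have hy1c : ⁅y1, q1⁆ = 1 := by
      rw [hy1d, show q1 = v * (v⁻¹ * q1 * v) * v⁻¹ by group, ← conjugate_commutatorElement,
        commutatorElement_eq_one_iff_mul_comm.2 (hyc' _ hq1v)]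
      group
    have hprod : c * ⁅y2, q1⁆ = 1 := by
      have e := commutatorElement_eq_one_iff_mul_comm.2 (hZmem hYZ q1 hq1Q)
      have e1 : ⁅y * y1, q1⁆ = c := by
        rw [commutatorElement_mul_left_eq_conj_mul, hy1c, hyc1]; group
      rw [hY, commutatorElement_mul_left_eq_conj_mul, e1] at e
      have hz : ∀ r ∈ Q, ⁅y2, q1⁆ * r = r * ⁅y2, q1⁆ := fun r hr => by
        rcases hy2' q1 hq1Q with e2 | e2 <;> rw [e2]
        · rw [one_mul, mul_one]
        · exact hc2V.2.1 r hr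
      rw [← hz _ (mul_mem hyQ hy1Q), mul_inv_cancel_right] at e
      rw [← hz c hcQ]
      exact e
    have hfin : c2 = c := by
      rcases hy2' q1 hq1Q with e | e <;> rw [e] at hprod
      · exact absurd (by rwa [mul_one] at hprod) hcne
      · rw [eq_inv_of_mul_eq_one_right hprod, inv_eq_of_mul_eq_one_right hcV.2.2]
    refine (hc.fixQ hcQ ?_).resolve_left hcne
    rw [hc2d, hc1d, ← hvinv] at hfin
    calc c * v = v * (v⁻¹ * c * v) := by group
      _ = v * c := by rw [hfin]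
  -- three conjugates of `u`
  have hum : u * mm = mm * u := hc.qu hmV.1 |>.symm
  have hxS : u * mm ∈ h.S := mul_mem h.uS (h.Q_le hmV.1)
  have hxo : orderOf (u * mm) = 2 := orderOf_two
    (by rw [show u * mm * (u * mm) = u * (mm * u) * mm by group, ← hum]; rw [← mul_assoc u u, huu, one_mul, hm2])
    fun e => hmu ((eq_inv_of_mul_eq_one_right e).trans hc.six.uinv)
  have hxc : ∀ b ∈ h.S, u * mm * b = b * (u * mm) := fun b hb => by
    rw [mul_assoc, hmS b hb, ← mul_assoc, h.S_u hb, mul_assoc]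
  obtain ⟨g, hg, hgx⟩ := h.exists_conj_normalizer hxS hxc hxo
  by_cases hgQ : Q.map (MulAut.conj g).toMonoidHom = Q
  · -- `g` interchanges `u` and `u * mm`
    have hgm : g * mm * g⁻¹ = mm := by
      have hQg : ∀ q, q ∈ Q → g * q * g⁻¹ ∈ Q := fun q hq => hgQ ▸ ⟨q, hq, rfl⟩
      have hQg' : ∀ q, q ∈ Q → g⁻¹ * q * g ∈ Q := fun q hq => by
        rw [← hgQ] at hq
        obtain ⟨p, hp, rfl⟩ := hq
        show g⁻¹ * (g * p * g⁻¹) * g ∈ Q
        rwa [show g⁻¹ * (g * p * g⁻¹) * g = p by group]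
      have hs' : g * s * g⁻¹ ∈ h.S := (mem_normalizer_iff.1 hg s).1 h.s_mem
      have hs'Q : g * s * g⁻¹ ∉ Q := fun e => h.s_not (by
        have := hQg' _ e
        rwa [show g⁻¹ * (g * s * g⁻¹) * g = s by group] at this)
      obtain ⟨p, hp, hps⟩ : ∃ p ∈ Q, g * s * g⁻¹ = p * s :=
        ⟨_, hs'.resolve_left hs'Q, (inv_mul_cancel_right _ s).symm⟩
      obtain ⟨y', hy'⟩ : ∃ y', y' = g * g0 * g⁻¹ := ⟨_, rfl⟩
      have hy'V : inV y' := by
        refine ⟨hy' ▸ hQg _ hg0.1, fun q hq => ?_, ?_⟩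
        · calc y' * q = g * (g0 * (g⁻¹ * q * g)) * g⁻¹ := by rw [hy']; group
            _ = g * ((g⁻¹ * q * g) * g0) * g⁻¹ := by rw [hg0.2.1 _ (hQg' q hq)]
            _ = _ := by rw [hy']; group
        · rw [hy', show g * g0 * g⁻¹ * (g * g0 * g⁻¹) = g * (g0 * g0) * g⁻¹ by group, hg0.2.2]; group
      have e1 : g * mm * g⁻¹ = y' * (s * y' * s⁻¹) := by
        rw [hmm, show g * (g0 * (s * g0 * s⁻¹)) * g⁻¹ =
          (g * g0 * g⁻¹) * ((g * s * g⁻¹) * (g * g0 * g⁻¹) * (g * s * g⁻¹)⁻¹) by group, ← hy', hps,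
          show p * s * y' * (p * s)⁻¹ = p * (s * y' * s⁻¹) * p⁻¹ by group,
          ← (hsV hy'V).2.1 p hp, mul_inv_cancel_right]
      have hT' : T (g * mm * g⁻¹) = 1 := e1 ▸ (hm hy'V).2.1
      -- both lie in the four group of `u` and `mm`
      obtain ⟨g', hg', hgm'⟩ : ∃ g' ∈ normalizer (h.S : Set G), g' * u * g'⁻¹ = mm :=
        h.exists_conj_normalizer (h.Q_le hmV.1) hmS hmo
      by_contra hne
      -- `mm` would have trivial and nontrivial orbit lengths
      have hg'Q : Q.map (MulAut.conj g').toMonoidHom ≠ Q := by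
        intro e
        have hQ' : ∀ q, q ∈ Q → g'⁻¹ * q * g' ∈ Q := fun q hq => by
          rw [← e] at hq
          obtain ⟨p, hp, rfl⟩ := hq
          show g'⁻¹ * (g' * p * g'⁻¹) * g' ∈ Q
          rwa [show g'⁻¹ * (g' * p * g'⁻¹) * g' = p by group]
        have hs2 : g'⁻¹ * s * g' ∈ h.S := (mem_normalizer_iff''.1 hg' s).1 h.s_mem
        have hs2Q : g'⁻¹ * s * g' ∉ Q := fun e' => h.s_not (by
          have h7 : g' * (g'⁻¹ * s * g') * g'⁻¹ ∈ Q.map (MulAut.conj g').toMonoidHom := ⟨_, e', rfl⟩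
          rw [e, show g' * (g'⁻¹ * s * g') * g'⁻¹ = s by group] at h7
          exact h7)
        obtain ⟨p, hp, hps⟩ : ∃ p ∈ Q, g'⁻¹ * s * g' = p * s :=
          ⟨_, hs2.resolve_left hs2Q, (inv_mul_cancel_right _ s).symm⟩
        obtain ⟨y2, hy2e⟩ : ∃ y2, y2 = g'⁻¹ * g0 * g' := ⟨_, rfl⟩
        have hy2V : inV y2 := by
          refine ⟨hy2e ▸ hQ' _ hg0.1, fun q hq => ?_, ?_⟩
          · have hq' : g' * q * g'⁻¹ ∈ Q := e ▸ ⟨q, hq, rfl⟩
            calc y2 * q = g'⁻¹ * (g0 * (g' * q * g'⁻¹)) * g' := by rw [hy2e]; group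
              _ = g'⁻¹ * ((g' * q * g'⁻¹) * g0) * g' := by rw [hg0.2.1 _ hq']
              _ = _ := by rw [hy2e]; group
          · rw [hy2e, show g'⁻¹ * g0 * g' * (g'⁻¹ * g0 * g') = g'⁻¹ * (g0 * g0) * g' by group, hg0.2.2]
            group
        have e2 : u = y2 * (s * y2 * s⁻¹) := by
          rw [show u = g'⁻¹ * (g' * u * g'⁻¹) * g' by group, hgm', hmm,
            show g'⁻¹ * (g0 * (s * g0 * s⁻¹)) * g' =
              (g'⁻¹ * g0 * g') * ((g'⁻¹ * s * g') * (g'⁻¹ * g0 * g') * (g'⁻¹ * s * g')⁻¹) by group,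
            ← hy2e, hps, show p * s * y2 * (p * s)⁻¹ = p * (s * y2 * s⁻¹) * p⁻¹ by group,
            ← (hsV hy2V).2.1 p hp, mul_inv_cancel_right]
        have h5 := (hm hy2V).2.1
        rw [← e2, hT, ← hc.six.huv, mul_inv_cancel_right, ← hc.six.huv, mul_inv_cancel_right, huu,
          one_mul] at h5
        exact hc.six.u_ne h5
      -- composite
      have h1 := key _ hg' hg'Q
      have hcomp : Q.map (MulAut.conj (g' * g)).toMonoidHom ≠ Q := by
        intro e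
        apply hg'Q
        calc Q.map (MulAut.conj g').toMonoidHom =
            (Q.map (MulAut.conj g).toMonoidHom).map (MulAut.conj g').toMonoidHom := by rw [hgQ]
          _ = Q.map (MulAut.conj (g' * g)).toMonoidHom := by
            rw [map_map, show ((MulAut.conj g').toMonoidHom.comp (MulAut.conj g).toMonoidHom) =
              (MulAut.conj (g' * g)).toMonoidHom by ext a; simp [mul_assoc]]
          _ = Q := e
      have h2 := key _ (mul_mem hg' hg) hcomp
      apply hne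
      rw [show g' * g * mm * (g' * g)⁻¹ = g' * (g * mm * g⁻¹) * g'⁻¹ by group, ← h1] at h2
      exact mul_left_cancel (mul_right_cancel h2)
    have hgg : g * (u * mm) * g⁻¹ = u := by
      rw [show g * (u * mm) * g⁻¹ = (g * u * g⁻¹) * (g * mm * g⁻¹) by group, hgx, hgm, mul_assoc, hm2,
        mul_one]
    -- an odd power of `g` lies in `S`
    obtain ⟨P, hP⟩ := h.exists_sylow
    have hgn : g ^ (h.S.relIndex (normalizer (h.S : Set G))) ∈ h.S := by
      have := (h.S.subgroupOf (normalizer (h.S : Set G))).pow_index_mem ⟨g, hg⟩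
      rwa [mem_subgroupOf, SubgroupClass.coe_pow] at this
    have hodd : Odd (h.S.relIndex (normalizer (h.S : Set G))) := by
      refine Nat.odd_iff.2 ?_
      have hd : h.S.relIndex (normalizer (h.S : Set G)) ∣ h.S.index :=
        relIndex_dvd_index_of_le le_normalizer
      have := P.not_dvd_index
      rw [hP] at this
      have h2 : ¬ 2 ∣ h.S.relIndex (normalizer (h.S : Set G)) := fun e => this (e.trans hd)
      omega
    obtain ⟨i, hi⟩ := hodd
    have hpow : ∀ i, g ^ (2 * i) * u * (g ^ (2 * i))⁻¹ = u := by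
      intro i
      induction i with
      | zero => simp
      | succ i ih =>
        rw [show g ^ (2 * (i + 1)) = g * g * g ^ (2 * i) by rw [← pow_two, ← pow_add]; ring_nf,
          show g * g * g ^ (2 * i) * u * (g * g * g ^ (2 * i))⁻¹ =
            g * (g * (g ^ (2 * i) * u * (g ^ (2 * i))⁻¹) * g⁻¹) * g⁻¹ by group, ih, hgx, hgg]
    have e : g ^ (2 * i + 1) * u * (g ^ (2 * i + 1))⁻¹ = u * mm := by
      rw [pow_succ', show g * g ^ (2 * i) * u * (g * g ^ (2 * i))⁻¹ =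
        g * (g ^ (2 * i) * u * (g ^ (2 * i))⁻¹) * g⁻¹ by group, hpow, hgx]
    rw [hi] at hgn
    rw [← h.S_u hgn, mul_inv_cancel_right] at e
    exact hg0ne (mul_eq_left.1 e.symm)
  · have h1 : g * mm * g⁻¹ = u := key g hg hgQ
    have hginv : Q.map (MulAut.conj g⁻¹).toMonoidHom ≠ Q := by
      intro e
      apply hgQ
      conv_lhs => rw [← e]
      rw [map_map, show (MulAut.conj g).toMonoidHom.comp (MulAut.conj g⁻¹).toMonoidHom =
        MonoidHom.id G by
          ext a; show g * (g⁻¹ * a * g⁻¹⁻¹) * g⁻¹ = a; group, map_id]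
    have h2 := key g⁻¹ (inv_mem hg) hginv
    rw [inv_inv] at h2
    have h3 : mm = g * u * g⁻¹ := by rw [← h2]; group
    rw [hgx] at h3
    exact hc.six.u_ne (mul_eq_right.1 h3.symm)

end CfsgLib.Recog.OrderSix
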