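import Cfsg.Agent.Lib.Recog.OrderSix.TopSplit
import Cfsg.Agent.Lib.Recog.OrderSix.Lines
import Cfsg.Agent.Lib.PGroup.FrattiniLe
import Cfsg.Agent.Lib.Spor.ExtraSymThree.Setup
import Cfsg.Agent.Lib.Spor.ExtraSymThree.Types
import Cfsg.Agent.Lib.Spor.ExtraSymThree.BPattern

/-!
# The extraspecial group of order `32`
-/

set_option autoImplicit false
set_option linter.unusedSectionVars false
set_option linter.style.haveILetI false
set_option maxRecDepth 100000

namespace CfsgLib.Recog.OrderSix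

open Subgroup CfsgLib.Char.SelfCentThree CfsgLib.Spor.ExtraSymThree
open scoped commutatorElement

universe u

theorem code_split {sw e : Bool} {c k : ℕ} (hc : c < 32) :
    lMul sw e k c / 32 % 3 = k / 32 % 3 ∧ lMul sw e k c / 96 % 2 = k / 96 % 2 := by
  have hc1 : c / 32 = 0 := Nat.div_eq_of_lt hc
  have hc2 : c / 96 = 0 := Nat.div_eq_of_lt (by omega)
  unfold lMul
  simp only [hc1, hc2, Nat.zero_mod, Nat.mul_zero, ite_self, Nat.add_zero]
  generalize hq : qMul _ _ = q
  have hq32 : q < 32 := hq ▸ qMul_lt_any _ _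
  omega

theorem code_split' {sw e : Bool} {d k : ℕ} :
    lMul sw e d k / 32 % 3 = (d / 32 % 3 + (if d / 96 % 2 = 1 then 2 * (k / 32 % 3) else k / 32 % 3)) % 3 ∧
      lMul sw e d k / 96 % 2 = (d / 96 % 2 + k / 96 % 2) % 2 := by
  unfold lMul
  generalize hq : qMul _ _ = q
  have hq32 : q < 32 := hq ▸ qMul_lt_any _ _
  omega

theorem sw_witness : ∃ c < 32, lMul true false c c = 0 ∧ c ≠ 0 ∧ c ≠ 1 ∧ c ∉ [10, 20, 30, 11, 21, 31] := by
  decide +kernel

theorem split_witness : (∀ r ∈ [2, 8, 10], r ∈ bReps ∧ r < 32 ∧ lMul false false r r = 0) ∧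
    ∀ P ∈ goodPatterns, ¬ (2 ∈ P ∧ 8 ∈ P ∧ 10 ∈ P) := by decide +kernel

variable {G : Type u} [Group G] [Finite G] {u v s : G} {Q O : Subgroup G}

/-- The extraspecial case of order `32` with a noncentral involution. -/
theorem Top.false_of_extraspecial (h : Top u v Q O s) (hQ32 : Nat.card Q = 32)
    (hsq : ∀ a ∈ Q, a * a = 1 ∨ a * a = u)
    (hcom : ∀ a ∈ Q, ∀ b ∈ Q, a * b = b * a ∨ a * b = u * (b * a))
    {x : G} (hx : x ∈ Q) (hx2 : x * x = 1) (hx1 : x ≠ 1) (hxu : x ≠ u) : False := by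
  classical
  haveI : Fact (Nat.Prime 2) := ⟨Nat.prime_two⟩
  haveI : Fact (Nat.Prime 3) := ⟨Nat.prime_three⟩
  have hc := h.core
  set C := centralizer ({u} : Set G) with hC
  set N := normalizer (O : Set G) with hN
  have hCN : C ≤ N := hc.On
  set ON : Subgroup N := O.subgroupOf N with hON
  let π : ↥N →* ↥N ⧸ ON := QuotientGroup.mk' ON
  have hπ1 : ∀ a : ↥N, π a = 1 ↔ (a : G) ∈ O := fun a =>
    (QuotientGroup.eq_one_iff a).trans mem_subgroupOf
  have huC : u ∈ C := mem_centralizer_singleton_iff.2 rfl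
  set uN : ↥N := ⟨u, hCN huC⟩ with huN
  set vN : ↥N := ⟨v, hCN hc.v_mem⟩ with hvN
  set sN : ↥N := ⟨s, hCN (mem_centralizer_singleton_iff.2 h.su)⟩ with hsN
  set z := π uN with hz
  have hzo : orderOf z = 2 := by
    refine orderOf_two ?_ fun e => hc.six.u_ne (hc.inter hc.uQ ((hπ1 uN).1 e))
    rw [hz, ← map_mul, show uN * uN = 1 from Subtype.ext hc.six.uu, map_one]
  -- the centralizer in the quotient
  set L := centralizer ({z} : Set (↥N ⧸ ON)) with hL
  have hLmem : ∀ a : ↥N, π a ∈ L ↔ (a : G) * u = u * a := by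
    intro a
    rw [hL, mem_centralizer_singleton_iff, hz, ← map_mul, ← map_mul]
    constructor
    · intro e
      have e2 : ((uN * a)⁻¹ * (a * uN) : ↥N) ∈ ON := QuotientGroup.eq.1 e.symm
      rw [hON, mem_subgroupOf] at e2
      simp only [coe_mul, coe_inv, huN] at e2
      set o := (u * (a : G))⁻¹ * ((a : G) * u) with ho
      have ho1 : o * o = 1 := by
        have hou : o * u = u * o := hc.ou e2
        have e3 : o * u = (a : G)⁻¹ * u * a := by
          rw [ho, mul_inv_rev, hc.six.uinv, show (a : G)⁻¹ * u * ((a : G) * u) * u =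
            (a : G)⁻¹ * u * a * (u * u) by group, hc.six.uu, mul_one]
        have e4 : (o * u) * (o * u) = 1 := by
          rw [e3, show (a : G)⁻¹ * u * a * ((a : G)⁻¹ * u * a) = (a : G)⁻¹ * (u * u) * a by group,
            hc.six.uu]; group
        rwa [show o * u * (o * u) = o * (u * o) * u by group, ← hou,
          show o * (o * u) * u = o * o * (u * u) by group, hc.six.uu, mul_one] at e4
      have ho2 : o = 1 := by
        by_contra hne
        exact hc.hO.not_two_dvd_nat ((orderOf_two ho1 hne) ▸ Subgroup.orderOf_dvd_natCard O e2)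
      exact (inv_mul_eq_one.1 ho2).symm
    · exact fun e => congrArg π (Subtype.ext e)
  let φ : ↥C →* ↥L := (π.comp (inclusion hCN)).codRestrict L fun a =>
    (hLmem (inclusion hCN a)).2 (mem_centralizer_singleton_iff.1 a.2)
  have hφ : Function.Surjective φ := by
    rintro ⟨b, hb⟩
    obtain ⟨a, rfl⟩ := QuotientGroup.mk'_surjective ON b
    exact ⟨⟨a, mem_centralizer_singleton_iff.2 ((hLmem a).1 hb)⟩, Subtype.ext rfl⟩
  have hφ1 : ∀ a : ↥C, φ a = 1 ↔ (a : G) ∈ O := fun a =>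
    Subtype.ext_iff.trans (hπ1 (inclusion hCN a))
  set QC : Subgroup ↥C := Q.subgroupOf C with hQC
  haveI : QC.Normal := ⟨fun n hn a => mem_subgroupOf.2 (hc.conjQ (mem_centralizer_singleton_iff.1 a.2) hn)⟩
  set QL : Subgroup ↥L := QC.map φ with hQL
  haveI hQLn : QL.Normal := (inferInstance : QC.Normal).map _ hφ
  have hQCp : IsPGroup 2 QC := hc.hQ.comap_of_injective C.subtype C.subtype_injective
  have hinjQ : ∀ a b : ↥C, (a : G) ∈ Q → (b : G) ∈ Q → φ a = φ b → a = b := fun a b ha hb e => by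
    have e1 : φ (a⁻¹ * b) = 1 := by rw [map_mul, map_inv, e, inv_mul_cancel]
    exact Subtype.ext (inv_mul_eq_one.1 (hc.inter (mul_mem (inv_mem ha) hb) ((hφ1 _).1 e1)))
  have hQL32 : Nat.card QL = 32 := by
    rw [← hQ32, ← Nat.card_congr (subgroupOfEquivOfLe hc.QC).toEquiv]
    refine (Nat.card_eq_of_bijective (fun a : QC => (⟨φ a, a, a.2, rfl⟩ : QL))
      ⟨fun a b e => Subtype.ext (hinjQ a b a.2 b.2 (congrArg Subtype.val e)), ?_⟩).symm
    rintro ⟨_, a, ha, rfl⟩
    exact ⟨⟨a, ha⟩, rfl⟩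
  have hker : ∀ a : ↥C, φ a ∈ QL ↔ (a : G) ∈ hc.QO := by
    intro a
    constructor
    · rintro ⟨q, hq, e⟩
      have e1 : φ (q⁻¹ * a) = 1 := by rw [map_mul, map_inv, e, inv_mul_cancel]
      exact ⟨q, hq, (q : G)⁻¹ * a, (hφ1 _).1 e1, (mul_inv_cancel_left _ _).symm⟩
    · rintro ⟨q, hq, o, ho, e⟩
      refine ⟨⟨q, hc.QC hq⟩, hq, ?_⟩
      rw [show a = ⟨q, hc.QC hq⟩ * ⟨o, hc.OC ho⟩ from Subtype.ext e, map_mul, (hφ1 ⟨o, hc.OC ho⟩).2 ho, mul_one]
  have hperm := h.quot_perm ((QuotientGroup.mk' QL).comp φ) ((QuotientGroup.mk'_surjective QL).comp hφ)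
    fun a => (QuotientGroup.eq_one_iff (φ a)).trans (hker a)
  have hcore : Cfsg.pCore 2 ↥L = QL := by
    refine le_antisymm (fun p hp => ?_) (CfsgLib.Coprime.le_pCore (hQCp.map φ))
    haveI := CfsgLib.Coprime.pCore_normal' (G := ↥L) 2
    have hPp : IsPGroup 2 (Cfsg.pCore 2 ↥L) := CfsgLib.Coprime.pCore_isPGroup 2
    have hvnot : φ ⟨v, hc.v_mem⟩ ∉ Cfsg.pCore 2 ↥L := by
      intro hm
      obtain ⟨j, hj⟩ := hPp ⟨_, hm⟩
      have e1 : φ (⟨v, hc.v_mem⟩ ^ 2 ^ j) = 1 := by rw [map_pow]; exact congrArg Subtype.val hj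
      have e2 : v ^ 2 ^ j ∈ O := (hφ1 _).1 e1
      obtain ⟨k, hk⟩ := exists_pow_eq_self_of_coprime (n := 2 ^ j) (x := v)
        (by rw [hc.six.hv]; exact Nat.Coprime.pow_left j (by norm_num))
      have e3 := pow_mem e2 k
      rw [hk] at e3
      exact hc.v_not_QO ⟨1, one_mem _, v, e3, (one_mul v).symm⟩
    obtain ⟨a, rfl⟩ := hφ p
    obtain ⟨y, hy, i, hi, hg⟩ := h.split (mem_centralizer_singleton_iff.1 a.2)
    have hyC : y ∈ C := by
      obtain ⟨q, hq, o, ho, rfl⟩ := hy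
      exact mul_mem (hc.QC hq) (hc.OC ho)
    have hy' : φ ⟨y, hyC⟩ ∈ Cfsg.pCore 2 ↥L :=
      CfsgLib.Coprime.le_pCore (hQCp.map φ) ((hker _).2 hy)
    rcases hg with hg | hg
    · obtain rfl : i = 0 := by
        by_contra hi0
        apply hvnot
        have e1 : φ (⟨v, hc.v_mem⟩ ^ i) ∈ Cfsg.pCore 2 ↥L := by
          have := mul_mem (inv_mem hy') hp
          rwa [show a = ⟨y, hyC⟩ * ⟨v, hc.v_mem⟩ ^ i from Subtype.ext (by simpa using hg), map_mul,
            inv_mul_cancel_left] at this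
        obtain ⟨k, hk⟩ := exists_pow_eq_self_of_coprime (n := i) (x := (⟨v, hc.v_mem⟩ : ↥C))
          (by rw [← Subgroup.orderOf_coe, hc.six.hv]; exact
            (Nat.prime_three.coprime_iff_not_dvd.2 fun hd => by obtain ⟨t, rfl⟩ := hd; omega).symm)
        have e2 := pow_mem e1 k
        rwa [← map_pow, hk] at e2
      refine (hker _).2 ?_
      rw [hg, pow_zero, mul_one]; exact hy
    · exfalso
      apply hvnot
      set w : ↥C := ⟨v, hc.v_mem⟩ ^ i * ⟨s, mem_centralizer_singleton_iff.2 h.su⟩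
      have e1 : φ w ∈ Cfsg.pCore 2 ↥L := by
        have := mul_mem (inv_mem hy') hp
        rwa [show a = ⟨y, hyC⟩ * w from Subtype.ext (by simpa [w, mul_assoc] using hg), map_mul,
          inv_mul_cancel_left] at this
      have e2 : φ (w * ⟨v, hc.v_mem⟩ * w⁻¹ * (⟨v, hc.v_mem⟩ : ↥C)⁻¹) ∈ Cfsg.pCore 2 ↥L := by
        simp only [map_mul, map_inv, mul_assoc]
        refine mul_mem e1 ?_
        rw [← mul_assoc (φ ⟨v, hc.v_mem⟩) _ _]
        exact (inferInstance : (Cfsg.pCore 2 ↥L).Normal).conj_mem _ (inv_mem e1) _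
      have e3 : w * ⟨v, hc.v_mem⟩ * w⁻¹ * (⟨v, hc.v_mem⟩ : ↥C)⁻¹ = ⟨v, hc.v_mem⟩ := by
        refine Subtype.ext ?_
        simp only [w, coe_mul, coe_inv, SubgroupClass.coe_pow]
        rw [show v ^ i * s * v * (v ^ i * s)⁻¹ * v⁻¹ = v ^ i * (s * v * s⁻¹) * (v ^ i)⁻¹ * v⁻¹ by group, h.sv,
          ← ((Commute.refl v).inv_left.pow_right i).eq, mul_inv_cancel_right, ← mul_inv_rev,
          ← inv_eq_sq hc.six.hv, inv_inv]
      rwa [e3] at e2
  -- hypotheses of the model
  have hQex : Cfsg.IsExtraspecial 2 ↥(QL.map L.subtype) := by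
    set Qq := QL.map L.subtype
    have hmk : ∀ a : Qq, ∃ q : ↥C, (q : G) ∈ Q ∧ ((φ q : ↥L) : ↥N ⧸ ON) = a := by
      rintro ⟨_, _, ⟨q, hq, rfl⟩, rfl⟩
      exact ⟨q, hq, rfl⟩
    have hcomA : ∀ a b : Qq, a * b = b * a ∨ ((a * b : Qq) : ↥N ⧸ ON) = z * ((b * a : Qq) : ↥N ⧸ ON) := by
      intro a b
      obtain ⟨p, hp, ea⟩ := hmk a
      obtain ⟨q, hq, eb⟩ := hmk b
      rcases hcom _ hp _ hq with e | e
      · refine Or.inl (Subtype.ext ?_)
        rw [coe_mul, coe_mul, ← ea, ← eb, ← coe_mul, ← coe_mul, ← map_mul, ← map_mul,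
          show p * q = q * p from Subtype.ext e]
      · refine Or.inr ?_
        rw [coe_mul, coe_mul, ← ea, ← eb, ← coe_mul, ← coe_mul, ← map_mul, ← map_mul,
          show p * q = ⟨u, huC⟩ * (q * p) from Subtype.ext e, map_mul, coe_mul]
        rfl
    have hzQ : z ∈ Qq := ⟨φ ⟨u, huC⟩, ⟨⟨u, huC⟩, hc.uQ, rfl⟩, rfl⟩
    set zq : Qq := ⟨z, hzQ⟩
    have hzqc : zq ∈ center Qq := mem_center_iff.2 fun a => by
      obtain ⟨p, hp, ea⟩ := hmk a
      refine Subtype.ext ?_
      rw [coe_mul, coe_mul, ← ea]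
      exact ((mem_centralizer_singleton_iff.1 (φ p).2)).symm ▸ rfl
    have hcenter : ∀ a : Qq, a ∈ center Qq → a = 1 ∨ a = zq := by
      intro a ha
      obtain ⟨p, hp, ea⟩ := hmk a
      have hpc : ∀ q ∈ Q, (p : G) * q = q * p := by
        intro q hq
        have hb : ((φ ⟨q, hc.QC hq⟩ : ↥L) : ↥N ⧸ ON) ∈ Qq := ⟨_, ⟨_, hq, rfl⟩, rfl⟩
        have e := congrArg Subtype.val (mem_center_iff.1 ha ⟨_, hb⟩)
        simp only [coe_mul, ← ea] at e
        rw [← coe_mul, ← coe_mul, ← map_mul, ← map_mul] at e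
        exact (congrArg Subtype.val (hinjQ _ _ (mul_mem hq hp) (mul_mem hp hq) (Subtype.ext e))).symm
      rcases h.center_Q hp hpc with e | e
      · left; refine Subtype.ext ?_
        rw [← ea, show p = 1 from Subtype.ext e, map_one]; rfl
      · right; refine Subtype.ext ?_
        rw [← ea, show p = ⟨u, huC⟩ from Subtype.ext e]; rfl
    have hzq1 : zq ≠ 1 := fun e => ne_one_of_order hzo (by norm_num) (congrArg Subtype.val e)
    have hcz : Nat.card (center Qq) = 2 := by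
      rw [show center Qq = zpowers zq from le_antisymm (fun a ha => (hcenter a ha).elim
        (fun e => e ▸ one_mem _) fun e => e ▸ mem_zpowers _) (zpowers_le.2 hzqc), Nat.card_zpowers,
        ← Subgroup.orderOf_coe]
      exact hzo
    have hpow : ∀ a : Qq, a ^ 2 ∈ center Qq := by
      intro a
      obtain ⟨p, hp, ea⟩ := hmk a
      rcases hsq _ hp with e | e
      · have : a ^ 2 = 1 := Subtype.ext (by
          rw [pow_two, coe_mul, ← ea, ← coe_mul, ← map_mul, show p * p = 1 from Subtype.ext e, map_one]; rfl)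
        exact this ▸ one_mem _
      · have : a ^ 2 = zq := Subtype.ext (by
          rw [pow_two, coe_mul, ← ea, ← coe_mul, ← map_mul, show p * p = ⟨u, huC⟩ from Subtype.ext e]; rfl)
        exact this ▸ hzqc
    have hder : commutator Qq ≤ center Qq := by
      rw [_root_.commutator_def, commutator_le]
      intro a _ b _
      rcases hcomA a b with e | e
      · rw [commutatorElement_eq_one_iff_mul_comm.2 e]; exact one_mem _
      · have : ⁅a, b⁆ = zq := by
          refine Subtype.ext ?_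
          rw [commutatorElement_def, show a * b * a⁻¹ * b⁻¹ = (a * b) * (b * a)⁻¹ by group, coe_mul, e,
            coe_inv, mul_inv_cancel_right]
        exact this ▸ hzqc
    have hne : commutator Qq ≠ ⊥ := by
      intro e
      have hall : (⊤ : Subgroup Qq) ≤ center Qq := fun a _ => mem_center_iff.2 fun b => by
        have := commutator_mem_commutator (mem_top b) (mem_top a)
        rw [← _root_.commutator_def, e, mem_bot] at this
        exact commutatorElement_eq_one_iff_mul_comm.1 this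
      have := Subgroup.card_le_of_le hall
      rw [card_top, hcz, card_map_of_injective L.subtype_injective, hQL32] at this
      omega
    have hdc : commutator Qq = center Qq := eq_of_le_of_card_ge hder
      (hcz ▸ Nat.succ_le_of_lt ((one_lt_card_iff_ne_bot _).2 hne))
    have hPG : IsPGroup 2 Qq := IsPGroup.of_card (n := 5) (by
      rw [card_map_of_injective L.subtype_injective, hQL32]; norm_num)
    refine ⟨⟨hPG, le_antisymm (CfsgLib.FrattiniLe.frattini_le_of_pow_of_commutator hpow hder) ?_, hdc⟩, hcz⟩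
    rw [← hdc]
    exact CfsgLib.Coprime.commutator_le_frattini hPG
  obtain ⟨e⟩ := hperm
  obtain ⟨X, hXle⟩ := (IsPGroup.of_card (p := 3) (n := 1) (show Nat.card (zpowers (φ ⟨v, hc.v_mem⟩)) = 3 ^ 1 by
    rw [Nat.card_zpowers, pow_one]
    refine orderOf_three ?_ fun e1 => hc.v_not_QO ?_
    · rw [← map_mul, ← map_mul, show (⟨v, hc.v_mem⟩ : ↥C) * ⟨v, hc.v_mem⟩ * ⟨v, hc.v_mem⟩ = 1 from
        Subtype.ext hc.six.vvv, map_one]
    · exact ⟨1, one_mem _, v, (hφ1 _).1 e1, (one_mul v).symm⟩)).exists_le_sylow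
  have hXv : φ ⟨v, hc.v_mem⟩ ∈ (X : Subgroup ↥L) := hXle (mem_zpowers _)
  have hCQX : QL.map L.subtype ⊓ centralizer (((X : Subgroup ↥L).map L.subtype : Subgroup (↥N ⧸ ON)) : Set (↥N ⧸ ON)) =
      zpowers z := by
    refine le_antisymm (fun a ha => ?_) (zpowers_le.2 ⟨⟨φ ⟨u, huC⟩, ⟨⟨u, huC⟩, hc.uQ, rfl⟩, rfl⟩, ?_⟩)
    · obtain ⟨_, ⟨q, hq, rfl⟩, rfl⟩ := ha.1
      have e1 := mem_centralizer_iff.1 ha.2 _ ⟨_, hXv, rfl⟩
      rw [← map_mul, ← map_mul] at e1
      have e2 : φ (⟨v, hc.v_mem⟩ * q) = φ (q * ⟨v, hc.v_mem⟩) := by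
        rw [map_mul, map_mul]; exact Subtype.ext e1
      have e3 : φ ((⟨v, hc.v_mem⟩ : ↥C)⁻¹ * q⁻¹ * ⟨v, hc.v_mem⟩ * q) = 1 := by
        rw [mul_assoc, map_mul _ _ (_ * q), e2, map_mul, map_inv, map_inv, map_mul, mul_assoc,
          inv_mul_cancel_left, inv_mul_cancel]
      have hq' : (q : G) ∈ Q := hq
      have e4 : v⁻¹ * (q : G)⁻¹ * v * q ∈ Q := mul_mem (hc.conjQ' hc.six.huv.symm (inv_mem hq')) hq'
      have e5 := hc.inter e4 ((hφ1 _).1 e3)
      have e6 : (q : G) * v = v * q := by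
        calc (q : G) * v = (q : G) * v * (v⁻¹ * (q : G)⁻¹ * v * q) := by rw [e5, mul_one]
          _ = _ := by group
      rcases hc.fixQ hq' e6 with e7 | e7
      · rw [show q = 1 from Subtype.ext e7, map_one, map_one]; exact one_mem _
      · rw [show q = ⟨u, huC⟩ from Subtype.ext e7]; exact mem_zpowers _
    · refine mem_centralizer_iff.2 ?_
      rintro _ ⟨b, -, rfl⟩
      exact mem_centralizer_singleton_iff.1 b.2
  -- every involution of `Q` is fused to `u`
  have hfused : ∀ q : ↥C, (q : G) ∈ Q → (q : G) * q = 1 → (q : G) ≠ 1 → (q : G) ≠ u →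
      ∃ g, g * z * g⁻¹ = ((φ q : ↥L) : ↥N ⧸ ON) := by
    intro q hq hq2 hq1 hqu
    obtain ⟨g, hg⟩ := isConj_iff.1 (hc.six.one u q hc.six.hu (orderOf_two hq2 hq1))
    have hgN : g ∈ N := h.norm_O (hg ▸ hq) (hg ▸ hqu)
    refine ⟨π ⟨g, hgN⟩, ?_⟩
    rw [hz, ← map_inv, ← map_mul, ← map_mul]
    exact congrArg π (Subtype.ext hg)
  have hnwc : ∃ g, g * z * g⁻¹ ∈ QL.map L.subtype ∧ g * z * g⁻¹ ≠ z := by
    obtain ⟨g, hg⟩ := hfused ⟨x, hc.QC hx⟩ hx hx2 hx1 hxu
    refine ⟨g, hg ▸ ⟨_, ⟨_, hx, rfl⟩, rfl⟩, fun e1 => hxu ?_⟩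
    rw [hg] at e1
    have e2 : φ ⟨x, hc.QC hx⟩ = φ ⟨u, huC⟩ := Subtype.ext e1
    exact congrArg Subtype.val (hinjQ _ _ hx hc.uQ e2)
  obtain ⟨sw, ε, ψ, M, c, -, hc32, hc0, hc1, hconj⟩ := exists_lModel hzo L rfl (QL.map L.subtype)
    (by rw [hcore]) hQex (by rw [card_map_of_injective L.subtype_injective, hQL32])
    ((QuotientGroup.quotientMulEquivOfEq hcore).trans e) X hCQX hnwc
  have hc' : c < 32 := by rw [← hc32]; exact Nat.mod_lt _ (by norm_num)
  obtain ⟨rfl, hswl⟩ := twist_false M hc' hc1 hconj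
  -- small codes lie in the two-core
  have hsmall : ∀ d < 32, ψ d ∈ QL.map L.subtype := by
    let K : Subgroup ↥L := closure {l : ↥L | ∃ d < 32, ψ d = l}
    have hcl : ∀ a b : ℕ, a < 32 → b < 32 → lMul sw false a b < 32 := fun a b ha hb => by
      obtain ⟨h1, h2⟩ := code_split (sw := sw) (e := false) (k := a) hb
      have h3 := lMul_lt (sw := sw) (e := false) (show a < 192 by omega) (show b < 192 by omega)
      omega
    let K' : Submonoid ↥L :=
      { carrier := {l : ↥L | ∃ d < 32, ψ d = l}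
        one_mem' := ⟨0, by norm_num, M.one⟩
        mul_mem' := by
          rintro a b ⟨i, hi, ei⟩ ⟨j, hj, ej⟩
          exact ⟨_, hcl i j hi hj, by rw [← M.mul i (by omega) j (by omega), ei, ej]; rfl⟩ }
    let K2 : Subgroup ↥L :=
      { K' with
        inv_mem' := fun {a} ha => by
          have hh := pow_mem (show a ∈ K' from ha) (orderOf a - 1)
          have e1 : a⁻¹ = a ^ (orderOf a - 1) := inv_eq_of_mul_eq_one_right (by
            rw [← pow_succ', Nat.sub_add_cancel (orderOf_pos a), pow_orderOf_eq_one])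
          show a⁻¹ ∈ K'
          rw [e1]; exact hh }
    have hK2n : K2.Normal := by
      refine ⟨fun n hn g => ?_⟩
      obtain ⟨d, hd, ed⟩ := hn
      obtain ⟨k, hk, ek⟩ := M.surj _ g.2
      obtain ⟨j, hj, ej⟩ := M.surj _ (g * n * g⁻¹).2
      refine ⟨j, ?_, ej⟩
      have e1 : ψ j * ψ k = ψ k * ψ d := by
        rw [ej, ek, ed, coe_mul, coe_mul, coe_inv, inv_mul_cancel_right]
      rw [M.mul j hj k hk, M.mul k hk d (by omega)] at e1
      have e2 := M.inj _ (lMul_lt hj hk) _ (lMul_lt hk (by omega)) e1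
      obtain ⟨h1, h2⟩ := code_split (sw := sw) (e := false) (k := k) hd
      obtain ⟨h3, h4⟩ := code_split' (sw := sw) (e := false) (d := j) (k := k)
      rw [e2, h1] at h3
      rw [e2, h2] at h4
      have hj2 : j / 96 % 2 = 0 := by omega
      rw [if_neg (by omega)] at h3
      omega
    have hK2card : Nat.card K2 = 32 := by
      rw [← Nat.card_fin 32]
      refine (Nat.card_eq_of_bijective (fun d : Fin 32 => (⟨⟨ψ d, M.mem d (by omega)⟩, d, d.2, rfl⟩ : K2))
        ⟨fun a b e1 => Fin.ext (M.inj a (by omega) b (by omega)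
          (congrArg (fun z : K2 => ((z : ↥L) : ↥N ⧸ ON)) e1)), ?_⟩).symm
      rintro ⟨l, d, hd, el⟩
      exact ⟨⟨d, hd⟩, Subtype.ext (Subtype.ext el)⟩
    intro d hd
    have hle : K2 ≤ QL := hcore ▸ CfsgLib.Coprime.le_pCore (hN := hK2n)
      (IsPGroup.of_card (n := 5) (by rw [hK2card]; norm_num))
    exact ⟨⟨ψ d, M.mem d (by omega)⟩, hle ⟨d, hd, rfl⟩, rfl⟩
  have hall : ∀ d < 32, lMul sw false d d = 0 → d ≠ 0 → d ≠ 1 → IsConj z (ψ d) := by
    intro d hd hdd hd0 hd1
    obtain ⟨_, ⟨q, hq, rfl⟩, eq⟩ := hsmall d hd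
    have hq' : (q : G) ∈ Q := hq
    have hqq : (q : G) * q = 1 := by
      have e1 : φ (q * q) = φ 1 := by
        rw [map_mul, map_one]
        refine Subtype.ext ?_
        rw [coe_mul, OneMemClass.coe_one]
        rw [coe_subtype] at eq
        rw [eq, M.mul d (by omega) d (by omega), hdd, M.one]
      exact congrArg Subtype.val (hinjQ _ _ (mul_mem hq' hq') (one_mem _) e1)
    obtain ⟨g, hg⟩ := hfused q hq' hqq (fun e1 => by
        apply hd0
        rw [show q = 1 from Subtype.ext e1, map_one, map_one] at eq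
        exact (M.inj 0 (by norm_num) d (by omega) (M.one.trans eq)).symm)
      (fun e1 => by
        apply hd1
        rw [show q = ⟨u, huC⟩ from Subtype.ext e1] at eq
        exact (M.inj 1 (by norm_num) d (by omega) (M.at_s.trans eq)).symm)
    exact isConj_iff.2 ⟨g, hg.trans eq⟩
  cases sw with
  | true =>
    obtain ⟨d, hd, hdd, hd0, hd1, hdn⟩ := sw_witness
    exact hdn ((twist_false M hd hd1 (hall d hd hdd hd0 hd1)).2 rfl)
  | false =>
    have B := M.toBModel
    have hpat := B.pattern_cases hc' hc0 hc1 hconj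
    refine split_witness.2 _ hpat ⟨?_, ?_, ?_⟩
    all_goals
      refine (B.mem_pattern (split_witness.1 _ (by simp)).1).2 (hall _ (split_witness.1 _ (by simp)).2.1
        (split_witness.1 _ (by simp)).2.2 (by norm_num) (by norm_num))

end CfsgLib.Recog.OrderSix
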