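import Cfsg.Agent.Lib.Recog.OrderSix.AmalgamModule
import Cfsg.Agent.Lib.Recog.OrderSix.ThirtyTwo
import Cfsg.Agent.Lib.Char.SelfCentThree.Seven
import Cfsg.Agent.Lib.Coprime.PGroupFrattini

/-!
# No involution of the two-core is central modulo `u`
-/

set_option autoImplicit false
set_option linter.unusedSectionVars false
set_option linter.style.haveILetI false

namespace CfsgLib.Recog.OrderSix

open Subgroup CfsgLib.Char.SelfCentThree

universe u

variable {G : Type u} [Group G] [Finite G] {u v s x : G} {Q O M K V : Subgroup G}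

/-- `v` moves the cosets of `⟨u⟩` in `Q` outside the centre. -/
theorem Core.moved {m : ℕ} (hc : Core u v Q O m) {w : G} (hw : w ∈ Q) (hw1 : w ≠ 1) (hwu : w ≠ u) :
    v * w * v⁻¹ ≠ 1 ∧ v * w * v⁻¹ ≠ u ∧ v * w * v⁻¹ ≠ w ∧ v * w * v⁻¹ ≠ u * w := by
  have hvuv : v * u * v⁻¹ = u := by rw [hc.six.huv.symm, mul_inv_cancel_right]
  refine ⟨fun e => hw1 (conj_eq_one_iff.1 e), fun e => hwu ?_, fun e => ?_, fun e => ?_⟩
  · rw [← hvuv, mul_left_inj, mul_right_inj] at e
    exact e
  · exact (hc.fixQ hw (mul_inv_eq_iff_eq_mul.1 e).symm).elim hw1 hwu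
  · have h3 : v * (v * (v * w * v⁻¹) * v⁻¹) * v⁻¹ = w := by
      rw [show v * (v * (v * w * v⁻¹) * v⁻¹) * v⁻¹ = (v * v * v) * w * (v * v * v)⁻¹ by group,
        hc.six.vvv, one_mul, inv_one, mul_one]
    rw [e, show v * (u * w) * v⁻¹ = (v * u * v⁻¹) * (v * w * v⁻¹) by group, hvuv, e,
      show u * (u * w) = w by rw [← mul_assoc, hc.six.uu, one_mul], e] at h3
    exact hc.six.u_ne (mul_eq_right.1 h3)

theorem Top.noncentral (h : Top u v Q O s) (hx : x ∈ Q) (hx1 : x ≠ 1) (hxu : x ≠ u) :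
    ∃ q ∈ Q, q * x ≠ x * q := by
  by_contra hne
  push Not at hne
  exact (h.center_Q hx fun q hq => (hne q hq).symm).elim hx1 hxu

variable {h : Top u v Q O s}

/-- The orbit of `u` spans a subgroup of order at most eight. -/
theorem Module.card_le_eight (hp : Pair h x M K) (hm : Module h x M K V) (hx1 : x ≠ 1) (hxu : x ≠ u)
    (hxc : ∀ b ∈ h.S, x * b = b * x ∨ x * b = u * (b * x)) : Nat.card V ≤ 8 := by
  classical
  have hc := h.core
  have huu := hc.six.uu
  have hxQ := hm.le hm.xV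
  obtain ⟨h168, -, -, -, h24⟩ := hm.linear hp hx1 hxu (h.noncentral hxQ hx1 hxu)
  obtain ⟨q, hq, hqx⟩ := h.noncentral hxQ hx1 hxu
  have hxq : x * q = u * (q * x) := (hxc q (h.Q_le hq)).resolve_left fun e => hqx e.symm
  set y := v * x * v⁻¹ with hy
  set z := v * y * v⁻¹ with hz
  have hvn : ∀ a ∈ V, v * a * v⁻¹ ∈ V := fun a ha =>
    (mem_normalizer_iff.1 (hm.norm (mem_sup_left hp.vM)) a).1 ha
  have hyV : y ∈ V := hvn x hm.xV
  have hzV : z ∈ V := hvn y hyV
  -- the orbit
  let orb : Set G := {a | ∃ g : ↥(M ⊔ K), (g : G) * u * (g : G)⁻¹ = a}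
  have horb : orb.ncard ≤ 7 := by
    let uV : V := ⟨u, hm.uV⟩
    have hstab : (M.subgroupOf (M ⊔ K)).map hm.hom.rangeRestrict ≤
        MulAction.stabilizer hm.hom.range uV := by
      rintro _ ⟨m, hmM, rfl⟩
      refine MulAction.mem_stabilizer_iff.2 (Subtype.ext ?_)
      show (m : G) * u * (m : G)⁻¹ = u
      rw [mem_centralizer_singleton_iff.1 (hp.Mu (mem_subgroupOf.1 hmM)), mul_inv_cancel_right]
    have h1 := (MulAction.stabilizer hm.hom.range uV).card_mul_index
    rw [h168] at h1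
    obtain ⟨t, ht⟩ := h24.trans (Subgroup.card_dvd_of_le hstab)
    rw [ht, MulAction.index_stabilizer, mul_assoc] at h1
    have h7 : (MulAction.orbit hm.hom.range uV).ncard ≤ 7 := by
      refine Nat.le_of_dvd (by norm_num) ⟨t, ?_⟩
      rw [mul_comm]; omega
    refine le_trans (Set.ncard_le_ncard (t := Subtype.val '' MulAction.orbit hm.hom.range uV) ?_ (Set.toFinite _))
      ((Set.ncard_image_le (Set.toFinite _)).trans h7)
    rintro a ⟨g, rfl⟩
    exact ⟨_, ⟨hm.hom.rangeRestrict g, rfl⟩, rfl⟩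
  have hconj : ∀ a ∈ orb, ∀ g ∈ M ⊔ K, g * a * g⁻¹ ∈ orb := by
    rintro a ⟨g', rfl⟩ g hg
    exact ⟨⟨g, hg⟩ * g', by simp only [coe_mul]; group⟩
  have huo : u ∈ orb := ⟨1, by simp⟩
  have huxo : u * x ∈ orb := by
    obtain ⟨k, hk, e⟩ := hp.moves
    exact ⟨⟨k, mem_sup_right hk⟩, e⟩
  have hxo : x ∈ orb := by
    have e : q * (u * x) * q⁻¹ = x := by
      have e1 : q * x = u * (x * q) := by rw [hxq, ← mul_assoc u u, huu, one_mul]
      calc q * (u * x) * q⁻¹ = (q * u) * x * q⁻¹ := by group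
        _ = u * (q * x) * q⁻¹ := by rw [hc.qu hq]; group
        _ = x := by rw [e1, ← mul_assoc u u, huu, one_mul, mul_inv_cancel_right]
    exact e ▸ hconj _ huxo q (mem_sup_left (hp.QM hq))
  have hvu : ∀ a : G, v * (u * a) * v⁻¹ = u * (v * a * v⁻¹) := fun a => by
    rw [← mul_assoc v u a, ← hc.six.huv]; group
  have hvo : ∀ a ∈ orb, v * a * v⁻¹ ∈ orb := fun a ha => hconj a ha v (mem_sup_left hp.vM)
  have hyo : y ∈ orb := hvo x hxo
  have huyo : u * y ∈ orb := hvu x ▸ hvo _ huxo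
  have hzo : z ∈ orb := hvo y hyo
  have huzo : u * z ∈ orb := hvu y ▸ hvo _ huyo
  obtain ⟨hy1, hyu, hyx, hyux⟩ := hc.moved hxQ hx1 hxu
  obtain ⟨hz1, hzu, hzy, hzuy⟩ := hc.moved (hm.le hyV) hy1 hyu
  have hxz : v * z * v⁻¹ = x := by
    rw [hz, hy, show v * (v * (v * x * v⁻¹) * v⁻¹) * v⁻¹ = (v * v * v) * x * (v * v * v)⁻¹ by group,
      hc.six.vvv, one_mul, inv_one, mul_one]
  obtain ⟨-, -, hxz1, hxuz⟩ := hc.moved (hm.le hzV) hz1 hzu
  rw [← hy] at hyx hyux hy1 hyu
  rw [← hz] at hz1 hzu hzy hzuy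
  rw [hxz] at hxz1 hxuz
  let seven : Finset G := {u, x, u * x, y, u * y, z, u * z}
  have hcard7 : seven.card = 7 := by
    have hflip : ∀ {a b : G}, a ≠ u * b → b ≠ u * a := fun {a b} hab e =>
      hab (by rw [e, ← mul_assoc, huu, one_mul])
    have f1 := hflip hyux
    have f2 := hflip hzuy
    have f3 := hflip hxuz
    simp only [seven]
    rw [Finset.card_insert_of_notMem, Finset.card_insert_of_notMem, Finset.card_insert_of_notMem,
      Finset.card_insert_of_notMem, Finset.card_insert_of_notMem, Finset.card_insert_of_notMem,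
      Finset.card_singleton] <;>
    simp [hx1, hxu, hxu.symm, hy1, hyu, hyu.symm, hz1, hzu, hzu.symm, hyx, hyx.symm, hyux, hyux.symm,
      hzy, hzy.symm, hzuy, hzuy.symm, hxz1, hxz1.symm, hxuz, hxuz.symm, f1, f1.symm, f2, f2.symm,
      f3, f3.symm, hc.six.u_ne]
  have horbeq : (seven : Set G) = orb := by
    refine Set.eq_of_subset_of_ncard_le ?_ (by rw [Set.ncard_coe_finset, hcard7]; exact horb) (Set.toFinite _)
    intro a ha
    simp only [seven, Finset.coe_insert, Finset.coe_singleton, Set.mem_insert_iff,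
      Set.mem_singleton_iff] at ha
    rcases ha with rfl | rfl | rfl | rfl | rfl | rfl | rfl <;> assumption
  -- the span
  have hcm : ∀ {a b}, a ∈ V → b ∈ V → Commute a b := fun ha hb => hm.comm _ ha _ hb
  have hor : ∀ {a b c : G}, c * c = 1 → (a = 1 ∨ a = c) → (b = 1 ∨ b = c) → (a * b = 1 ∨ a * b = c) :=
    fun {a b c} hcc ha hb => by
      rcases ha with rfl | rfl <;> rcases hb with rfl | rfl <;> simp [hcc]
  have hmemV : ∀ {a c : G}, c ∈ V → (a = 1 ∨ a = c) → a ∈ V := fun {a c} hcV ha => by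
    rcases ha with rfl | rfl
    · exact one_mem _
    · exact hcV
  let F : Subgroup G :=
    { carrier := {g | ∃ a b c : G, (a = 1 ∨ a = u) ∧ (b = 1 ∨ b = x) ∧ (c = 1 ∨ c = y) ∧ g = a * b * c}
      one_mem' := ⟨1, 1, 1, Or.inl rfl, Or.inl rfl, Or.inl rfl, by simp⟩
      mul_mem' := by
        rintro _ _ ⟨a, b, c, ha, hb, hc', rfl⟩ ⟨a', b', c', ha', hb', hc'', rfl⟩
        refine ⟨a * a', b * b', c * c', hor huu ha ha', hor (hm.sq x hm.xV) hb hb',
          hor (hm.sq y hyV) hc' hc'', ?_⟩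
        have e1 : Commute (b * c) a' :=
          (hcm (hmemV hm.xV hb) (hmemV hm.uV ha')).mul_left (hcm (hmemV hyV hc') (hmemV hm.uV ha'))
        have e2 : Commute c b' := hcm (hmemV hyV hc') (hmemV hm.xV hb')
        calc a * b * c * (a' * b' * c') = a * ((b * c) * a') * (b' * c') := by group
          _ = a * a' * b * (c * b') * c' := by rw [e1.eq]; group
          _ = _ := by rw [e2.eq]; group
      inv_mem' := by
        rintro _ ⟨a, b, c, ha, hb, hc', rfl⟩
        refine ⟨a, b, c, ha, hb, hc', ?_⟩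
        exact inv_eq_of_mul_eq_one_right (hm.sq _
          (mul_mem (mul_mem (hmemV hm.uV ha) (hmemV hm.xV hb)) (hmemV hyV hc'))) }
  have hFV : F ≤ V := by
    rintro _ ⟨a, b, c, ha, hb, hc', rfl⟩
    exact mul_mem (mul_mem (hmemV hm.uV ha) (hmemV hm.xV hb)) (hmemV hyV hc')
  have huF : u ∈ F := ⟨u, 1, 1, Or.inr rfl, Or.inl rfl, Or.inl rfl, by simp⟩
  have hxF : x ∈ F := ⟨1, x, 1, Or.inl rfl, Or.inr rfl, Or.inl rfl, by simp⟩
  have hyF : y ∈ F := ⟨1, 1, y, Or.inl rfl, Or.inl rfl, Or.inr rfl, by simp⟩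
  have hzF : z ∈ F := by
    have hfix : x * y * z * v = v * (x * y * z) := by
      refine (mul_inv_eq_iff_eq_mul.1 ?_).symm
      calc v * (x * y * z) * v⁻¹ = (v * x * v⁻¹) * (v * y * v⁻¹) * (v * z * v⁻¹) := by group
        _ = (y * z) * x := by rw [← hy, ← hz, hxz]
        _ = _ := by rw [((hcm hyV hm.xV).mul_left (hcm hzV hm.xV)).eq, ← mul_assoc]
    have hxyz : x * y * z ∈ F := by
      rcases hc.fixQ (hm.le (mul_mem (mul_mem hm.xV hyV) hzV)) hfix with e | e <;> rw [e]
      · exact one_mem _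
      · exact huF
    have := mul_mem (inv_mem (mul_mem hxF hyF)) hxyz
    rwa [inv_mul_cancel_left] at this
  have horbF : ∀ a ∈ orb, a ∈ F := by
    intro a ha
    rw [← horbeq] at ha
    simp only [seven, Finset.coe_insert, Finset.coe_singleton, Set.mem_insert_iff,
      Set.mem_singleton_iff] at ha
    rcases ha with rfl | rfl | rfl | rfl | rfl | rfl | rfl
    exacts [huF, hxF, mul_mem huF hxF, hyF, mul_mem huF hyF, hzF, mul_mem huF hzF]
  have hFn : M ⊔ K ≤ normalizer (F : Set G) := by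
    refine le_normalizer_of_conj_mem fun g hg w hw => ?_
    obtain ⟨a, b, c, ha, hb, hc', rfl⟩ := hw
    have key : ∀ {a c : G}, c ∈ orb → (a = 1 ∨ a = c) → g * a * g⁻¹ ∈ F := fun {a c} hco ha => by
      rcases ha with rfl | rfl
      · simp
      · exact horbF _ (hconj _ hco g hg)
    rw [show g * (a * b * c) * g⁻¹ = (g * a * g⁻¹) * (g * b * g⁻¹) * (g * c * g⁻¹) by group]
    exact mul_mem (mul_mem (key huo ha) (key hxo hb)) (key hyo hc')
  have hFe : F = V := hm.min F hFV (fun e => hc.six.u_ne (mem_bot.1 (e ▸ huF))) hFn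
  rw [← hFe]
  let sel : G → Bool → G := fun w b => if b then w else 1
  refine (Nat.card_le_card_of_surjective (fun p : Bool × Bool × Bool =>
    (⟨sel u p.1 * sel x p.2.1 * sel y p.2.2, sel u p.1, sel x p.2.1, sel y p.2.2,
      by cases p.1 <;> simp [sel], by cases p.2.1 <;> simp [sel], by cases p.2.2 <;> simp [sel], rfl⟩ : F))
    ?_).trans ?_
  · rintro ⟨_, a, b, c, ha, hb, hc', rfl⟩
    rcases ha with rfl | rfl <;> rcases hb with rfl | rfl <;> rcases hc' with rfl | rfl
    exacts [⟨(false, false, false), rfl⟩, ⟨(false, false, true), rfl⟩, ⟨(false, true, false), rfl⟩,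
      ⟨(false, true, true), rfl⟩, ⟨(true, false, false), rfl⟩, ⟨(true, false, true), rfl⟩,
      ⟨(true, true, false), rfl⟩, ⟨(true, true, true), rfl⟩]
  · simp [Nat.card_prod]

/-- With a subgroup normal in both members the two-core has order at most thirty-two. -/
theorem Module.card_Q_le (hp : Pair h x M K) (hm : Module h x M K V) (hx1 : x ≠ 1) (hxu : x ≠ u)
    (hxc : ∀ b ∈ h.S, x * b = b * x ∨ x * b = u * (b * x)) : Nat.card Q ≤ 32 := by
  classical
  haveI : Fact (Nat.Prime 2) := ⟨Nat.prime_two⟩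
  have hc := h.core
  have hxQ := hm.le hm.xV
  obtain ⟨h168, hsimp, hcent, hQ4, -⟩ := hm.linear hp hx1 hxu (h.noncentral hxQ hx1 hxu)
  haveI := hsimp
  set D := Q ⊓ centralizer (V : Set G) with hD
  have hDH : D ≤ M ⊔ K := fun d hd => mem_sup_left (hp.QM hd.1)
  have hVD : V ≤ D := le_inf hm.le fun a ha => mem_centralizer_iff.2 fun b hb => hm.comm b hb a ha
  have hQD : Nat.card Q = 4 * Nat.card D := by
    let ψ : Q →* hm.hom.range :=
      hm.hom.rangeRestrict.comp (inclusion (fun a ha => mem_sup_left (hp.QM ha) : Q ≤ M ⊔ K))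
    have hker : ψ.ker = D.subgroupOf Q := by
      ext a
      rw [MonoidHom.mem_ker, mem_subgroupOf, hD, mem_inf, mem_centralizer_iff]
      constructor
      · intro e
        exact ⟨a.2, fun b hb => (hm.hom_eq_one.1 (congrArg Subtype.val e) b hb).symm⟩
      · rintro ⟨-, e⟩
        exact Subtype.ext (hm.hom_eq_one.2 fun b hb => (e b hb).symm)
    have hrange : ψ.range = hm.imQ := by
      ext l
      constructor
      · rintro ⟨a, rfl⟩; exact ⟨_, a.2, rfl⟩
      · rintro ⟨a, ha, rfl⟩; exact ⟨⟨a, ha⟩, rfl⟩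
    have h1 := ψ.ker.card_mul_index
    rw [index_ker, hrange, hQ4, hker, Nat.card_congr (subgroupOfEquivOfLe inf_le_left).toEquiv, ← hD] at h1
    omega
  have hD2 : IsPGroup 2 D := hc.hQ.to_le inf_le_left
  -- the kernel
  have hker : ∀ g : ↥(M ⊔ K), hm.hom g = 1 → ∃ o ∈ O, ∃ d ∈ D, (g : G) = o * d := by
    intro g hg
    obtain ⟨m, hmM, hgm, o, ho, e⟩ := hm.split hp g (hm.hom_eq_one.1 hg u hm.uV)
    have hm1 : hm.hom m = 1 := hgm ▸ hg
    obtain ⟨q, hq, i, hi, em⟩ := hp.mem m hmM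
    rcases em with em | em
    · by_cases hi0 : i = 0
      · rw [hi0, pow_zero, mul_one] at em
        exact ⟨o, ho, m, ⟨em ▸ hq, mem_centralizer_iff.2 fun b hb => (hm.hom_eq_one.1 hm1 b hb).symm⟩, e⟩
      exfalso
      set qH : ↥(M ⊔ K) := ⟨q, mem_sup_left (hp.QM hq)⟩
      have e1 : hm.hom qH * hm.hom hp.vH ^ i = 1 := by
        rw [← map_pow, ← map_mul, ← hm1]; exact congrArg hm.hom (Subtype.ext (by simpa [qH] using em.symm))
      obtain ⟨k, hk⟩ := hc.hQ ⟨q, hq⟩
      have e2 : hm.hom qH ^ 2 ^ k = 1 := by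
        rw [← map_pow, ← map_one hm.hom]
        exact congrArg hm.hom (Subtype.ext (by simpa [qH] using congrArg Subtype.val hk))
      rw [eq_inv_of_mul_eq_one_left e1, inv_pow, inv_eq_one, ← pow_mul] at e2
      have e3 := orderOf_dvd_of_pow_eq_one e2
      rw [hm.order_v hp hx1 hxu] at e3
      rcases Nat.prime_three.dvd_mul.1 e3 with e4 | e4
      · exact hi0 (Nat.eq_zero_of_dvd_of_lt e4 hi)
      · exact absurd (Nat.prime_three.dvd_of_dvd_pow e4) (by norm_num)
    · exfalso
      obtain ⟨b, hb, eb⟩ := hm.hom_inverted hp hq em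
      rw [hm1, one_mul, inv_one, mul_one] at eb
      refine hm.not_inverted hp hx1 hxu (g := b) ?_ hb rfl
      have e2 := congrArg (·⁻¹) eb
      simp only [mul_inv_rev, inv_inv, ← mul_assoc] at e2
      exact e2.symm
  have hDn : M ⊔ K ≤ normalizer (D : Set G) := by
    refine le_normalizer_of_conj_mem fun g hg d hd => ?_
    have h1 : hm.hom ⟨d, hDH hd⟩ = 1 :=
      hm.hom_eq_one.2 fun b hb => (mem_centralizer_iff.1 hd.2 b hb).symm
    set gd : ↥(M ⊔ K) := ⟨g, hg⟩ * ⟨d, hDH hd⟩ * ⟨g, hg⟩⁻¹ with hgd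
    obtain ⟨o, ho, d', hd', e⟩ := hker gd (by
      rw [hgd, map_mul, map_mul, h1, mul_one, map_inv, mul_inv_cancel])
    have e' : g * d * g⁻¹ = o * d' := e
    obtain ⟨k, hk⟩ := hD2 ⟨d, hd⟩
    obtain ⟨l, hl⟩ := hD2 ⟨d', hd'⟩
    have hk' : (o * d') ^ 2 ^ (k + l) = 1 := by
      rw [← e', conj_pow, pow_add, pow_mul, show d ^ 2 ^ k = 1 from congrArg Subtype.val hk, one_pow,
        mul_one, mul_inv_cancel]
    rw [(show Commute o d' from hc.comm o ho d' hd'.1).mul_pow,
      show d' ^ 2 ^ (k + l) = 1 by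
        rw [pow_add, mul_comm, pow_mul, show d' ^ 2 ^ l = 1 from congrArg Subtype.val hl, one_pow],
      mul_one] at hk'
    have ho1 : o = 1 := orderOf_eq_one_iff.1 (Nat.eq_one_of_dvd_coprimes
      ((Nat.coprime_two_left.2 hc.hO).pow_left _) (orderOf_dvd_of_pow_eq_one hk')
      (Subgroup.orderOf_dvd_natCard O ho))
    rw [e', ho1, one_mul]; exact hd'
  -- the quotient of `D`
  set V' := V.subgroupOf D ⊔ frattini D with hV'
  haveI : (V.subgroupOf D).Normal :=
    (normal_subgroupOf_iff_le_normalizer hVD).2 (hDH.trans hm.norm)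
  haveI : V'.Normal := inferInstanceAs ((V.subgroupOf D ⊔ frattini D).Normal)
  suffices htop : V' = ⊤ by
    have h1 := frattini_nongenerating htop
    have h2 : Nat.card D ≤ Nat.card V := Subgroup.card_le_of_le (subgroupOf_eq_top.1 h1)
    have h3 := hm.card_le_eight hp hx1 hxu hxc
    omega
  have hsqV : ∀ a : D, a * a ∈ V' := fun a =>
    mem_sup_right (by simpa [pow_two] using CfsgLib.Coprime.pow_mem_frattini hD2 a)
  have hX2 : ∀ a : D ⧸ V', a * a = 1 := fun a => by
    induction a using QuotientGroup.induction_on with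
    | _ a => rw [← QuotientGroup.mk_mul, QuotientGroup.eq_one_iff]; exact hsqV a
  letI : CommGroup (D ⧸ V') :=
    { (inferInstance : Group (D ⧸ V')) with
      mul_comm := fun a b => by
        calc a * b = (a * b)⁻¹ := eq_inv_of_mul_eq_one_left (hX2 _)
          _ = b * a := by
            rw [mul_inv_rev, inv_eq_of_mul_eq_one_right (hX2 a), inv_eq_of_mul_eq_one_right (hX2 b)] }
  let α : ↥(M ⊔ K) →* MulAut D := D.normalizerMonoidHom.comp (inclusion hDn)
  have hα : ∀ g (d : D), (α g d : G) = g * d * (g : G)⁻¹ := fun g d => rfl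
  have hαV : ∀ g, V'.map (α g).toMonoidHom = V' := by
    intro g
    have h1 : ∀ g, (V.subgroupOf D).map (α g).toMonoidHom ≤ V.subgroupOf D := by
      rintro g _ ⟨d, hd, rfl⟩
      rw [mem_subgroupOf]
      exact (mem_normalizer_iff.1 (hm.norm g.2) _).1 hd
    refine eq_of_le_of_card_ge ?_ (card_map_of_injective (α g).injective).ge
    rw [hV', Subgroup.map_sup]
    exact sup_le_sup (h1 g) (characteristic_iff_map_le.1 inferInstance (α g))
  let qa : ↥(M ⊔ K) → MulAut (D ⧸ V') := fun g => QuotientGroup.congr V' V' (α g) (hαV g)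
  have hqa : ∀ g (d : D), qa g (d : D ⧸ V') = ((α g d : D) : D ⧸ V') := fun g d =>
    QuotientGroup.congr_mk V' V' (α g) (hαV g) d
  let ρ0 : ↥(M ⊔ K) →* MulAut (D ⧸ V') :=
    { toFun := qa
      map_one' := MulEquiv.ext fun a => by
        induction a using QuotientGroup.induction_on with
        | _ d => rw [hqa, map_one]; rfl
      map_mul' := fun g g' => MulEquiv.ext fun a => by
        induction a using QuotientGroup.induction_on with
        | _ d => rw [hqa, map_mul, MulAut.mul_apply, MulAut.mul_apply, hqa, hqa] }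
  have hρ0 : ∀ g (d : D), ρ0 g (d : D ⧸ V') = ((α g d : D) : D ⧸ V') := hqa
  have hkk : hm.hom.ker ≤ ρ0.ker := by
    intro g hg
    obtain ⟨o, ho, d', hd', e⟩ := hker g hg
    refine MonoidHom.mem_ker.2 (MulEquiv.ext fun a => ?_)
    induction a using QuotientGroup.induction_on with
    | _ d =>
      rw [hρ0, MulAut.one_apply]
      have e2 : α g d = ⟨d', hd'⟩ * d * ⟨d', hd'⟩⁻¹ := Subtype.ext (by
        rw [hα, e]
        show o * d' * d * (o * d')⁻¹ = d' * d * d'⁻¹
        have hmem : d' * (d : G) * d'⁻¹ ∈ Q := mul_mem (mul_mem hd'.1 d.2.1) (inv_mem hd'.1)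
        calc o * d' * d * (o * d')⁻¹ = o * (d' * d * d'⁻¹) * o⁻¹ := by group
          _ = _ := by rw [hc.comm o ho _ hmem, mul_inv_cancel_right])
      rw [e2, QuotientGroup.mk_mul, QuotientGroup.mk_mul, QuotientGroup.mk_inv]
      exact mul_inv_cancel_comm _ _
  let ρ : hm.hom.range →* MulAut (D ⧸ V') :=
    (QuotientGroup.lift hm.hom.ker ρ0 hkk).comp (QuotientGroup.quotientKerEquivRange hm.hom).symm.toMonoidHom
  have hρ : ∀ g, ρ (hm.hom.rangeRestrict g) = ρ0 g := by
    intro g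
    show QuotientGroup.lift hm.hom.ker ρ0 hkk
      ((QuotientGroup.quotientKerEquivRange hm.hom).symm (hm.hom.rangeRestrict g)) = ρ0 g
    rw [show hm.hom.rangeRestrict g = QuotientGroup.quotientKerEquivRange hm.hom (g : ↥(M ⊔ K) ⧸ hm.hom.ker)
      from rfl, MulEquiv.symm_apply_apply, QuotientGroup.lift_mk]
  set vL : hm.hom.range := hm.hom.rangeRestrict hp.vH with hvL
  have hvo : orderOf vL = 3 := by
    rw [← Subgroup.orderOf_coe]; exact hm.order_v hp hx1 hxu
  have hfix : ∀ a : D ⧸ V', ρ vL a = a → a = 1 := by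
    intro a
    induction a using QuotientGroup.induction_on with
    | _ d =>
      intro ha
      rw [hvL, hρ, hρ0] at ha
      let P := {b : D // (b : D ⧸ V') = d}
      have hP : ∀ b : P, ((α hp.vH b.1 : D) : D ⧸ V') = d := fun b => by
        rw [← hρ0, b.2, hρ0, ha]
      obtain ⟨b, hb⟩ := exists_fixed_of_three (fun b : P => (⟨α hp.vH b.1, hP b⟩ : P))
        (fun b => Subtype.ext (Subtype.ext (by
          show v * (v * (v * (b.1 : G) * v⁻¹) * v⁻¹) * v⁻¹ = b.1
          rw [show v * (v * (v * (b.1 : G) * v⁻¹) * v⁻¹) * v⁻¹ = (v * v * v) * b.1 * (v * v * v)⁻¹ by group,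
            hc.six.vvv, one_mul, inv_one, mul_one])))
        (by
          have e : Nat.card P = Nat.card V' := Nat.card_congr
            { toFun := fun b => ⟨d⁻¹ * b.1, QuotientGroup.eq.1 b.2.symm⟩
              invFun := fun w => ⟨d * w, (QuotientGroup.eq.2 (by rw [inv_mul_cancel_left]; exact w.2)).symm⟩
              left_inv := fun b => Subtype.ext (mul_inv_cancel_left d b.1)
              right_inv := fun w => Subtype.ext (inv_mul_cancel_left d (w : D)) }
          rw [e]
          intro h3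
          obtain ⟨k, hk⟩ := (hD2.to_subgroup V').exists_card_eq
          rw [hk] at h3
          exact absurd (Nat.prime_three.dvd_of_dvd_pow h3) (by norm_num))
      have hb' : v * (b.1 : G) * v⁻¹ = b.1 := congrArg (fun p : P => (p.1 : G)) hb
      rw [← b.2, QuotientGroup.eq_one_iff]
      refine mem_sup_left (mem_subgroupOf.2 ?_)
      rcases hc.fixQ b.1.2.1 (mul_inv_eq_iff_eq_mul.1 hb').symm with e | e <;> rw [e]
      · exact one_mem _
      · exact hm.uV
  have hTv : ∀ a : D ⧸ V', a * ρ vL a * ρ (vL * vL) a = 1 := by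
    intro a
    refine hfix _ ?_
    rw [map_mul (ρ vL), map_mul (ρ vL)]
    simp only [← MulAut.mul_apply, ← map_mul]
    rw [← mul_assoc vL, pow_three_eq_one hvo, map_one, MulAut.one_apply]
    exact (mul_comm _ _).trans (mul_assoc _ _ _).symm
  have h3 : ∀ w : hm.hom.range, orderOf w = 3 → ∀ a : D ⧸ V', a * ρ w a * ρ (w * w) a = 1 := by
    intro w hw a
    have key : ∀ c p : hm.hom.range, (∀ a, a * ρ p a * ρ (p * p) a = 1) → c * p * c⁻¹ = w →
        a * ρ w a * ρ (w * w) a = 1 := by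
      intro c p hp' e
      have h0 := congrArg (ρ c) (hp' (ρ c⁻¹ a))
      rw [map_one, map_mul, map_mul] at h0
      simp only [← MulAut.mul_apply, ← map_mul] at h0
      rwa [mul_inv_cancel, map_one, MulAut.one_apply, show c * (p * c⁻¹) = w by rw [← e]; group,
        show c * (p * p * c⁻¹) = w * w by rw [← e]; group] at h0
    rcases hcent.conj_or_inv hvo hw with hc' | hc'
    · obtain ⟨c, e⟩ := isConj_iff.1 hc'
      exact key c vL hTv e
    · obtain ⟨c, e⟩ := isConj_iff.1 hc'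
      refine key c vL⁻¹ (fun b => ?_) e
      have := hTv b
      rw [inv_eq_sq hvo, show vL * vL * (vL * vL) = vL * (vL * vL * vL) by group, pow_three_eq_one hvo,
        mul_one, mul_right_comm]
      exact this
  obtain ⟨z, w, r, hz, hw, hwz, hr1, hr3⟩ := exists_frobenius21 h168 hcent
  have hwk := seven_kills ρ hX2 h3 hz hw hwz hr1 hr3
  have hvk : ρ vL = 1 := by
    rcases (inferInstance : ρ.ker.Normal).eq_bot_or_eq_top with e | e
    · have : w ∈ ρ.ker := hwk
      rw [e, mem_bot] at this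
      exact absurd this (ne_one_of_order hw (by norm_num))
    · exact MonoidHom.mem_ker.1 (e ▸ mem_top vL)
  refine eq_top_iff.2 fun d _ => (QuotientGroup.eq_one_iff d).1 (hfix _ ?_)
  rw [hvk, MulAut.one_apply]

end CfsgLib.Recog.OrderSix
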