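import Cfsg.Agent.Lib.Recog.OrderSix.AmalgamPair
import Cfsg.Agent.Lib.Coprime.Solvable
import Cfsg.Agent.Lib.Classical.ProjLine

/-!
# The minimal normal subgroup of the pair and its automorphism group
-/

set_option autoImplicit false
set_option linter.unusedSectionVars false
set_option linter.style.haveILetI false

namespace CfsgLib.Recog.OrderSix

open Subgroup CfsgLib.Char.SelfCentThree

universe u

variable {G : Type u} [Group G] [Finite G] {u v s x : G} {Q O M K V : Subgroup G}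

theorem le_normalizer_of_conj_mem {H F : Subgroup G} (h : ∀ g ∈ H, ∀ a ∈ F, g * a * g⁻¹ ∈ F) :
    H ≤ normalizer (F : Set G) := fun g hg =>
  mem_normalizer_iff.2 fun a => ⟨h g hg a, fun ha => by
    have := h g⁻¹ (inv_mem hg) _ ha
    simpa [mul_assoc] using this⟩

/-- An element of `Q` commuting with `v` modulo the centralizer of an invariant subgroup centralizes
that subgroup. -/
theorem Core.fix_mod {m : ℕ} (hc : Core u v Q O m) (hVQ : V ≤ Q)
    (hVv : ∀ b ∈ V, v⁻¹ * b * v ∈ V) {q : G} (hq : q ∈ Q)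
    (hqv : ∀ b ∈ V, v * (q * b * q⁻¹) * v⁻¹ = q * (v * b * v⁻¹) * q⁻¹) :
    ∀ b ∈ V, q * b = b * q := by
  let P : G → Prop := fun a => a ∈ Q ∧ ∀ b ∈ V, a * b * a⁻¹ = q * b * q⁻¹
  have hf : ∀ a, P a → P (v * a * v⁻¹) := by
    intro a ha
    refine ⟨hc.vQ ha.1, fun b hb => ?_⟩
    calc v * a * v⁻¹ * b * (v * a * v⁻¹)⁻¹ = v * (a * (v⁻¹ * b * v) * a⁻¹) * v⁻¹ := by group
      _ = v * (q * (v⁻¹ * b * v) * q⁻¹) * v⁻¹ := by rw [ha.2 _ (hVv b hb)]
      _ = q * b * q⁻¹ := by rw [hqv _ (hVv b hb)]; group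
  let D := Q ⊓ centralizer (V : Set G)
  have hcard : Nat.card {a // P a} = Nat.card D := by
    refine Nat.card_congr
      { toFun := fun a => ⟨q⁻¹ * (a : G), Subgroup.mem_inf.2 ⟨Q.mul_mem (Q.inv_mem hq) a.2.1, mem_centralizer_iff.2 fun b hb => ?_⟩⟩
        invFun := fun d => ⟨q * (d : G), mul_mem hq d.2.1, fun b hb => ?_⟩
        left_inv := fun a => Subtype.ext (mul_inv_cancel_left q (a : G))
        right_inv := fun d => Subtype.ext (inv_mul_cancel_left q (d : G)) }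
    · have e := a.2.2 b hb
      calc b * (q⁻¹ * (a : G)) = q⁻¹ * (q * b * q⁻¹) * a := by group
        _ = q⁻¹ * a * b := by rw [← e]; group
    · have e : b * (d : G) = d * b := mem_centralizer_iff.1 d.2.2 b hb
      calc q * (d : G) * b * (q * d)⁻¹ = q * ((d : G) * b) * (d : G)⁻¹ * q⁻¹ := by group
        _ = _ := by rw [← e]; group
  obtain ⟨a, ha⟩ := exists_fixed_of_three (fun a : {a // P a} => (⟨_, hf a a.2⟩ : {a // P a}))
    (fun a => Subtype.ext (by
      show v * (v * (v * (a : G) * v⁻¹) * v⁻¹) * v⁻¹ = a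
      rw [show v * (v * (v * (a : G) * v⁻¹) * v⁻¹) * v⁻¹ = (v * v * v) * a * (v * v * v)⁻¹ by group,
        hc.six.vvv, one_mul, inv_one, mul_one]))
    (by
      rw [hcard]
      intro h3
      obtain ⟨k, hk⟩ := (hc.hQ.to_le (inf_le_left : D ≤ Q)).exists_card_eq
      rw [hk] at h3
      exact absurd (Nat.prime_three.dvd_of_dvd_pow h3) (by norm_num))
  have hav : v * (a : G) * v⁻¹ = a := congrArg Subtype.val ha
  intro b hb
  have hab : (a : G) * b * (a : G)⁻¹ = b := by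
    rcases hc.fixQ a.2.1 (mul_inv_eq_iff_eq_mul.1 hav).symm with e | e <;> rw [e]
    · group
    · rw [← hc.qu (hVQ hb), mul_inv_cancel_right]
  rw [a.2.2 b hb] at hab
  exact mul_inv_eq_iff_eq_mul.1 hab

/-- A minimal elementary abelian subgroup normal in both members of the pair. -/
structure Module (h : Top u v Q O s) (x : G) (M K V : Subgroup G) : Prop where
  le : V ≤ Q
  norm : M ⊔ K ≤ normalizer (V : Set G)
  comm : ∀ a ∈ V, ∀ b ∈ V, a * b = b * a
  sq : ∀ a ∈ V, a * a = 1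
  uV : u ∈ V
  xV : x ∈ V
  min : ∀ F : Subgroup G, F ≤ V → F ≠ ⊥ → M ⊔ K ≤ normalizer (F : Set G) → F = V

theorem Pair.exists_module {h : Top u v Q O s} (hp : Pair h x M K) (hQ : 2 < Nat.card Q)
    {N : Subgroup G} (hne : N ≠ ⊥) (hNS : N ≤ h.S) (hnorm : M ⊔ K ≤ normalizer (N : Set G)) :
    ∃ V, Module h x M K V := by
  classical
  haveI : Fact (Nat.Prime 2) := ⟨Nat.prime_two⟩
  have hc := h.core
  have hNQ : N ≤ Q := by
    intro n hn
    by_contra hnQ
    obtain ⟨q, hq, rfl⟩ : ∃ q ∈ Q, n = q * s :=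
      ⟨_, (hNS hn).resolve_left hnQ, (inv_mul_cancel_right n s).symm⟩
    have h1 : v * (q * s) * v⁻¹ * (q * s)⁻¹ ∈ h.S :=
      hNS (mul_mem ((mem_normalizer_iff.1 (hnorm (mem_sup_left hp.vM)) _).1 hn) (inv_mem hn))
    rw [show v * (q * s) * v⁻¹ * (q * s)⁻¹ = (v * q * v⁻¹) * v * (s * v * s⁻¹)⁻¹ * q⁻¹ by group,
      h.sv, inv_inv] at h1
    have h2 : v * v ∈ h.S := by
      have := mul_mem (mul_mem (inv_mem (h.Q_le (hc.vQ hq))) h1) (h.Q_le hq)
      rwa [show (v * q * v⁻¹)⁻¹ * (v * q * v⁻¹ * v * v * q⁻¹) * q = v * v by group] at this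
    have e : (v * v)⁻¹ = v := by rw [← inv_eq_sq hc.six.hv, inv_inv]
    have h3 : v ∈ h.S := (congrArg (fun z => z ∈ h.S) e).mp (inv_mem h2)
    exact not_three_dvd_of_two_group h.isPGroup h3 (by rw [hc.six.hv])
  let Ω : Subgroup G :=
    { carrier := {a | a ∈ N ∧ (∀ n ∈ N, a * n = n * a) ∧ a * a = 1}
      one_mem' := ⟨one_mem _, fun n _ => by rw [one_mul, mul_one], mul_one 1⟩
      mul_mem' := fun {a b} ha hb => ⟨mul_mem ha.1 hb.1,
        fun n hn => by rw [mul_assoc, hb.2.1 n hn, ← mul_assoc, ha.2.1 n hn, mul_assoc],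
        by rw [mul_assoc, ← mul_assoc b, hb.2.1 a ha.1, mul_assoc a b, hb.2.2, mul_one, ha.2.2]⟩
      inv_mem' := fun {a} ha => by
        rw [inv_eq_of_mul_eq_one_right ha.2.2]; exact ha }
  have hΩn : M ⊔ K ≤ normalizer (Ω : Set G) := le_normalizer_of_conj_mem fun g hg a ha => by
    refine ⟨(mem_normalizer_iff.1 (hnorm hg) a).1 ha.1, fun n hn => ?_, ?_⟩
    · have hn' : g⁻¹ * n * g ∈ N := (mem_normalizer_iff''.1 (hnorm hg) n).1 hn
      calc g * a * g⁻¹ * n = g * (a * (g⁻¹ * n * g)) * g⁻¹ := by group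
        _ = g * ((g⁻¹ * n * g) * a) * g⁻¹ := by rw [ha.2.1 _ hn']
        _ = _ := by group
    · rw [show g * a * g⁻¹ * (g * a * g⁻¹) = g * (a * a) * g⁻¹ by group, ha.2.2]; group
  have hΩne : Ω ≠ ⊥ := by
    haveI : Nontrivial N := N.nontrivial_iff_ne_bot.2 hne
    have hN2 : IsPGroup 2 N := h.isPGroup.to_le hNS
    haveI := hN2.center_nontrivial
    obtain ⟨m, hm⟩ := (hN2.to_subgroup (center N)).exists_card_eq
    have hm0 : m ≠ 0 := fun e => by
      have := Finite.one_lt_card (α := center N)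
      rw [hm, e, pow_zero] at this
      exact lt_irrefl 1 this
    obtain ⟨z, hz⟩ := exists_prime_orderOf_dvd_card' (G := center N) 2 (hm ▸ dvd_pow_self 2 hm0)
    have hzo : orderOf ((z : N) : G) = 2 := by rw [Subgroup.orderOf_coe, Subgroup.orderOf_coe, hz]
    intro hb
    have hzΩ : ((z : N) : G) ∈ Ω := ⟨(z : N).2,
      fun n hn => (congrArg Subtype.val (mem_center_iff.1 z.2 ⟨n, hn⟩)).symm, mul_self_invol hzo⟩
    rw [hb, mem_bot] at hzΩ
    exact ne_one_of_order hzo (by norm_num) hzΩ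
  obtain ⟨V, ⟨hV1, hV2, hV3⟩, hVmin⟩ := exists_minimal_of_wellFoundedLT
    (fun F : Subgroup G => F ≠ ⊥ ∧ F ≤ Ω ∧ M ⊔ K ≤ normalizer (F : Set G)) ⟨Ω, hΩne, le_rfl, hΩn⟩
  have hVQ : V ≤ Q := fun a ha => hNQ (hV2 ha).1
  have hVS : V ≤ h.S := hVQ.trans h.Q_le
  have hSn : h.S ≤ normalizer (V : Set G) := fun a ha => hV3 (mem_sup_left (hp.inter.ge ha).1)
  haveI : (V.subgroupOf h.S).Normal := (normal_subgroupOf_iff_le_normalizer hVS).2 hSn
  haveI : Group.IsNilpotent h.S := h.isPGroup.isNilpotent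
  obtain ⟨z, hz, hz1⟩ := Subgroup.ne_bot_iff_exists_ne_one.1
    (CfsgLib.Coprime.nilpotent_inf_center_ne_bot (V.subgroupOf h.S)
      (fun e => hV1 (by rwa [subgroupOf_eq_bot, disjoint_iff, inf_eq_left.2 hVS] at e))) |>
    fun ⟨z, hz⟩ => (⟨(z : h.S), z.2, fun e => hz (Subtype.ext e)⟩ :
      ∃ z : h.S, z ∈ V.subgroupOf h.S ⊓ center h.S ∧ z ≠ 1)
  have hzu : (z : G) = u := (h.center_S hQ z.2 fun y hy =>
    (congrArg Subtype.val (mem_center_iff.1 hz.2 ⟨y, hy⟩)).symm).resolve_left fun e => hz1 (Subtype.ext e)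
  have huV : u ∈ V := hzu ▸ mem_subgroupOf.1 hz.1
  obtain ⟨k, hk, hku⟩ := hp.moves
  have huxV : u * x ∈ V := hku ▸ (mem_normalizer_iff.1 (hV3 (mem_sup_right hk)) u).1 huV
  refine ⟨V, hVQ, hV3, fun a ha b hb => (hV2 ha).2.1 b (hV2 hb).1, fun a ha => (hV2 ha).2.2, huV, ?_,
    fun F hFV hF hFn => le_antisymm hFV (hVmin ⟨hF, hFV.trans hV2, hFn⟩ hFV)⟩
  have := mul_mem huV huxV
  rwa [← mul_assoc, hc.six.uu, one_mul] at this

variable {h : Top u v Q O s}

/-- The action on the minimal normal subgroup. -/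
def Module.hom (hm : Module h x M K V) : ↥(M ⊔ K) →* MulAut V :=
  V.normalizerMonoidHom.comp (inclusion hm.norm)

theorem Module.hom_apply (hm : Module h x M K V) (g : ↥(M ⊔ K)) (a : V) :
    (hm.hom g a : G) = g * a * (g : G)⁻¹ := rfl

theorem Module.hom_eq_iff (hm : Module h x M K V) {g g' : ↥(M ⊔ K)} :
    hm.hom g = hm.hom g' ↔ ∀ a ∈ V, (g : G) * a * (g : G)⁻¹ = g' * a * (g' : G)⁻¹ :=
  ⟨fun e a ha => by rw [← hm.hom_apply g ⟨a, ha⟩, e, hm.hom_apply],
    fun e => MulEquiv.ext fun a => Subtype.ext (by rw [hm.hom_apply, hm.hom_apply]; exact e a a.2)⟩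

theorem Module.hom_eq_one (hm : Module h x M K V) {g : ↥(M ⊔ K)} :
    hm.hom g = 1 ↔ ∀ a ∈ V, (g : G) * a = a * g := by
  rw [← map_one hm.hom, hm.hom_eq_iff]
  refine forall₂_congr fun a _ => ?_
  simp [mul_inv_eq_iff_eq_mul]

/-- Elements fixing `u` act as elements of `M`. -/
theorem Module.split (hp : Pair h x M K) (hm : Module h x M K V) (g : ↥(M ⊔ K))
    (hg : (g : G) * u = u * g) :
    ∃ m : ↥(M ⊔ K), (m : G) ∈ M ∧ hm.hom g = hm.hom m ∧ ∃ o ∈ O, (g : G) = o * m := by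
  obtain ⟨y, ⟨q, hq, o, ho, rfl⟩, i, -, hy⟩ := h.split hg
  have key : ∀ m : G, m ∈ M → (g : G) = o * m →
      ∃ m : ↥(M ⊔ K), (m : G) ∈ M ∧ hm.hom g = hm.hom m ∧ ∃ o ∈ O, (g : G) = o * m := by
    intro m hmM e
    refine ⟨⟨m, mem_sup_left hmM⟩, hmM, hm.hom_eq_iff.2 fun a ha => ?_, o, ho, e⟩
    have hma : m * a * m⁻¹ ∈ Q := hm.le ((mem_normalizer_iff.1 (hm.norm (mem_sup_left hmM)) a).1 ha)
    rw [e, show o * m * a * (o * m)⁻¹ = o * (m * a * m⁻¹) * o⁻¹ by group, h.core.comm o ho _ hma,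
      mul_inv_cancel_right]
  rcases hy with e | e
  · refine key (q * v ^ i) (mul_mem (hp.QM hq) (pow_mem hp.vM i)) ?_
    rw [e, ← h.core.comm o ho q hq, mul_assoc]
  · refine key (q * v ^ i * s) (mul_mem (mul_mem (hp.QM hq) (pow_mem hp.vM i)) hp.sM) ?_
    rw [e, ← h.core.comm o ho q hq]; group

section Acting

variable (hp : Pair h x M K) (hm : Module h x M K V) (hx1 : x ≠ 1) (hxu : x ≠ u)

/-- `v` in the join of the pair. -/
abbrev Pair.vH : ↥(M ⊔ K) := ⟨v, mem_sup_left hp.vM⟩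

include hx1 hxu in
theorem Module.order_v : orderOf (hm.hom hp.vH) = 3 := by
  refine orderOf_three ?_ fun e => ?_
  · rw [← map_mul, ← map_mul, ← map_one hm.hom]
    exact congrArg hm.hom (Subtype.ext h.core.six.vvv)
  · have : v * x = x * v := hm.hom_eq_one.1 e x hm.xV
    exact (h.core.fixQ (hm.le hm.xV) this.symm).elim hx1 hxu

include hx1 hxu in
/-- An element inverting `v` on `V` does not act as an element of `Q`. -/
theorem Module.not_inverted {g : ↥(M ⊔ K)}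
    (hg : hm.hom g * hm.hom hp.vH * (hm.hom g)⁻¹ = (hm.hom hp.vH)⁻¹) {q : ↥(M ⊔ K)}
    (hq : (q : G) ∈ Q) : hm.hom g ≠ hm.hom q := by
  intro e
  rw [e] at hg
  set a := hm.hom hp.vH with ha
  set b := hm.hom q with hb
  have h3 := hm.order_v hp hx1 hxu
  rw [← ha] at h3
  have h1 : b * (a * b⁻¹ * a⁻¹) = a⁻¹ * a⁻¹ := by rw [← mul_assoc, ← mul_assoc, hg]
  have h2 : b * (a * b⁻¹ * a⁻¹) = a := by rw [h1, inv_eq_sq h3, ← mul_assoc, pow_three_eq_one h3, one_mul]
  have hmem : (q : G) * (v * (q : G)⁻¹ * v⁻¹) ∈ Q := mul_mem hq (h.core.vQ (inv_mem hq))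
  obtain ⟨k, hk⟩ := h.core.hQ ⟨_, hmem⟩
  have h4 : a ^ 2 ^ k = 1 := by
    rw [← h2, hb, ha, ← map_inv, ← map_inv, ← map_mul, ← map_mul, ← map_mul, ← map_pow, ← map_one hm.hom]
    exact congrArg hm.hom (Subtype.ext (by simpa using congrArg Subtype.val hk))
  have h5 := orderOf_dvd_of_pow_eq_one h4
  rw [h3] at h5
  exact absurd (Nat.prime_three.dvd_of_dvd_pow h5) (by norm_num)

theorem Module.hom_inverted {g : ↥(M ⊔ K)} {q : G} {i : ℕ} (hq : q ∈ Q)
    (hg : (g : G) = q * v ^ i * s) :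
    ∃ b : ↥(M ⊔ K), (b : G) ∈ Q ∧ hm.hom g * hm.hom hp.vH * (hm.hom g)⁻¹ =
      hm.hom b * (hm.hom hp.vH)⁻¹ * (hm.hom b)⁻¹ := by
  refine ⟨⟨q, mem_sup_left (hp.QM hq)⟩, hq, ?_⟩
  rw [← map_inv, ← map_inv, ← map_inv, ← map_mul, ← map_mul, ← map_mul, ← map_mul]
  refine congrArg hm.hom (Subtype.ext ?_)
  show (g : G) * v * (g : G)⁻¹ = q * v⁻¹ * q⁻¹
  rw [hg, show q * v ^ i * s * v * (q * v ^ i * s)⁻¹ = q * (v ^ i * (s * v * s⁻¹) * (v ^ i)⁻¹) * q⁻¹ by group,
    h.sv, ((Commute.refl v).pow_left i).inv_right.eq, mul_inv_cancel_right]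

include hx1 hxu in
theorem Module.comm_image {g : ↥(M ⊔ K)}
    (hg : hm.hom g * hm.hom hp.vH = hm.hom hp.vH * hm.hom g) :
    hm.hom g ∈ zpowers (hm.hom hp.vH) := by
  have hc := h.core
  have hgu : (g : G) * u = u * g := by
    have hgv : v * ((g : G) * u * (g : G)⁻¹) * v⁻¹ = g * u * (g : G)⁻¹ := by
      have := congrArg (fun f : MulAut V => ((f ⟨u, hm.uV⟩ : V) : G)) hg
      simp only [MulAut.mul_apply, hm.hom_apply] at this
      rw [← this, hc.six.huv.symm, mul_inv_cancel_right]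
    rcases hc.fixQ (hm.le ((mem_normalizer_iff.1 (hm.norm g.2) u).1 hm.uV))
      (mul_inv_eq_iff_eq_mul.1 hgv).symm with e | e
    · exact absurd (conj_eq_one_iff.1 e) hc.six.u_ne
    · exact mul_inv_eq_iff_eq_mul.1 e
  obtain ⟨m, hmM, hgm, -⟩ := hm.split hp g hgu
  rw [hgm] at hg ⊢
  obtain ⟨q, hq, i, -, e⟩ := hp.mem m hmM
  rcases e with e | e
  · set qH : ↥(M ⊔ K) := ⟨q, mem_sup_left (hp.QM hq)⟩
    have hm' : hm.hom m = hm.hom qH * hm.hom hp.vH ^ i := by
      rw [← map_pow, ← map_mul]; exact congrArg hm.hom (Subtype.ext (by simpa [qH] using e))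
    have hqc : hm.hom qH * hm.hom hp.vH = hm.hom hp.vH * hm.hom qH := by
      rw [hm', mul_assoc, ← pow_succ, pow_succ', ← mul_assoc, ← mul_assoc] at hg
      exact mul_right_cancel hg
    have hq1 : hm.hom qH = 1 := hm.hom_eq_one.2 (hc.fix_mod hm.le
      (fun b hb => (mem_normalizer_iff''.1 (hm.norm (mem_sup_left hp.vM)) b).1 hb) hq fun b hb => by
        have := congrArg (fun f : MulAut V => ((f ⟨b, hb⟩ : V) : G)) hqc
        simp only [MulAut.mul_apply, hm.hom_apply] at this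
        exact this.symm)
    rw [hm', hq1, one_mul]
    exact pow_mem (mem_zpowers _) i
  · exfalso
    obtain ⟨b, hb, eb⟩ := hm.hom_inverted hp hq e
    have h6 : hm.hom m * hm.hom hp.vH * (hm.hom m)⁻¹ = hm.hom hp.vH := by
      rw [hg, mul_inv_cancel_right]
    rw [h6] at eb
    refine hm.not_inverted hp hx1 hxu (g := b) ?_ hb rfl
    have e2 := congrArg (·⁻¹) eb
    simp only [mul_inv_rev, inv_inv, ← mul_assoc] at e2
    exact e2.symm

/-- No two-subgroup of the image is normal. -/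
theorem Module.no_two_core {P : Subgroup (MulAut V)} (hP2 : IsPGroup 2 P)
    (hn : ∀ g : ↥(M ⊔ K), ∀ p ∈ P, (hm.hom g)⁻¹ * p * hm.hom g ∈ P) : P = ⊥ := by
  classical
  haveI : Fact (Nat.Prime 2) := ⟨Nat.prime_two⟩
  let F : Subgroup G :=
    { carrier := {a | ∃ ha : a ∈ V, ∀ p ∈ P, p ⟨a, ha⟩ = ⟨a, ha⟩}
      one_mem' := ⟨one_mem _, fun p _ => map_one p⟩
      mul_mem' := fun {a b} ⟨ha, ha'⟩ ⟨hb, hb'⟩ => ⟨mul_mem ha hb, fun p hp => by
        rw [show (⟨a * b, mul_mem ha hb⟩ : V) = ⟨a, ha⟩ * ⟨b, hb⟩ from rfl, map_mul, ha' p hp, hb' p hp]⟩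
      inv_mem' := fun {a} ⟨ha, ha'⟩ => ⟨inv_mem ha, fun p hp => by
        rw [show (⟨a⁻¹, inv_mem ha⟩ : V) = ⟨a, ha⟩⁻¹ from rfl, map_inv, ha' p hp]⟩ }
  have hFn : M ⊔ K ≤ normalizer (F : Set G) := le_normalizer_of_conj_mem fun g hg a ⟨ha, ha'⟩ => by
    refine ⟨(mem_normalizer_iff.1 (hm.norm hg) a).1 ha, fun p hp => ?_⟩
    have e := congrArg (hm.hom ⟨g, hg⟩) (ha' _ (hn ⟨g, hg⟩ p hp))
    rw [MulAut.mul_apply, MulAut.mul_apply, MulAut.inv_apply, MulEquiv.apply_symm_apply] at e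
    exact e
  have hFne : F ≠ ⊥ := by
    have h2 : 2 ∣ Nat.card V := h.core.six.hu ▸ Subgroup.orderOf_dvd_natCard V hm.uV
    obtain ⟨b, hb, hb1⟩ := hP2.exists_fixed_point_of_prime_dvd_card_of_fixed_point V h2
      (a := (1 : V)) (fun p => map_one (p : MulAut V))
    intro hF
    have : (b : G) ∈ F := ⟨b.2, fun p hp => hb ⟨p, hp⟩⟩
    rw [hF, mem_bot] at this
    exact hb1 (Subtype.ext this.symm)
  have hFV := hm.min F (fun a ⟨ha, _⟩ => ha) hFne hFn
  refine eq_bot_iff.2 fun p hp => mem_bot.2 (MulEquiv.ext fun a => ?_)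
  obtain ⟨ha, ha'⟩ : (a : G) ∈ F := hFV.ge a.2
  exact ha' p hp

/-- The image of `Q`. -/
abbrev Module.imQ : Subgroup hm.hom.range := (Q.subgroupOf (M ⊔ K)).map hm.hom.rangeRestrict

/-- The image of `S`. -/
abbrev Module.imS : Subgroup hm.hom.range := (h.S.subgroupOf (M ⊔ K)).map hm.hom.rangeRestrict

include hp hx1 hxu in
theorem Module.card_images (hxc : ∃ q ∈ Q, q * x ≠ x * q) :
    4 ≤ Nat.card hm.imQ ∧ 8 ∣ Nat.card hm.hom.range ∧ 8 ∣ Nat.card hm.imS ∧
      2 * Nat.card hm.imQ ∣ Nat.card hm.imS := by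
  classical
  haveI : Fact (Nat.Prime 2) := ⟨Nat.prime_two⟩
  set r := hm.hom.rangeRestrict with hr
  set vL := r hp.vH with hvL
  have hQ2 : IsPGroup 2 hm.imQ :=
    (h.core.hQ.comap_of_injective (M ⊔ K).subtype (M ⊔ K).subtype_injective).map r
  have hS2 : IsPGroup 2 hm.imS :=
    (h.isPGroup.comap_of_injective (M ⊔ K).subtype (M ⊔ K).subtype_injective).map r
  have hconj : ∀ p ∈ hm.imQ, vL * p * vL⁻¹ ∈ hm.imQ := by
    rintro _ ⟨q, hq, rfl⟩
    exact ⟨hp.vH * q * hp.vH⁻¹, mem_subgroupOf.2 (h.core.vQ hq), by simp [hvL, hr]⟩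
  have hvL3 : vL * vL * vL = 1 := by
    rw [hvL, hr, ← map_mul, ← map_mul, ← map_one hm.hom.rangeRestrict]
    exact congrArg hm.hom.rangeRestrict (Subtype.ext h.core.six.vvv)
  have hmod : Nat.card hm.imQ % 3 = 1 := by
    rw [card_mod_three (fun p : hm.imQ => (⟨_, hconj p p.2⟩ : hm.imQ)) fun p => Subtype.ext (by
      show vL * (vL * (vL * (p : hm.hom.range) * vL⁻¹) * vL⁻¹) * vL⁻¹ = p
      rw [show vL * (vL * (vL * (p : hm.hom.range) * vL⁻¹) * vL⁻¹) * vL⁻¹ =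
        (vL * vL * vL) * p * (vL * vL * vL)⁻¹ by group, hvL3, one_mul, inv_one, mul_one])]
    have : Unique {p : hm.imQ // (⟨_, hconj p p.2⟩ : hm.imQ) = p} := by
      refine ⟨⟨⟨1, Subtype.ext (by simp)⟩⟩, ?_⟩
      rintro ⟨⟨p, q, hq, rfl⟩, hfix⟩
      refine Subtype.ext (Subtype.ext (Subtype.ext ?_))
      have e : vL * r q * vL⁻¹ = r q := congrArg Subtype.val hfix
      have e' : hm.hom q * hm.hom hp.vH = hm.hom hp.vH * hm.hom q := by
        have e2 := congrArg Subtype.val (mul_inv_eq_iff_eq_mul.1 e)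
        simpa [hvL, hr] using e2.symm
      show hm.hom q = 1
      refine hm.hom_eq_one.2 (h.core.fix_mod hm.le
        (fun b hb => (mem_normalizer_iff''.1 (hm.norm (mem_sup_left hp.vM)) b).1 hb) hq fun b hb => ?_)
      have := congrArg (fun f : MulAut V => ((f ⟨b, hb⟩ : V) : G)) e'
      simp only [MulAut.mul_apply, hm.hom_apply] at this
      exact this.symm
    rw [Nat.card_unique]
  obtain ⟨k, hk⟩ := hQ2.exists_card_eq
  have hk2 : 2 ≤ k := by
    obtain ⟨q, hq, hqx⟩ := hxc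
    have h1 : 1 < Nat.card hm.imQ := by
      rw [Finite.one_lt_card_iff_nontrivial, Subgroup.nontrivial_iff_exists_ne_one]
      refine ⟨r ⟨q, mem_sup_left (hp.QM hq)⟩, ⟨_, hq, rfl⟩, fun e => hqx ?_⟩
      exact hm.hom_eq_one.1 (congrArg Subtype.val e) x hm.xV
    rw [hk] at h1 hmod
    match k with
    | 0 => simp at h1
    | 1 => simp at hmod
    | k + 2 => omega
  have hle : hm.imQ ≤ hm.imS := map_mono (comap_mono h.Q_le)
  have hlt : Nat.card hm.imQ < Nat.card hm.imS := by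
    refine lt_of_le_of_ne (Subgroup.card_le_of_le hle) fun e => ?_
    have hsI : r ⟨s, mem_sup_left hp.sM⟩ ∈ hm.imQ :=
      (eq_of_le_of_card_ge hle e.ge).ge ⟨_, h.s_mem, rfl⟩
    obtain ⟨q, hq, hqs⟩ := hsI
    refine hm.not_inverted hp hx1 hxu (g := ⟨s, mem_sup_left hp.sM⟩) ?_ hq (congrArg Subtype.val hqs.symm)
    rw [← map_inv, ← map_inv, ← map_mul, ← map_mul]
    exact congrArg hm.hom (Subtype.ext h.sv)
  obtain ⟨j, hj⟩ := hS2.exists_card_eq
  rw [hk, hj] at hlt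
  have hkj : k < j := (Nat.pow_lt_pow_iff_right (by norm_num)).1 hlt
  have h8 : 8 ∣ Nat.card hm.imS := by
    rw [hj]; exact (show 8 ∣ 2 ^ j from pow_dvd_pow 2 (show 3 ≤ j by omega))
  refine ⟨?_, h8.trans (Subgroup.card_subgroup_dvd_card _), h8, ?_⟩
  · rw [hk]; exact (show 2 ^ 2 ≤ 2 ^ k from Nat.pow_le_pow_right (by norm_num) hk2)
  · rw [hj, hk, ← pow_succ']; exact pow_dvd_pow 2 (by omega)

include hp hx1 hxu in
/-- The image is `PSL(2, 7)`, and that of `Q` has order four. -/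
theorem Module.linear (hxc : ∃ q ∈ Q, q * x ≠ x * q) :
    Nat.card hm.hom.range = 168 ∧ IsSimpleGroup hm.hom.range ∧ Cent3 hm.hom.range ∧
      Nat.card hm.imQ = 4 ∧ 24 ∣ Nat.card ((M.subgroupOf (M ⊔ K)).map hm.hom.rangeRestrict) := by
  classical
  haveI : Fact (Nat.Prime 2) := ⟨Nat.prime_two⟩
  obtain ⟨h4, h8L, h8S, h2Q⟩ := hm.card_images hp hx1 hxu hxc
  set L := hm.hom.range
  set vL : L := hm.hom.rangeRestrict hp.vH with hvL
  have hvo : orderOf vL = 3 := by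
    rw [← Subgroup.orderOf_coe]; exact hm.order_v hp hx1 hxu
  have hXC : centralizer (zpowers vL : Set L) = zpowers vL := by
    refine le_antisymm (fun l hl => ?_) fun l hl => ?_
    · obtain ⟨g, hg⟩ := l.2
      have e := congrArg Subtype.val (mem_centralizer_iff.1 hl vL (mem_zpowers _))
      simp only [coe_mul, hvL, MonoidHom.coe_rangeRestrict, ← hg] at e
      obtain ⟨i, hi⟩ := mem_zpowers_iff.1 (hm.comm_image hp hx1 hxu e.symm)
      exact mem_zpowers_iff.2 ⟨i, Subtype.ext (by simpa [hvL, hg] using hi)⟩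
    · rw [mem_centralizer_iff]
      intro p hp'
      obtain ⟨i, rfl⟩ := mem_zpowers_iff.1 hp'
      obtain ⟨j, rfl⟩ := mem_zpowers_iff.1 hl
      exact ((Commute.refl vL).zpow_zpow i j).eq
  have hkill : ∀ P : Subgroup L, P.Normal → IsPGroup 2 P → P = ⊥ := by
    intro P hPn hP2
    refine (Subgroup.map_eq_bot_iff_of_injective P L.subtype_injective).1
      (hm.no_two_core (hP2.map L.subtype) ?_)
    rintro g _ ⟨p, hp', rfl⟩
    refine ⟨(hm.hom.rangeRestrict g)⁻¹ * p * hm.hom.rangeRestrict g, ?_, rfl⟩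
    simpa using hPn.conj_mem p hp' (hm.hom.rangeRestrict g)⁻¹
  rcases CfsgLib.Char.SelfCentThree.classify (zpowers vL) (by rw [Nat.card_zpowers, hvo]) hXC with
    ⟨N, hN, hnil, -, hq⟩ | ⟨N, hN, hNc, hN2, ⟨e⟩⟩ | ⟨⟨e⟩⟩
  · exfalso
    haveI := hN
    haveI := hnil
    obtain ⟨P⟩ : Nonempty (Sylow 2 N) := inferInstance
    haveI hPn : (P : Subgroup N).Normal :=
      ((Group.isNilpotent_of_finite_tfae (G := N)).out 0 3 rfl rfl |>.1 inferInstance) 2 inferInstance P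
    haveI : (P : Subgroup N).Characteristic := Sylow.characteristic_of_normal P inferInstance
    haveI : ((P : Subgroup N).map N.subtype).Normal := ConjAct.normal_of_characteristic_of_normal
    have hPb := hkill _ inferInstance (P.2.map N.subtype)
    rw [map_eq_bot_iff_of_injective _ N.subtype_injective] at hPb
    have hodd : ¬ 2 ∣ Nat.card N := by
      have := P.not_dvd_index
      rwa [hPb, index_bot] at this
    have hcard : Nat.card L = Nat.card (L ⧸ N) * Nat.card N :=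
      N.card_eq_card_quotient_mul_card_subgroup
    have hq' : Nat.card (L ⧸ N) = 3 ∨ Nat.card (L ⧸ N) = 6 := hq.imp_right fun e => by
      rw [Nat.card_congr e.some.toEquiv, Nat.card_perm, Nat.card_fin]; rfl
    rw [hcard] at h8L
    rcases hq' with e | e <;> rw [e] at h8L <;> omega
  · exfalso
    haveI := hN
    have hNb := hkill N hN fun n => ⟨1, Subtype.ext (hN2 n n.2)⟩
    subst hNb
    rw [← Nat.card_congr QuotientGroup.quotientBot.toEquiv, Nat.card_congr e.toEquiv,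
      nat_card_alternatingGroup, Nat.card_fin] at h8L
    norm_num [Nat.factorial] at h8L
  · haveI : Fact (Nat.Prime 7) := ⟨by norm_num⟩
    have h168 : Nat.card L = 168 := by
      rw [Nat.card_congr e.toEquiv]
      have := CfsgLib.Classical.card_psl2 (F := ZMod 7)
      rw [ZMod.card, show Nat.gcd 2 (7 - 1) = 2 from rfl] at this
      omega
    haveI : Nontrivial L := Finite.one_lt_card_iff_nontrivial.1 (by rw [h168]; norm_num)
    haveI : IsSimpleGroup (Matrix.ProjectiveSpecialLinearGroup (Fin 2) (ZMod 7)) :=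
      Matrix.ProjectiveSpecialLinearGroup.rank_two_simple (by simp)
    refine ⟨h168, IsSimpleGroup.isSimpleGroup_of_surjective e.symm.toMonoidHom e.symm.surjective,
      (cent3_of_centralizer _ (by rw [Nat.card_zpowers, hvo]) hXC).1, ?_, ?_⟩
    · have hS8 : Nat.card hm.imS ∣ 8 := by
        obtain ⟨j, hj⟩ := ((h.isPGroup.comap_of_injective (M ⊔ K).subtype
          (M ⊔ K).subtype_injective).map hm.hom.rangeRestrict).exists_card_eq
        have hd : Nat.card hm.imS ∣ 8 * 21 := by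
          rw [show 8 * 21 = Nat.card L by rw [h168]]; exact Subgroup.card_subgroup_dvd_card _
        refine Nat.Coprime.dvd_of_dvd_mul_right ?_ hd
        rw [show Nat.card hm.imS = 2 ^ j from hj]; exact Nat.Coprime.pow_left j (by norm_num)
      have := Nat.le_of_dvd (by norm_num) (h2Q.trans hS8)
      omega
    · refine Nat.Coprime.mul_dvd_of_dvd_of_dvd (show Nat.Coprime 8 3 by norm_num)
        (h8S.trans (Subgroup.card_dvd_of_le (map_mono (comap_mono ?_)))) ?_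
      · exact hp.inter.ge.trans inf_le_left
      · rw [← hvo]
        exact Subgroup.orderOf_dvd_natCard _ ⟨hp.vH, hp.vM, rfl⟩

end Acting

end CfsgLib.Recog.OrderSix
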