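import Cfsg.Agent.Lib.Recog.OrderSix.TopBasic
import Cfsg.Agent.Lib.Spor.Tri.SmallSymmetric

/-!
# The quotient `S₃`
-/

set_option autoImplicit false
set_option linter.unusedSectionVars false
set_option linter.style.haveILetI false

namespace CfsgLib.Recog.OrderSix

open Subgroup CfsgLib.Char.SelfCentThree

universe u

variable {G : Type u} [Group G] [Finite G] {u v s : G} {Q O : Subgroup G}

theorem Top.sv_conj (h : Top u v Q O s) {x : G} (hx : x ∈ h.core.QO) (i : ℕ) :
    v ^ i * x * (v ^ i)⁻¹ ∈ h.core.QO :=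
  h.core.QO_normal ((show Commute v u from h.core.six.huv.symm).pow_left i).eq hx

/-- Elements of the centralizer in normal form. -/
theorem Top.split (h : Top u v Q O s) {g : G} (hg : g * u = u * g) :
    ∃ x ∈ h.core.QO, ∃ i < 3, g = x * v ^ i ∨ g = x * v ^ i * s := by
  classical
  have hc := h.core
  have hsu := h.su
  have hvpow : ∀ i : ℕ, v ^ i ∈ hc.QO → 3 ∣ i := by
    intro i hi
    by_contra h3
    obtain ⟨k, hk⟩ := exists_pow_eq_self_of_coprime (n := i) (x := v)
      (by rw [hc.six.hv]; exact (Nat.prime_three.coprime_iff_not_dvd.2 h3).symm)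
    have h9 := pow_mem hi k
    rw [hk] at h9
    exact hc.v_not_QO h9
  have hsK : ∀ i : ℕ, ∀ x ∈ hc.QO, s ≠ x * v ^ i := by
    intro i x hx e
    apply hc.v_not_QO
    obtain ⟨c, hc'⟩ : ∃ c ∈ hc.QO, s * v * s⁻¹ = c * v := by
      refine ⟨x * (v * x⁻¹ * v⁻¹), mul_mem hx (hc.QO_normal hc.six.huv.symm (inv_mem hx)), ?_⟩
      rw [e, show x * v ^ i * v * (x * v ^ i)⁻¹ = x * (v ^ i * v * (v ^ i)⁻¹) * x⁻¹ by group,
        ← ((Commute.refl v).pow_right i).eq, mul_inv_cancel_right]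
      group
    rw [h.sv] at hc'
    have e2 : c = v := by
      have := eq_mul_inv_of_mul_eq hc'.2.symm
      rw [this, ← mul_inv_rev, ← inv_eq_sq hc.six.hv, inv_inv]
    exact e2 ▸ hc'.1
  have hinj : ∀ a b : h.core.QO × Fin 3 × Fin 2,
      (a.1 : G) * v ^ (a.2.1 : ℕ) * s ^ (a.2.2 : ℕ) = b.1 * v ^ (b.2.1 : ℕ) * s ^ (b.2.2 : ℕ) → a = b := by
    rintro ⟨⟨x, hx⟩, i, j⟩ ⟨⟨y, hy⟩, i', j'⟩ e
    simp only at e
    have h6 : ∀ (x y : G) (i i' : Fin 3), x ∈ hc.QO → y ∈ hc.QO →
        x * v ^ (i : ℕ) = y * v ^ (i' : ℕ) → x = y ∧ i = i' := by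
      intro x y i i' hx hy e
      have h7 : v ^ ((i : ℕ) + (3 - (i' : ℕ))) ∈ hc.QO := by
        have e2 : v ^ ((i : ℕ) + (3 - (i' : ℕ))) = x⁻¹ * y := by
          calc v ^ ((i : ℕ) + (3 - (i' : ℕ))) = x⁻¹ * (x * v ^ (i : ℕ)) * v ^ (3 - (i' : ℕ)) := by
                rw [pow_add]; group
            _ = x⁻¹ * y * v ^ ((i' : ℕ) + (3 - (i' : ℕ))) := by rw [e, pow_add]; group
            _ = x⁻¹ * y := by
                rw [Nat.add_sub_cancel' (by have := i'.2; omega), ← hc.six.hv, pow_orderOf_eq_one, mul_one]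
        rw [e2]; exact mul_mem (inv_mem hx) hy
      have h8 := hvpow _ h7
      have := i.2; have := i'.2
      have hii : i = i' := Fin.ext (by omega)
      subst hii
      exact ⟨mul_right_cancel e, rfl⟩
    have hs1 : ∀ (x y : G) (i i' : Fin 3), x ∈ hc.QO → y ∈ hc.QO →
        x * v ^ (i : ℕ) ≠ y * v ^ (i' : ℕ) * s := by
      intro x y i i' hx hy e
      have hN : v ^ (3 - (i' : ℕ)) * (y⁻¹ * x) * (v ^ (3 - (i' : ℕ)))⁻¹ ∈ hc.QO :=
        h.sv_conj (mul_mem (inv_mem hy) hx) _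
      refine hsK ((3 - (i' : ℕ)) + i) _ hN ?_
      have h3 : (v ^ (i' : ℕ))⁻¹ = v ^ (3 - (i' : ℕ)) := by
        refine inv_eq_of_mul_eq_one_right ?_
        rw [← pow_add, Nat.add_sub_cancel' (by have := i'.2; omega), ← hc.six.hv, pow_orderOf_eq_one]
      calc s = (v ^ (i' : ℕ))⁻¹ * y⁻¹ * (y * v ^ (i' : ℕ) * s) := by group
        _ = v ^ (3 - (i' : ℕ)) * (y⁻¹ * x) * v ^ (i : ℕ) := by rw [← e, h3]; group
        _ = _ := by rw [pow_add]; group
    fin_cases j <;> fin_cases j' <;> simp only [pow_zero, pow_one, mul_one] at e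
    · obtain ⟨rfl, rfl⟩ := h6 x y i i' hx hy e
      rfl
    · exact absurd e (hs1 x y i i' hx hy)
    · exact absurd e.symm (hs1 y x i' i hy hx)
    · obtain ⟨rfl, rfl⟩ := h6 x y i i' hx hy (mul_right_cancel e)
      rfl
  let C := centralizer ({u} : Set G)
  let F : h.core.QO × Fin 3 × Fin 2 → C := fun a =>
    ⟨(a.1 : G) * v ^ (a.2.1 : ℕ) * s ^ (a.2.2 : ℕ), by
      refine mul_mem (mul_mem ?_ (pow_mem hc.v_mem _)) (pow_mem (mem_centralizer_singleton_iff.2 hsu) _)
      obtain ⟨q, hq, o, ho, e⟩ := a.1.2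
      exact e ▸ mul_mem (hc.QC hq) (hc.OC ho)⟩
  have hF : Function.Bijective F := by
    refine Function.Injective.bijective_of_nat_card_le (fun a b e => hinj a b (congrArg Subtype.val e)) ?_
    rw [Nat.card_prod, Nat.card_prod, hc.card_QO, hc.card, Nat.card_fin, Nat.card_fin]
    exact le_of_eq (by ring)
  obtain ⟨⟨⟨x, hx⟩, i, j⟩, e⟩ := hF.2 ⟨g, mem_centralizer_singleton_iff.2 hg⟩
  have e' : x * v ^ (i : ℕ) * s ^ (j : ℕ) = g := congrArg Subtype.val e
  refine ⟨x, hx, i, i.2, ?_⟩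
  fin_cases j <;> simp only [pow_zero, pow_one, mul_one] at e'
  · exact Or.inl e'.symm
  · exact Or.inr e'.symm

/-- Any homomorphism with kernel `Q × O` has image `S₃`. -/
theorem Top.quot_perm (h : Top u v Q O s) {M : Type*} [Group M]
    (π : ↥(centralizer ({u} : Set G)) →* M) (hsurj : Function.Surjective π)
    (hker : ∀ g : ↥(centralizer ({u} : Set G)), π g = 1 ↔ (g : G) ∈ h.core.QO) :
    Nonempty (M ≃* Equiv.Perm (Fin 3)) := by
  have hc := h.core
  set vC : ↥(centralizer ({u} : Set G)) := ⟨v, hc.v_mem⟩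
  set sC : ↥(centralizer ({u} : Set G)) := ⟨s, mem_centralizer_singleton_iff.2 h.su⟩
  set a := π sC with ha
  set y := π vC with hy
  have hsQO : s * s ∈ hc.QO :=
    ⟨s * s, h.ss.elim (fun e => e ▸ one_mem _) fun e => e ▸ hc.uQ, 1, one_mem _, (mul_one _).symm⟩
  have haa : a * a = 1 := by rw [ha, ← map_mul]; exact (hker _).2 hsQO
  have hy3 : y * y * y = 1 := by
    rw [hy, ← map_mul, ← map_mul, show vC * vC * vC = 1 from Subtype.ext hc.six.vvv, map_one]
  have hy1 : y ≠ 1 := fun e => hc.v_not_QO ((hker _).1 e)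
  have hyne : y ≠ y⁻¹ := fun e => hy1 (by
    have e2 : y * y = 1 := by
      nth_rewrite 2 [e]
      exact mul_inv_cancel y
    rwa [e2, one_mul] at hy3)
  have hay : a * y * a⁻¹ = y⁻¹ := by
    rw [ha, hy, ← map_mul, ← map_inv, ← map_mul, ← map_inv]
    exact congrArg π (Subtype.ext h.sv)
  have hainv : a⁻¹ = a := inv_eq_of_mul_eq_one_right haa
  have haya : a * y * a = y⁻¹ := by rw [← hay, hainv]
  set b := y * a with hb
  have hbb : b * b = 1 := by
    rw [hb, show y * a * (y * a) = y * (a * y * a) by group, haya, mul_inv_cancel]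
  have hab : b * a * b = a * b * a := by
    have e2 : a * b * a = y⁻¹ * a := by rw [hb, show a * (y * a) * a = (a * y * a) * a by group, haya]
    rw [e2, hb, show y * a * a * (y * a) = y * (a * a) * y * a by group, haa, mul_one,
      inv_eq_of_mul_eq_one_left (show y * y * y = 1 from hy3)]
  have hne : a ≠ b := fun e => hy1 (mul_eq_right.1 (show y * a = a from hb ▸ e.symm))
  have hnc : ¬ Commute a b := by
    intro hcm
    apply hyne
    have e1 : a * (y * a) = y * a * a := hcm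
    rw [mul_assoc y a a, haa, mul_one, ← mul_assoc, haya] at e1
    exact e1.symm
  obtain ⟨e⟩ := CfsgLib.Spor.Tri.nonempty_equiv_perm_three haa hbb hab hne hnc
  have htop : closure ({a, b} : Set M) = ⊤ := by
    refine eq_top_iff.2 fun m _ => ?_
    obtain ⟨g, rfl⟩ := hsurj m
    have hac : a ∈ closure ({a, b} : Set M) := subset_closure (by simp)
    have hyc : y ∈ closure ({a, b} : Set M) := by
      rw [show y = b * a⁻¹ by rw [hb, mul_inv_cancel_right]]
      exact mul_mem (subset_closure (by simp)) (inv_mem hac)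
    obtain ⟨x, hx, i, -, hg⟩ := h.split (mem_centralizer_singleton_iff.1 g.2)
    have hxC : x ∈ centralizer ({u} : Set G) := by
      obtain ⟨q, hq, o, ho, rfl⟩ := hx
      exact mul_mem (hc.QC hq) (hc.OC ho)
    rcases hg with hg | hg
    · rw [show g = ⟨x, hxC⟩ * vC ^ i from Subtype.ext (by simpa [vC] using hg), map_mul, map_pow,
        (hker ⟨x, hxC⟩).2 hx, one_mul]
      exact pow_mem hyc _
    · rw [show g = ⟨x, hxC⟩ * vC ^ i * sC from Subtype.ext (by simpa [vC, sC] using hg), map_mul,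
        map_mul, map_pow, (hker ⟨x, hxC⟩).2 hx, one_mul]
      exact mul_mem (pow_mem hyc _) hac
  exact ⟨(topEquiv.symm.trans (MulEquiv.subgroupCongr htop.symm)).trans e⟩

/-- Elements of order prime to six in the centralizer lie in `O`. -/
theorem Top.odd_mem (h : Top u v Q O s) {g : G} (hg : g * u = u * g) (ho : Odd (orderOf g))
    (h3 : ¬ 3 ∣ orderOf g) : g ∈ O := by
  have hc := h.core
  have h6 : (orderOf g).Coprime 6 := by
    rw [show 6 = 2 * 3 from rfl]
    exact (Nat.coprime_two_right.2 ho).mul_right (Nat.prime_three.coprime_iff_not_dvd.2 h3).symm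
  have hgQO : g ∈ hc.QO := by
    haveI : (hc.QO.subgroupOf (centralizer ({u} : Set G))).Normal :=
      ⟨fun n hn a => mem_subgroupOf.2 (hc.QO_normal (mem_centralizer_singleton_iff.1 a.2) hn)⟩
    have hle : hc.QO ≤ centralizer ({u} : Set G) := by
      rintro _ ⟨q, hq, o, ho, rfl⟩
      exact mul_mem (hc.QC hq) (hc.OC ho)
    have hidx : (hc.QO.subgroupOf (centralizer ({u} : Set G))).index = 6 := by
      have := (hc.QO.subgroupOf (centralizer ({u} : Set G))).card_mul_index
      rw [Nat.card_congr (subgroupOfEquivOfLe hle).toEquiv, hc.card_QO, hc.card, mul_comm 6] at this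
      exact Nat.eq_of_mul_eq_mul_left (Nat.mul_pos Nat.card_pos Nat.card_pos) this
    have hmem := (hc.QO.subgroupOf (centralizer ({u} : Set G))).pow_index_mem
      ⟨g, mem_centralizer_singleton_iff.2 hg⟩
    rw [hidx, mem_subgroupOf, SubgroupClass.coe_pow] at hmem
    obtain ⟨k, hk⟩ := exists_pow_eq_self_of_coprime h6.symm
    exact hk ▸ pow_mem hmem k
  obtain ⟨q, hq, o, ho', rfl⟩ := hgQO
  have hcm : Commute q o := (hc.comm o ho' q hq).symm
  suffices q = 1 by rw [this, one_mul]; exact ho'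
  obtain ⟨j, hj⟩ := hc.hQ ⟨q, hq⟩
  have h1 : q ^ (orderOf (q * o) * Nat.card O) = 1 := by
    have h2 : (q * o) ^ (orderOf (q * o) * Nat.card O) = 1 := by rw [pow_mul, pow_orderOf_eq_one, one_pow]
    have ho1 : o ^ Nat.card O = 1 := by
      have := congrArg Subtype.val (pow_card_eq_one' (x := (⟨o, ho'⟩ : O)))
      rwa [SubgroupClass.coe_pow, OneMemClass.coe_one] at this
    rwa [hcm.mul_pow, mul_comm (orderOf (q * o)) (Nat.card O), pow_mul o, ho1, one_pow, mul_one,
      mul_comm] at h2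
  exact orderOf_eq_one_iff.1 (Nat.eq_one_of_dvd_coprimes
    ((Nat.coprime_two_left.2 (ho.mul hc.hO)).pow_left j)
    (orderOf_dvd_of_pow_eq_one (congrArg Subtype.val hj)) (orderOf_dvd_of_pow_eq_one h1))

/-- A conjugator taking `u` to another involution of `Q` normalizes `O`. -/
theorem Top.norm_O (h : Top u v Q O s) {g : G} (hx : g * u * g⁻¹ ∈ Q) (hne : g * u * g⁻¹ ≠ u) :
    g ∈ normalizer (O : Set G) := by
  haveI : Fact (Nat.Prime 3) := ⟨Nat.prime_three⟩
  have hc := h.core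
  set B := O.map (MulAut.conj g⁻¹).toMonoidHom with hB
  have hBmem : ∀ o ∈ O, g⁻¹ * o * g ∈ B := fun o ho => ⟨o, ho, by simp⟩
  have hBu : ∀ o ∈ O, g⁻¹ * o * g * u = u * (g⁻¹ * o * g) := fun o ho => by
    calc g⁻¹ * o * g * u = g⁻¹ * (o * (g * u * g⁻¹)) * g := by group
      _ = g⁻¹ * ((g * u * g⁻¹) * o) * g := by rw [hc.comm o ho _ hx]
      _ = _ := by group
  have hle : ∀ o ∈ O, g⁻¹ * o * g ∈ O := by
    intro o ho
    have hord : orderOf (g⁻¹ * o * g) = orderOf o := by
      have := orderOf_conj_eq g⁻¹ o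
      rwa [inv_inv] at this
    have hdo := Subgroup.orderOf_dvd_natCard O ho
    refine h.odd_mem (hBu o ho) (hord ▸ hc.hO.of_dvd_nat hdo) ?_
    rw [hord]
    intro h3
    exact hc.not_three ((h3.trans hdo).mul_left _)
  have hle' : B ≤ O := by
    rintro _ ⟨o, ho, rfl⟩
    simpa using hle o ho
  have hBeq : B = O := eq_of_le_of_card_ge hle'
    (le_of_eq (card_map_of_injective (MulAut.conj g⁻¹).injective).symm)
  rw [mem_normalizer_iff'']
  refine fun o => ⟨hle o, fun ho => ?_⟩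
  rw [← hBeq] at ho
  obtain ⟨p, hp, e⟩ := ho
  have e' : g⁻¹ * p * g = g⁻¹ * o * g := by simpa using e
  exact mul_left_cancel (mul_right_cancel e') ▸ hp

end CfsgLib.Recog.OrderSix
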