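import Cfsg.Agent.Lib.Recog.OrderSix.OrderThree
import Cfsg.Agent.Lib.Recog.OrderSix.Lines
import Cfsg.Agent.Lib.Recog.OrderSix.TopSplit
import Cfsg.Agent.Lib.Recog.OrderSix.Second
import Cfsg.Agent.S2751

/-!
# A pair of subgroups with top `S₃` on a common Sylow subgroup
-/

set_option autoImplicit false
set_option linter.unusedSectionVars false
set_option linter.style.haveILetI false

namespace CfsgLib.Recog.OrderSix

open Subgroup CfsgLib.Char.SelfCentThree

universe u

variable {G : Type u} [Group G] [Finite G] {u v s x : G} {Q O : Subgroup G}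

theorem Top.card_Q_gt (h : Top u v Q O s) (hx : x ∈ Q) (hx1 : x ≠ 1) (hxu : x ≠ u) :
    2 < Nat.card Q := by
  haveI := Fintype.ofFinite Q
  rw [Nat.card_eq_fintype_card]
  refine Fintype.two_lt_card_iff.2 ⟨1, ⟨u, h.core.uQ⟩, ⟨x, hx⟩, ?_, ?_, ?_⟩
  · exact fun c => h.core.six.u_ne (congrArg Subtype.val c).symm
  · exact fun c => hx1 (congrArg Subtype.val c).symm
  · exact fun c => hxu (congrArg Subtype.val c).symm

/-- The centre of `S` is `⟨u⟩`. -/
theorem Top.center_S (h : Top u v Q O s) (hQ : 2 < Nat.card Q) {z : G} (hz : z ∈ h.S)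
    (hzc : ∀ y ∈ h.S, z * y = y * z) : z = 1 ∨ z = u :=
  h.center_Q (h.center_le hQ hz hzc) fun q hq => hzc q (h.Q_le hq)

/-- A pair of subgroups over `S` with quotients `S₃`, one of them moving `u`. -/
structure Pair (h : Top u v Q O s) (x : G) (M K : Subgroup G) : Prop where
  inter : M ⊓ K = h.S
  QM : Q ≤ M
  vM : v ∈ M
  sM : s ∈ M
  Mu : M ≤ centralizer ({u} : Set G)
  mem : ∀ m ∈ M, ∃ q ∈ Q, ∃ i < 3, m = q * v ^ i ∨ m = q * v ^ i * s
  cardM : Nat.card M = 6 * Nat.card Q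
  sylM : ∃ P : Sylow 2 M, (P : Subgroup M) = (M ⊓ K).subgroupOf M
  sylK : ∃ P : Sylow 2 K, (P : Subgroup K) = (M ⊓ K).subgroupOf K
  quotM : Nonempty (↥M ⧸ Cfsg.pCore 2 ↥M ≃* Equiv.Perm (Fin 3))
  quotK : Nonempty (↥K ⧸ Cfsg.pCore 2 ↥K ≃* Equiv.Perm (Fin 3))
  moves : ∃ k ∈ K, k * u * k⁻¹ = u * x

theorem Top.exists_pair (h : Top u v Q O s) (hx : x ∈ Q) (hx2 : x * x = 1) (hx1 : x ≠ 1)
    (hxu : x ≠ u) (hxc : ∀ b ∈ h.S, x * b = b * x ∨ x * b = u * (b * x)) :
    ∃ M K, Pair h x M K := by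
  classical
  haveI : Fact (Nat.Prime 2) := ⟨Nat.prime_two⟩
  haveI : Fact (Nat.Prime 3) := ⟨Nat.prime_three⟩
  have hc := h.core
  have hu := hc.six.hu
  have huu := hc.six.uu
  have hQ2 := h.card_Q_gt hx hx1 hxu
  obtain ⟨P, hP⟩ := h.exists_sylow
  obtain ⟨T, e₀, e', hsec⟩ := exists_second (x := x) hc.six.one P hu (hP ▸ h.uS)
    (fun a ha => h.S_u (hP ▸ ha))
    (fun z hz hzc => h.center_S hQ2 (hP ▸ hz) fun y hy => hzc y (hP ▸ hy))
    (hP ▸ h.Q_le hx) (orderOf_two hx2 hx1) hxu (fun a ha => hxc a (hP ▸ ha))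
  have hle : h.S ⊓ centralizer {x} ≤ (T : Subgroup G) := hP ▸ hsec.le_T
  have he'R : e' ∉ h.S ⊓ centralizer {x} := hP ▸ hsec.e'_notMem
  have hn' : ∀ r ∈ h.S ⊓ centralizer {x},
      e' * r * e'⁻¹ ∈ h.S ⊓ centralizer {x} ∧ e'⁻¹ * r * e' ∈ h.S ⊓ centralizer {x} :=
    hP ▸ hsec.e'_norm
  have hcS : Nat.card h.S = 2 * Nat.card ↥(h.S ⊓ centralizer {x}) := hP ▸ hsec.card_eq
  set R := h.S ⊓ centralizer {x} with hRdef
  have hRQ : Nat.card R = Nat.card Q := by
    have := h.card_S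
    omega
  have hR : IsPGroup 2 R := h.isPGroup.to_le inf_le_left
  have hTcard : Nat.card (T : Subgroup G) = 2 * Nat.card R := by
    rw [T.card_eq_multiplicity, ← P.card_eq_multiplicity, hP, hcS]
  have htwo : ∀ W : Subgroup G, R ≤ W → Nat.card W = 2 * Nat.card R →
      W ≤ normalizer (R : Set G) ∧ ∀ w ∈ W, w * w ∈ R := by
    intro W hRW hW
    have hidx : (R.subgroupOf W).index = 2 := by
      have h1 := (R.subgroupOf W).card_mul_index
      rw [hW, Nat.card_congr (subgroupOfEquivOfLe hRW).toEquiv, mul_comm 2] at h1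
      exact Nat.eq_of_mul_eq_mul_left Nat.card_pos h1
    exact ⟨(normal_subgroupOf_iff_le_normalizer hRW).1 (normal_of_index_eq_two hidx),
      fun w hw => mem_subgroupOf.1 (mul_self_mem_of_index_two hidx (⟨w, hw⟩ : W))⟩
  obtain ⟨hSN, hS2⟩ := htwo h.S inf_le_left hcS
  obtain ⟨hTN, hT2⟩ := htwo T hle hTcard
  -- an element of `Q` not commuting with `x`
  obtain ⟨e, heQ, hxe⟩ : ∃ e ∈ Q, x * e = u * (e * x) := by
    by_contra hne
    exact (h.center_Q hx fun q hq => (hxc q (h.Q_le hq)).resolve_right fun e => hne ⟨q, hq, e⟩).elim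
      hx1 hxu
  have heS : e ∈ h.S := h.Q_le heQ
  have he'T := hsec.e'_mem
  have heu : e * u * e⁻¹ = u := by rw [← h.S_u heS, mul_inv_cancel_right]
  have hex : e * x * e⁻¹ = u * x := by
    have h1 : e * x = u * (x * e) := by rw [hxe, ← mul_assoc u u, huu, one_mul]
    rw [h1]; group
  have he'x : e' * x * e'⁻¹ = x := by rw [← hsec.T_comm e' he'T, mul_inv_cancel_right]
  have he'u := hsec.e'_u
  have heN : e ∈ normalizer (R : Set G) := hSN heS
  have he'N : e' ∈ normalizer (R : Set G) := hTN he'T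
  set g0 := e * e' with hg0
  have hau : g0 * u * g0⁻¹ = x := by
    calc g0 * u * g0⁻¹ = e * (e' * u * e'⁻¹) * e⁻¹ := by rw [hg0]; group
      _ = (e * u * e⁻¹) * (e * x * e⁻¹) := by rw [he'u]; group
      _ = x := by rw [heu, hex, ← mul_assoc, huu, one_mul]
  have hax : g0 * x * g0⁻¹ = u * x := by
    calc g0 * x * g0⁻¹ = e * (e' * x * e'⁻¹) * e⁻¹ := by rw [hg0]; group
      _ = _ := by rw [he'x, hex]
  have haux : g0 * (u * x) * g0⁻¹ = u := by
    calc g0 * (u * x) * g0⁻¹ = (g0 * u * g0⁻¹) * (g0 * x * g0⁻¹) := by group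
      _ = x * (u * x) := by rw [hau, hax]
      _ = _ := by rw [← mul_assoc, hc.qu hx, mul_assoc, hx2, mul_one]
  set g := g0 * g0 * g0 with hg
  have hgu : g * u = u * g := by
    refine mul_inv_eq_iff_eq_mul.1 ?_
    calc g * u * g⁻¹ = g0 * (g0 * (g0 * u * g0⁻¹) * g0⁻¹) * g0⁻¹ := by rw [hg]; group
      _ = u := by rw [hau, hax, haux]
  have hgx : g * x = x * g := by
    refine mul_inv_eq_iff_eq_mul.1 ?_
    calc g * x * g⁻¹ = g0 * (g0 * (g0 * x * g0⁻¹) * g0⁻¹) * g0⁻¹ := by rw [hg]; group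
      _ = x := by rw [hax, haux, hau]
  have hg0N : g0 ∈ normalizer (R : Set G) := mul_mem heN he'N
  have hgN : g ∈ normalizer (R : Set G) := mul_mem (mul_mem hg0N hg0N) hg0N
  -- `g` has two-power order
  obtain ⟨a, m, hm, hord⟩ := Nat.exists_eq_two_pow_mul_odd (n := orderOf g) (orderOf_pos g).ne'
  set w := g ^ 2 ^ a with hw
  have hwo : orderOf w = m := by
    rw [hw, orderOf_pow_of_dvd (pow_ne_zero a two_ne_zero) (hord ▸ dvd_mul_right _ m), hord,
      Nat.mul_div_cancel_left m (by positivity)]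
  have hwu : w * u = u * w := ((show Commute g u from hgu).pow_left _).eq
  have hwx : w * x = x * w := ((show Commute g x from hgx).pow_left _).eq
  have hw3 : ¬ 3 ∣ orderOf w := by
    intro h3
    set y := w ^ (orderOf w / 3) with hy
    have hyo : orderOf y = 3 := by
      rw [hy, orderOf_pow_of_dvd (Nat.div_pos (Nat.le_of_dvd (orderOf_pos w) h3) (by norm_num)).ne'
        (Nat.div_dvd_of_dvd h3), Nat.div_div_self h3 (orderOf_pos w).ne']
    obtain ⟨c, hcu, hcy⟩ := hc.exists_conj_three (by norm_num) hyo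
      ((show Commute w u from hwu).pow_left _).eq
    have hxy : Commute x y := ((show Commute w x from hwx).pow_left _).symm
    have hcc : Commute (c * x * c⁻¹) (c * y * c⁻¹) := by
      show c * x * c⁻¹ * (c * y * c⁻¹) = c * y * c⁻¹ * (c * x * c⁻¹)
      rw [show c * x * c⁻¹ * (c * y * c⁻¹) = c * (x * y) * c⁻¹ by group, hxy.eq]; group
    have hcv : c * x * c⁻¹ * v = v * (c * x * c⁻¹) := by
      rcases hcy with e | e <;> rw [e] at hcc
      · exact hcc.eq
      · have := hcc.inv_right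
        rw [inv_inv] at this
        exact this.eq
    rcases hc.fixQ (hc.conjQ hcu hx) hcv with e | e
    · exact hx1 (conj_eq_one_iff.1 e)
    · rw [mul_inv_eq_iff_eq_mul, ← hcu] at e
      exact hxu (mul_left_cancel e)
  have hwO : w ∈ O := h.odd_mem hwu (hwo ▸ hm) hw3
  have hwe : e * w * e⁻¹ = w := by rw [← hc.comm w hwO e heQ, mul_inv_cancel_right]
  have hw1 : w = 1 := by
    set RN := R.subgroupOf (normalizer (R : Set G)) with hRN
    let π := QuotientGroup.mk' RN
    have hπ1 : ∀ z, π z = 1 ↔ (z : G) ∈ R := fun z =>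
      (QuotientGroup.eq_one_iff z).trans mem_subgroupOf
    set A := π ⟨e, heN⟩ with hA
    set Z := π ⟨g0, hg0N⟩ with hZ
    have hAZ : A * Z * A⁻¹ = Z⁻¹ := by
      refine eq_inv_of_mul_eq_one_left ?_
      rw [hA, hZ, ← map_inv, ← map_mul, ← map_mul, ← map_mul]
      refine (hπ1 _).2 ?_
      show e * (e * e') * e⁻¹ * (e * e') ∈ R
      rw [show e * (e * e') * e⁻¹ * (e * e') = (e * e) * (e' * e') by group]
      exact mul_mem (hS2 e heS) (hT2 e' he'T)
    have hwn : g0 ^ (3 * 2 ^ a) = w := by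
      rw [pow_mul, hw, hg, pow_succ, pow_two]
    set W := π ⟨w, hwn ▸ pow_mem hg0N _⟩ with hW
    have hWZ : W = Z ^ (3 * 2 ^ a) := by
      rw [hW, hZ, ← map_pow]
      exact congrArg π (Subtype.ext hwn.symm)
    have h1 : A * W * A⁻¹ = W⁻¹ := by rw [hWZ, ← conj_pow, hAZ, inv_pow]
    have h2 : A * W * A⁻¹ = W := by
      rw [hA, hW, ← map_inv, ← map_mul, ← map_mul]
      exact congrArg π (Subtype.ext hwe)
    have hww : w * w ∈ R := by
      have h3 : W * W = 1 := by
        conv_lhs => arg 1; rw [← h2, h1]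
        exact inv_mul_cancel W
      rw [hW, ← map_mul] at h3
      exact (hπ1 _).1 h3
    obtain ⟨j, hj⟩ := hR ⟨w * w, hww⟩
    have h4 : w * w = 1 := orderOf_eq_one_iff.1 (Nat.eq_one_of_dvd_coprimes
      ((Nat.coprime_two_left.2 (hwo ▸ hm : Odd (orderOf w))).pow_left j)
      (orderOf_dvd_of_pow_eq_one (congrArg Subtype.val hj)) (by
        rw [← pow_two]; exact orderOf_pow_dvd 2))
    refine orderOf_eq_one_iff.1 (Nat.eq_one_of_dvd_coprimes
      (Nat.coprime_two_left.2 (hwo ▸ hm : Odd (orderOf w))) ?_ dvd_rfl)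
    exact orderOf_dvd_of_pow_eq_one (by rw [pow_two, h4])
  have hg2 : IsPGroup 2 (zpowers g) := by
    refine IsPGroup.of_card (n := a) ?_
    have hm1 : m = 1 := by rw [← hwo, hw1, orderOf_one]
    rw [Nat.card_zpowers, hord, hm1, mul_one]
  have hgR : g ∈ R := by
    by_contra hgR
    set W := zpowers g ⊔ R with hW
    have hWp : IsPGroup 2 W := hg2.to_sup_of_normal_right' hR (zpowers_le.2 hgN)
    obtain ⟨P2, hP2⟩ := hWp.exists_le_sylow
    have hP2c : Nat.card (P2 : Subgroup G) = 2 * Nat.card R := by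
      rw [P2.card_eq_multiplicity, ← P.card_eq_multiplicity, hP, hcS]
    have hRW : R ≤ W := le_sup_right
    have hWeq : W = (P2 : Subgroup G) := by
      refine eq_of_le_of_card_ge hP2 ?_
      obtain ⟨k, hk⟩ := Subgroup.card_dvd_of_le hRW
      have hk0 : k ≠ 0 := by rintro rfl; rw [mul_zero] at hk; exact Nat.card_pos.ne' hk
      have hk1 : k ≠ 1 := by
        rintro rfl
        rw [mul_one] at hk
        exact hgR (eq_of_le_of_card_ge hRW hk.le ▸ mem_sup_left (mem_zpowers g))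
      rw [hP2c, hk, mul_comm 2]
      exact Nat.mul_le_mul_left _ (by omega)
    have hWc : ∀ z ∈ W, z * u = u * z ∧ z * x = x * z := by
      have : W ≤ centralizer ({u} : Set G) ⊓ centralizer ({x} : Set G) := by
        refine sup_le (zpowers_le.2 ⟨mem_centralizer_singleton_iff.2 hgu,
          mem_centralizer_singleton_iff.2 hgx⟩) (le_inf ?_ inf_le_right)
        exact inf_le_left.trans h.S_le
      exact fun z hz => ⟨mem_centralizer_singleton_iff.1 (this hz).1,
        mem_centralizer_singleton_iff.1 (this hz).2⟩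
    obtain ⟨c, hcP⟩ := MulAction.exists_smul_eq G P P2
    have hpull : ∀ z ∈ W, (∀ y ∈ W, y * z = z * y) → z = 1 ∨ c⁻¹ * z * c = u := by
      intro z hzW hzc
      have hmem : ∀ y, y ∈ W → c⁻¹ * y * c ∈ h.S := by
        intro y hy
        rw [hWeq, ← hcP, Sylow.coe_subgroup_smul, hP] at hy
        obtain ⟨y0, hy0, rfl⟩ := hy
        simpa [mul_assoc] using hy0
      rcases h.center_S hQ2 (hmem z hzW) (fun y hy => by
          have hyW : c * y * c⁻¹ ∈ W := by
            rw [hWeq, ← hcP, Sylow.coe_subgroup_smul, hP]; exact ⟨y, hy, rfl⟩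
          calc c⁻¹ * z * c * y = c⁻¹ * (z * (c * y * c⁻¹)) * c := by group
            _ = c⁻¹ * ((c * y * c⁻¹) * z) * c := by rw [hzc _ hyW]
            _ = _ := by group) with e | e
      · left
        calc z = c * (c⁻¹ * z * c) * c⁻¹ := by group
          _ = 1 := by rw [e]; group
      · exact Or.inr e
    have e1 := (hpull u (hRW (mem_inf_cent.2 ⟨h.uS, (hc.qu hx).symm⟩)) fun y hy => (hWc y hy).1).resolve_left
      hc.six.u_ne
    have e2 := (hpull x (hRW (mem_inf_cent.2 ⟨h.Q_le hx, rfl⟩)) fun y hy => (hWc y hy).2).resolve_left hx1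
    exact hxu (mul_left_cancel (mul_right_cancel (e2.trans e1.symm)))
  -- the subgroup moving `u`
  obtain ⟨K, hRK, heK, he'K, -, -, hKcard, hKq⟩ := exists_s3_over hR heN he'N (hS2 e heS) (hT2 e' he'T)
    hgR (fun hh => hx1 (by
      have h1 : e' ∈ h.S := by
        have := mul_mem heS hh.1
        rwa [mul_inv_cancel_left] at this
      have h2 : e' * u * e'⁻¹ = u := by rw [← h.S_u h1, mul_inv_cancel_right]
      exact mul_eq_left.1 (he'u.symm.trans h2)))
  -- the subgroup fixing `u`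
  have hssQ : s * s ∈ Q := h.ss.elim (fun e => e ▸ one_mem _) fun e => e ▸ hc.uQ
  have hsN : s ∈ normalizer (Q : Set G) := hc.Qn (mem_centralizer_singleton_iff.2 h.su)
  have hvN : v ∈ normalizer (Q : Set G) := hc.Qn hc.v_mem
  have hsvs : s * (v * s) = v⁻¹ * (s * s) := by rw [← h.sv]; group
  have hssv : Commute (s * s) v⁻¹ := by
    rcases h.ss with e | e <;> rw [e]
    · exact Commute.one_left _
    · exact (show Commute u v from hc.six.huv).inv_right
  obtain ⟨M, hQM, hsM, hvsM, -, hMmin, hMcard, hMq⟩ := exists_s3_over (a := s) (b := v * s) hc.hQ hsN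
    (mul_mem hvN hsN) hssQ (by
      rw [show v * s * (v * s) = v * (s * (v * s)) by group, hsvs, mul_inv_cancel_left]
      exact hssQ) (by
      rw [hsvs, show v⁻¹ * (s * s) * (v⁻¹ * (s * s)) * (v⁻¹ * (s * s)) =
        v⁻¹ * ((s * s) * v⁻¹) * ((s * s) * v⁻¹) * (s * s) by group, hssv.eq,
        show v⁻¹ * (v⁻¹ * (s * s)) * (v⁻¹ * (s * s)) * (s * s) =
          v⁻¹ * v⁻¹ * ((s * s) * v⁻¹) * ((s * s) * (s * s)) by group, hssv.eq,
        show v⁻¹ * v⁻¹ * (v⁻¹ * (s * s)) * ((s * s) * (s * s)) =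
          (v * v * v)⁻¹ * ((s * s) * ((s * s) * (s * s))) by group, hc.six.vvv, inv_one, one_mul]
      exact mul_mem hssQ (mul_mem hssQ hssQ)) (fun hh => hc.v_not_QO (by
      have h2 : v = s * (s⁻¹ * (v * s)) * s⁻¹ := by group
      exact ⟨_, h.sQ hh, 1, one_mem _, h2.trans (mul_one _).symm⟩))
  have hvM : v ∈ M := by
    have := mul_mem hvsM (inv_mem hsM)
    rwa [mul_inv_cancel_right] at this
  have hMu : M ≤ centralizer ({u} : Set G) := hMmin _ hc.QC (mem_centralizer_singleton_iff.2 h.su)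
    (mul_mem hc.v_mem (mem_centralizer_singleton_iff.2 h.su))
  have hSM : h.S ≤ M := by
    rintro z (hz | hz)
    · exact hQM hz
    · have := mul_mem (hQM hz) hsM
      rwa [inv_mul_cancel_right] at this
  have hSK : h.S ≤ K := fun z hz => by
    rcases mul_split hu hxc heS hxe hz with h1 | h1
    · exact hRK h1
    · have := mul_mem heK (hRK h1)
      rwa [mul_inv_cancel_left] at this
  have hMS : Nat.card M = Nat.card h.S * 3 := by rw [hMcard, h.card_S]; ring
  have hKS : Nat.card K = Nat.card h.S * 3 := by rw [hKcard, hRQ, h.card_S]; ring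
  have hinter : M ⊓ K = h.S := by
    refine (eq_of_le_of_card_ge (le_inf hSM hSK) ?_).symm
    obtain ⟨k, hk⟩ := Subgroup.card_dvd_of_le (le_inf hSM hSK)
    have h3 : k ∣ 3 := by
      have := Subgroup.card_dvd_of_le (inf_le_left : M ⊓ K ≤ M)
      rw [hk, hMS] at this
      exact Nat.dvd_of_mul_dvd_mul_left Nat.card_pos this
    rcases (Nat.dvd_prime Nat.prime_three).1 h3 with rfl | rfl
    · rw [hk, mul_one]
    · exfalso
      have h1 : M ⊓ K = M := eq_of_le_of_card_ge inf_le_left (by rw [hk, hMS])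
      have h2 : M = K := eq_of_le_of_card_ge (inf_eq_left.1 h1) (by rw [hKS, hMS])
      have h4 := mem_centralizer_singleton_iff.1 (hMu (h2 ▸ he'K))
      rw [h4, mul_inv_cancel_right] at he'u
      exact hx1 (mul_eq_left.1 he'u.symm)
  have hsyl : ∀ L : Subgroup G, h.S ≤ L → Nat.card L = Nat.card h.S * 3 →
      ∃ P : Sylow 2 L, (P : Subgroup L) = h.S.subgroupOf L := by
    intro L hL hcard
    have hidx : (h.S.subgroupOf L).index = 3 := by
      have h1 := (h.S.subgroupOf L).card_mul_index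
      rw [hcard, Nat.card_congr (subgroupOfEquivOfLe hL).toEquiv] at h1
      exact Nat.eq_of_mul_eq_mul_left Nat.card_pos h1
    exact ⟨(h.isPGroup.comap_of_injective L.subtype L.subtype_injective).toSylow
      (show ¬ 2 ∣ (h.S.subgroupOf L).index by rw [hidx]; norm_num), rfl⟩
  refine ⟨M, K, hinter, hQM, hvM, hsM, hMu, fun m hm => ?_, hMcard, hinter ▸ hsyl M hSM hMS,
    hinter ▸ hsyl K hSK hKS, hMq, hKq, e', he'K, hsec.e'_u⟩
  obtain ⟨y, ⟨q, hq, o, ho, rfl⟩, i, hi, hy⟩ := h.split (mem_centralizer_singleton_iff.1 (hMu hm))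
  have hoM : o ∈ M := by
    rcases hy with rfl | rfl
    · have := mul_mem (inv_mem (hQM hq)) (mul_mem hm (inv_mem (pow_mem hvM i)))
      rwa [mul_inv_cancel_right, inv_mul_cancel_left] at this
    · have := mul_mem (inv_mem (hQM hq)) (mul_mem (mul_mem hm (inv_mem hsM)) (inv_mem (pow_mem hvM i)))
      rwa [mul_inv_cancel_right, mul_inv_cancel_right, inv_mul_cancel_left] at this
  have ho1 : o = 1 := by
    have hd := Subgroup.orderOf_dvd_natCard M hoM
    have hdo := Subgroup.orderOf_dvd_natCard O ho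
    obtain ⟨k, hk⟩ := hc.hQ.exists_card_eq
    rw [hMcard, hk, show 6 * 2 ^ k = 2 ^ (k + 1) * 3 by ring] at hd
    have h2 : (orderOf o).Coprime (2 ^ (k + 1)) :=
      (Nat.coprime_two_right.2 (hc.hO.of_dvd_nat hdo)).pow_right _
    have h3 : orderOf o ∣ 3 := h2.dvd_of_dvd_mul_left hd
    rcases (Nat.dvd_prime Nat.prime_three).1 h3 with e | e
    · exact orderOf_eq_one_iff.1 e
    · exact (hc.not_three ((e ▸ hdo).mul_left _)).elim
  rw [ho1, mul_one] at hy
  exact ⟨q, hq, i, hi, hy⟩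

/-- Either the two-core is small or some subgroup of `S` is normal in both members of the pair. -/
theorem Pair.bound_or {h : Top u v Q O s} {M K : Subgroup G} (hp : Pair h x M K) :
    Nat.card Q ≤ 64 ∨ ∃ N : Subgroup G, N ≠ ⊥ ∧ N ≤ h.S ∧ M ⊔ K ≤ normalizer (N : Set G) := by
  by_cases hN : ∃ N : Subgroup G, N ≠ ⊥ ∧ N ≤ h.S ∧ M ⊔ K ≤ normalizer (N : Set G)
  · exact Or.inr hN
  refine Or.inl ?_
  have hb := Cfsg.Agent.S2751.result M K hp.sylM hp.sylK hp.quotM hp.quotK fun N hle h1 h2 => by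
    by_contra hne
    refine hN ⟨N, hne, hp.inter ▸ hle, sup_le ?_ ?_⟩
    · exact (normal_subgroupOf_iff_le_normalizer (hle.trans inf_le_left)).1 h1
    · exact (normal_subgroupOf_iff_le_normalizer (hle.trans inf_le_right)).1 h2
  rw [hp.inter, h.card_S] at hb
  norm_num at hb
  omega

end CfsgLib.Recog.OrderSix
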