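import Cfsg.Agent.Lib.Recog.OrderSix.Amalgam

/-!
# An involution central modulo `u` in the Sylow subgroup gives a contradiction
-/

set_option autoImplicit false
set_option linter.unusedSectionVars false
set_option linter.style.haveILetI false

namespace CfsgLib.Recog.OrderSix

open Subgroup CfsgLib.Char.SelfCentThree

universe u

variable {G : Type u} [Group G] [Finite G] {u v s x : G} {Q O : Subgroup G}

/-- The order of the two-core is two modulo three. -/
theorem Core.card_mod {m : ℕ} (hc : Core u v Q O m) : Nat.card Q % 3 = 2 := by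
  classical
  rw [card_mod_three (fun a : Q => (⟨_, hc.vQ a.2⟩ : Q)) fun a => Subtype.ext (by
    show v * (v * (v * (a : G) * v⁻¹) * v⁻¹) * v⁻¹ = a
    rw [show v * (v * (v * (a : G) * v⁻¹) * v⁻¹) * v⁻¹ = (v * v * v) * a * (v * v * v)⁻¹ by group,
      hc.six.vvv, one_mul, inv_one, mul_one])]
  have key : ∀ a : Q, (⟨_, hc.vQ a.2⟩ : Q) = a ↔ a = 1 ∨ a = ⟨u, hc.uQ⟩ := by
    intro a
    constructor
    · intro e
      exact (hc.fixQ a.2 (mul_inv_eq_iff_eq_mul.1 (congrArg Subtype.val e)).symm).imp
        (fun h => Subtype.ext h) fun h => Subtype.ext h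
    · rintro (rfl | rfl) <;> apply Subtype.ext
      · simp
      · show v * u * v⁻¹ = u
        rw [hc.six.huv.symm, mul_inv_cancel_right]
  rw [Nat.card_congr (Equiv.subtypeEquivRight key)]
  have hne : (1 : Q) ≠ ⟨u, hc.uQ⟩ := fun e => hc.six.u_ne (congrArg Subtype.val e).symm
  have : Nat.card {a : Q // a = 1 ∨ a = ⟨u, hc.uQ⟩} = 2 := by
    rw [show {a : Q // a = 1 ∨ a = ⟨u, hc.uQ⟩} = ↥({1, ⟨u, hc.uQ⟩} : Set Q) from rfl]
    rw [Nat.card_coe_set_eq, Set.ncard_pair hne]
  rw [this]

/-- An involution of `Q` outside `⟨u⟩` central modulo `u` in `S` is impossible. -/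
theorem Top.false_of_second (h : Top u v Q O s) (hx : x ∈ Q) (hx2 : x * x = 1) (hx1 : x ≠ 1)
    (hxu : x ≠ u) (hxc : ∀ b ∈ h.S, x * b = b * x ∨ x * b = u * (b * x)) : False := by
  classical
  have hc := h.core
  have huu := hc.six.uu
  obtain ⟨M, K, hp⟩ := h.exists_pair hx hx2 hx1 hxu hxc
  have hle : Nat.card Q ≤ 64 := by
    rcases hp.bound_or with hb | ⟨N, hN, hNS, hNn⟩
    · exact hb
    · obtain ⟨V, hm⟩ := hp.exists_module (h.card_Q_gt hx hx1 hxu) hN hNS hNn
      exact (hm.card_Q_le hp hx1 hxu hxc).trans (by norm_num)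
  have hgt := h.card_Q_gt hx hx1 hxu
  have hmod := hc.card_mod
  have hcases : Nat.card Q = 8 ∨ Nat.card Q = 32 := by
    obtain ⟨k, hk⟩ := hc.hQ.exists_card_eq
    rw [hk] at hle hgt hmod ⊢
    have hk6 : k ≤ 6 := by
      by_contra hcon
      have : 2 ^ 7 ≤ 2 ^ k := Nat.pow_le_pow_right (by norm_num) (by omega)
      omega
    interval_cases k <;> omega
  have hvuv : v * u * v⁻¹ = u := by rw [hc.six.huv.symm, mul_inv_cancel_right]
  rcases hcases with h8 | h32
  · -- all elements square to one
    set y := v * x * v⁻¹ with hy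
    set z := v * y * v⁻¹ with hz
    have hyQ : y ∈ Q := hc.vQ hx
    have hzQ : z ∈ Q := hc.vQ hyQ
    have hy2 : y * y = 1 := by
      rw [hy, show v * x * v⁻¹ * (v * x * v⁻¹) = v * (x * x) * v⁻¹ by group, hx2]; group
    have hz2 : z * z = 1 := by
      rw [hz, show v * y * v⁻¹ * (v * y * v⁻¹) = v * (y * y) * v⁻¹ by group, hy2]; group
    obtain ⟨hy1, hyu, hyx, hyux⟩ := hc.moved hx hx1 hxu
    obtain ⟨hz1, hzu, hzy, hzuy⟩ := hc.moved hyQ hy1 hyu
    have hxz : v * z * v⁻¹ = x := by
      rw [hz, hy, show v * (v * (v * x * v⁻¹) * v⁻¹) * v⁻¹ = (v * v * v) * x * (v * v * v)⁻¹ by group,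
        hc.six.vvv, one_mul, inv_one, mul_one]
    obtain ⟨-, -, hxz1, hxuz⟩ := hc.moved hzQ hz1 hzu
    rw [← hy] at hyx hyux hy1 hyu
    rw [← hz] at hz1 hzu hzy hzuy
    rw [hxz] at hxz1 hxuz
    let eight : Finset G := {1, u, x, u * x, y, u * y, z, u * z}
    have hcard : eight.card = 8 := by
      have hflip : ∀ {a b : G}, a ≠ u * b → b ≠ u * a := fun {a b} hab e =>
        hab (by rw [e, ← mul_assoc, huu, one_mul])
      have f1 := hflip hyux
      have f2 := hflip hzuy
      have f3 := hflip hxuz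
      have hone : ∀ {w : G}, w ≠ u → (1 : G) ≠ u * w := fun {w} hwu e => hwu (by
        rw [eq_inv_of_mul_eq_one_right e.symm, hc.six.uinv])
      simp only [eight]
      rw [Finset.card_insert_of_notMem, Finset.card_insert_of_notMem, Finset.card_insert_of_notMem,
        Finset.card_insert_of_notMem, Finset.card_insert_of_notMem, Finset.card_insert_of_notMem,
        Finset.card_insert_of_notMem, Finset.card_singleton] <;>
      simp [hx1, hx1.symm, hxu, hxu.symm, hy1, hy1.symm, hyu, hyu.symm, hz1, hz1.symm, hzu, hzu.symm,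
        hyx, hyx.symm, hyux, hyux.symm, hzy, hzy.symm, hzuy, hzuy.symm, hxz1, hxz1.symm, hxuz, hxuz.symm,
        f1, f1.symm, f2, f2.symm, f3, f3.symm, hc.six.u_ne, hc.six.u_ne.symm, hone hxu, hone hyu, hone hzu]
    have hcov : (eight : Set G) = (Q : Set G) := by
      refine Set.eq_of_subset_of_ncard_le ?_ ?_ (Set.toFinite _)
      · intro a ha
        simp only [eight, Finset.coe_insert, Finset.coe_singleton, Set.mem_insert_iff,
          Set.mem_singleton_iff] at ha
        rcases ha with rfl | rfl | rfl | rfl | rfl | rfl | rfl | rfl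
        exacts [one_mem _, hc.uQ, hx, mul_mem hc.uQ hx, hyQ, mul_mem hc.uQ hyQ, hzQ, mul_mem hc.uQ hzQ]
      · rw [Set.ncard_coe_finset, hcard, ← Nat.card_coe_set_eq]
        exact h8.le
    have hall : ∀ q ∈ Q, q * q = 1 := by
      intro q hq
      have hq' : q ∈ (eight : Set G) := hcov ▸ hq
      have hu' : ∀ w ∈ Q, w * w = 1 → u * w * (u * w) = 1 := fun w hw e => by
        rw [show u * w * (u * w) = u * (w * u) * w by group, hc.qu hw, ← mul_assoc u u, huu, one_mul, e]
      simp only [eight, Finset.coe_insert, Finset.coe_singleton, Set.mem_insert_iff,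
        Set.mem_singleton_iff] at hq'
      rcases hq' with rfl | rfl | rfl | rfl | rfl | rfl | rfl | rfl
      exacts [mul_one 1, huu, hx2, hu' x hx hx2, hy2, hu' y hyQ hy2, hz2, hu' z hzQ hz2]
    refine (h.center_Q hx fun q hq => ?_).elim hx1 hxu
    calc x * q = (x * q)⁻¹ := eq_inv_of_mul_eq_one_left (hall _ (mul_mem hx hq))
      _ = q * x := by
        rw [mul_inv_rev, inv_eq_of_mul_eq_one_right (hall x hx), inv_eq_of_mul_eq_one_right (hall q hq)]
  · -- the two-core is extraspecial
    set uQ : Q := ⟨u, hc.uQ⟩ with huQ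
    set Z : Subgroup Q := zpowers uQ with hZ
    have huQo : orderOf uQ = 2 := by rw [← Subgroup.orderOf_coe]; exact hc.six.hu
    haveI hZn : Z.Normal := ⟨fun n hn g => by
      obtain ⟨k, rfl⟩ := mem_zpowers_iff.1 hn
      have : Commute g (uQ ^ k) := (show Commute g uQ from Subtype.ext (hc.qu g.2)).zpow_right k
      rw [this.eq, mul_inv_cancel_right]
      exact hn⟩
    have hZmem : ∀ a : Q, a ∈ Z ↔ (a : G) = 1 ∨ (a : G) = u := by
      intro a
      constructor
      · intro ha
        obtain ⟨k, rfl⟩ := mem_zpowers_iff.1 ha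
        rcases Int.emod_two_eq_zero_or_one k with e | e
        · left
          rw [← zpow_mod_orderOf, huQo, show ((2 : ℕ) : ℤ) = 2 from rfl, e, zpow_zero]; rfl
        · right
          rw [← zpow_mod_orderOf, huQo, show ((2 : ℕ) : ℤ) = 2 from rfl, e, zpow_one]
      · rintro (e | e)
        · rw [show a = 1 from Subtype.ext e]; exact one_mem _
        · rw [show a = uQ from Subtype.ext e]; exact mem_zpowers _
    let α : MulAut Q := Q.normalizerMonoidHom ⟨v, hc.Qn hc.v_mem⟩
    have hα : ∀ a : Q, (α a : G) = v * a * v⁻¹ := fun a => rfl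
    have hαZ : Z.map α.toMonoidHom = Z := by
      rw [hZ, MonoidHom.map_zpowers]
      exact congrArg zpowers (Subtype.ext hvuv)
    let θ : MulAut (Q ⧸ Z) := QuotientGroup.congr Z Z α hαZ
    have hθ : ∀ a : Q, θ (a : Q ⧸ Z) = ((α a : Q) : Q ⧸ Z) := fun a => QuotientGroup.congr_mk Z Z α hαZ a
    have hcomm := comm_of_fpf_sixteen θ (fun a => by
      induction a using QuotientGroup.induction_on with
      | _ a =>
        rw [hθ, hθ, hθ]
        refine congrArg _ (Subtype.ext ?_)
        rw [hα, hα, hα, show v * (v * (v * (a : G) * v⁻¹) * v⁻¹) * v⁻¹ = (v * v * v) * a * (v * v * v)⁻¹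
          by group, hc.six.vvv, one_mul, inv_one, mul_one]) (fun a => by
      induction a using QuotientGroup.induction_on with
      | _ a =>
        intro e
        rw [hθ, QuotientGroup.eq, hZmem] at e
        rw [QuotientGroup.eq_one_iff, hZmem]
        by_contra hne
        push Not at hne
        obtain ⟨-, -, h1, h2⟩ := hc.moved a.2 hne.1 hne.2
        simp only [coe_mul, coe_inv, hα] at e
        rcases e with e | e
        · exact h1 (inv_mul_eq_one.1 e)
        · rw [inv_mul_eq_iff_eq_mul] at e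
          apply h2
          have e2 : u * (v * (a : G) * v⁻¹) = a := by
            rw [← hc.qu (hc.vQ a.2)]; exact e.symm
          calc v * (a : G) * v⁻¹ = u * (u * (v * (a : G) * v⁻¹)) := by rw [← mul_assoc, huu, one_mul]
            _ = _ := by rw [e2]) (by
      have h1 := Z.card_mul_index
      rw [Nat.card_zpowers, huQo, h32, index_eq_card] at h1
      omega)
    have hcom : ∀ a ∈ Q, ∀ b ∈ Q, a * b = b * a ∨ a * b = u * (b * a) := by
      intro a ha b hb
      have e := hcomm ((⟨b, hb⟩ : Q) : Q ⧸ Z) ((⟨a, ha⟩ : Q) : Q ⧸ Z)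
      rw [← QuotientGroup.mk_mul, ← QuotientGroup.mk_mul, QuotientGroup.eq, hZmem] at e
      simp only [coe_mul, coe_inv] at e
      rcases e with e | e
      · exact Or.inl (inv_mul_eq_one.1 e).symm
      · refine Or.inr ((inv_mul_eq_iff_eq_mul.1 e).trans ?_)
        exact hc.qu (mul_mem hb ha)
    have hsq : ∀ a ∈ Q, a * a = 1 ∨ a * a = u := by
      intro a ha
      refine h.center_Q (mul_mem ha ha) fun b hb => ?_
      rcases hcom a ha b hb with e | e
      · exact ((show Commute a b from e).mul_left (show Commute a b from e)).eq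
      · calc a * a * b = a * (u * (b * a)) := by rw [mul_assoc, e]
          _ = (u * (a * b)) * a := by rw [← mul_assoc a u, hc.qu ha]; group
          _ = (u * u) * (b * (a * a)) := by rw [e]; group
          _ = _ := by rw [huu, one_mul]
    exact h.false_of_extraspecial h32 hsq hcom hx hx2 hx1 hxu

end CfsgLib.Recog.OrderSix
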