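import Cfsg.Agent.Lib.Char.SelfCentThree.Basic
import Cfsg.Agent.Lib.Coprime.PGroupFrattini
import Cfsg.Agent.Lib.Coprime.Action

/-!
# A self-centralizing element of order six: the setting
-/

set_option autoImplicit false
set_option linter.unusedSectionVars false

namespace CfsgLib.Recog.OrderSix

open Subgroup

universe u

variable {G : Type u} [Group G]

/-- One class of involutions and an involution `u` and an element `v` of order three whose
centralizers meet in the cyclic group they generate. -/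
structure Six (u v : G) : Prop where
  hu : orderOf u = 2
  hv : orderOf v = 3
  huv : u * v = v * u
  cent : ∀ g : G, g * u = u * g → g * v = v * g →
    g = 1 ∨ g = u ∨ g = v ∨ g = v⁻¹ ∨ g = u * v ∨ g = u * v⁻¹
  one : ∀ x y : G, orderOf x = 2 → orderOf y = 2 → IsConj x y

variable {u v : G}

theorem Six.uu (h : Six u v) : u * u = 1 := CfsgLib.Char.SelfCentThree.mul_self_invol h.hu

theorem Six.uinv (h : Six u v) : u⁻¹ = u := CfsgLib.Char.SelfCentThree.inv_eq_self h.hu

theorem Six.u_ne (h : Six u v) : u ≠ 1 :=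
  CfsgLib.Char.SelfCentThree.ne_one_of_order h.hu (by norm_num)

theorem Six.v_ne (h : Six u v) : v ≠ 1 :=
  CfsgLib.Char.SelfCentThree.ne_one_of_order h.hv (by norm_num)

theorem Six.vvv (h : Six u v) : v * v * v = 1 := CfsgLib.Char.SelfCentThree.pow_three_eq_one h.hv

theorem Six.ne_v (h : Six u v) : u ≠ v := fun e => by
  have := h.hu
  rw [e, h.hv] at this
  omega

theorem Six.fix (h : Six u v) {g : G} (h1 : g * u = u * g) (h2 : g * v = v * g)
    (h3 : ¬ 3 ∣ orderOf g) : g = 1 ∨ g = u := by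
  have huv : Commute u v := h.huv
  have hcop : (orderOf u).Coprime (orderOf v) := by rw [h.hu, h.hv]; norm_num
  rcases h.cent g h1 h2 with e | e | e | e | e | e
  · exact Or.inl e
  · exact Or.inr e
  all_goals refine absurd ?_ h3; rw [e]
  · rw [h.hv]
  · rw [orderOf_inv, h.hv]
  · rw [huv.orderOf_mul_eq_mul_orderOf_of_coprime hcop, h.hv]; exact dvd_mul_left 3 _
  · rw [huv.inv_right.orderOf_mul_eq_mul_orderOf_of_coprime (by rwa [orderOf_inv]), orderOf_inv, h.hv]
    exact dvd_mul_left 3 _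

theorem not_three_dvd_of_two_group {S : Subgroup G} (hS : IsPGroup 2 S) {g : G} (hg : g ∈ S) :
    ¬ 3 ∣ orderOf g := by
  obtain ⟨k, hk⟩ := hS ⟨g, hg⟩
  have h1 : orderOf g ∣ 2 ^ k := orderOf_dvd_of_pow_eq_one (congrArg Subtype.val hk)
  intro h3
  have := Nat.prime_three.dvd_of_dvd_pow (h3.trans h1)
  norm_num at this

/-- Every involution is central in some Sylow 2-subgroup. -/
theorem exists_sylow_central [Finite G] (h : Six u v) {x : G} (hx : orderOf x = 2) :
    ∃ P : Sylow 2 G, x ∈ (P : Subgroup G) ∧ ∀ s ∈ (P : Subgroup G), x * s = s * x := by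
  haveI : Fact (Nat.Prime 2) := ⟨Nat.prime_two⟩
  obtain ⟨P⟩ : Nonempty (Sylow 2 G) := inferInstance
  have h2 : 2 ∣ Nat.card (P : Subgroup G) :=
    P.dvd_card_of_dvd_card (h.hu ▸ orderOf_dvd_natCard u)
  haveI : Nontrivial (P : Subgroup G) := Finite.one_lt_card_iff_nontrivial.1
    (lt_of_lt_of_le (by norm_num) (Nat.le_of_dvd Nat.card_pos h2))
  haveI := P.2.center_nontrivial
  obtain ⟨m, hm⟩ := (IsPGroup.to_subgroup P.2 (center (P : Subgroup G))).exists_card_eq
  have hm0 : m ≠ 0 := fun e => by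
    have := Finite.one_lt_card (α := center (P : Subgroup G))
    rw [hm, e, pow_zero] at this
    exact lt_irrefl 1 this
  obtain ⟨z, hz⟩ := exists_prime_orderOf_dvd_card' (G := center (P : Subgroup G)) 2
    (hm ▸ dvd_pow_self 2 hm0)
  have hzc : ∀ s ∈ (P : Subgroup G), (z : G) * s = s * z := fun s hs =>
    (congrArg Subtype.val (mem_center_iff.1 z.2 ⟨s, hs⟩)).symm
  obtain ⟨g, hg⟩ := isConj_iff.1 (h.one ((z : (P : Subgroup G)) : G) x
    (by rw [Subgroup.orderOf_coe, Subgroup.orderOf_coe, hz]) hx)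
  refine ⟨g • P, ?_, fun s hs => ?_⟩
  · rw [Sylow.coe_subgroup_smul, ← hg]
    exact ⟨_, (z : (P : Subgroup G)).2, rfl⟩
  · rw [Sylow.coe_subgroup_smul] at hs
    obtain ⟨p, hp, rfl⟩ := hs
    rw [← hg]
    show g * z * g⁻¹ * (g * p * g⁻¹) = g * p * g⁻¹ * (g * z * g⁻¹)
    calc g * z * g⁻¹ * (g * p * g⁻¹) = g * (z * p) * g⁻¹ := by group
      _ = g * (p * z) * g⁻¹ := by rw [hzc p hp]
      _ = _ := by group

/-- A two-subgroup of odd index in the centralizer of `u` is a Sylow subgroup. -/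
theorem Six.exists_sylow_eq [Finite G] (h : Six u v) {S H : Subgroup G}
    (hH : ∀ g, g * u = u * g → g ∈ H) (hS : IsPGroup 2 S) {k : ℕ} (hk : Odd k)
    (hcard : Nat.card H = Nat.card S * k) : ∃ P : Sylow 2 G, (P : Subgroup G) = S := by
  haveI : Fact (Nat.Prime 2) := ⟨Nat.prime_two⟩
  obtain ⟨P, -, hP⟩ := exists_sylow_central h h.hu
  have hle : (P : Subgroup G) ≤ H := fun g hg => hH g (hP g hg).symm
  have hd : Nat.card (P : Subgroup G) ∣ Nat.card S := by
    refine Nat.Coprime.dvd_of_dvd_mul_right ?_ (hcard ▸ Subgroup.card_dvd_of_le hle)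
    obtain ⟨n, hn⟩ := P.2.exists_card_eq
    rw [hn]
    exact (Nat.coprime_two_left.2 hk).pow_left n
  obtain ⟨Q, hQ⟩ := hS.exists_le_sylow
  refine ⟨Q, (eq_of_le_of_card_ge hQ ?_).symm⟩
  rw [Q.card_eq_multiplicity, ← P.card_eq_multiplicity]
  exact Nat.le_of_dvd Nat.card_pos hd

/-- `S` is a Sylow 2-subgroup centralized by `u` and normalized by `v`, whose normalizer fixes `u`
only through inner automorphisms and powers of `v`. -/
structure PSetup (u v : G) (S : Subgroup G) : Prop where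
  six : Six u v
  hS : ∃ P : Sylow 2 G, (P : Subgroup G) = S
  uS : u ∈ S
  uc : ∀ s ∈ S, u * s = s * u
  hvn : v ∈ normalizer (S : Set G)
  normH : ∀ n ∈ normalizer (S : Set G), n * u = u * n →
    ∃ s ∈ S, ∃ c ∈ centralizer (S : Set G), ∃ k : ℕ, n = s * c * v ^ k

variable {S : Subgroup G}

theorem PSetup.isPGroup (h : PSetup u v S) : IsPGroup 2 S := by
  obtain ⟨P, rfl⟩ := h.hS
  exact P.2

theorem PSetup.fix (h : PSetup u v S) {s : G} (hs : s ∈ S) (hsv : s * v = v * s) : s = 1 ∨ s = u :=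
  h.six.fix (h.uc s hs).symm hsv (not_three_dvd_of_two_group h.isPGroup hs)

theorem PSetup.conj_mem (h : PSetup u v S) {s : G} (hs : s ∈ S) : v * s * v⁻¹ ∈ S :=
  (mem_normalizer_iff.1 h.hvn s).1 hs

end CfsgLib.Recog.OrderSix
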