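import Cfsg.Agent.Lib.Recog.OrderSix.Elementary
import Cfsg.Agent.Lib.Recog.OrderSix.Second
import Cfsg.Agent.Lib.Coprime.Solvable
import Cfsg.Agent.S3779

/-!
# A Sylow subgroup with centre `⟨u⟩`
-/

set_option autoImplicit false
set_option linter.unusedSectionVars false
set_option linter.style.haveILetI false

namespace CfsgLib.Recog.OrderSix

open Subgroup CfsgLib.Char.SelfCentThree
open scoped commutatorElement

universe u

/-- A group of class two with an automorphism of order three and a subgroup of index two as below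
is abelian. -/
theorem comm_of_swap {Q : Type*} [Group Q] (θ : Q ≃* Q) (h3 : ∀ q, θ (θ (θ q)) = q)
    (hnorm : ∀ q, q * θ q * θ (θ q) = 1) (hfix : ∀ q, θ q = q → q = 1)
    (hcl : ∀ a b c : Q, ⁅a, b⁆ * c = c * ⁅a, b⁆) (R : Subgroup Q)
    (hidx : ∀ a b : Q, a ∉ R → b ∉ R → a * b ∈ R) (x : Q) (hx1 : x ≠ 1) (hx2 : x * x = 1)
    (hxc : ∀ q, x * q = q * x) (hR : ∀ a ∈ R, ∀ b ∈ R, ⁅a, b⁆ = 1 ∨ ⁅a, b⁆ = x)
    (hsum : ∀ q, θ (θ q) ∈ R ↔ (q ∈ R ↔ θ q ∈ R)) {f : Q} (hf : f ∈ R) (hf' : θ f ∉ R) :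
    ∀ a b : Q, a * b = b * a := by
  classical
  have hmr : ∀ a b c : Q, ⁅a, b * c⁆ = ⁅a, b⁆ * ⁅a, c⁆ := fun a b c => by
    calc ⁅a, b * c⁆ = ⁅a, b⁆ * (b * ⁅a, c⁆ * b⁻¹) := by simp only [commutatorElement_def]; group
      _ = _ := by rw [← hcl a c b, mul_inv_cancel_right]
  have hml : ∀ a b c : Q, ⁅a * b, c⁆ = ⁅b, c⁆ * ⁅a, c⁆ := fun a b c => by
    rw [commutatorElement_mul_left_eq_conj_mul, ← hcl b c a, mul_inv_cancel_right]
  have hθx : θ x ≠ x := fun h => hx1 (hfix x h)
  have hθθx : θ (θ x) = x * θ x := by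
    have h1 := hnorm x
    rw [mul_assoc, ← eq_inv_iff_mul_eq_one] at h1
    have h2 : θ x * θ (θ x) = x := by
      calc θ x * θ (θ x) = (x * x) * (θ x * θ (θ x)) := by rw [hx2, one_mul]
        _ = x * (x * θ x * θ (θ x)) := by group
        _ = x := by rw [hnorm, mul_one]
    calc θ (θ x) = (θ x)⁻¹ * (θ x * θ (θ x)) := by group
      _ = θ x⁻¹ * x := by rw [h2, map_inv]
      _ = θ x * x := by rw [inv_eq_of_mul_eq_one_right hx2]
      _ = x * θ x := (hxc (θ x)).symm
  have hconj : ∀ a b : Q, θ (θ a) ∈ R → θ (θ b) ∈ R → ⁅a, b⁆ = 1 ∨ ⁅a, b⁆ = θ x := fun a b ha hb => by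
    have h := hR _ ha _ hb
    rw [← map_commutatorElement, ← map_commutatorElement] at h
    rcases h with h | h
    · left
      exact θ.injective (θ.injective (by rw [h, map_one, map_one]))
    · right
      rw [← h, h3]
  -- the invariant subgroup
  let inD : Q → Prop := fun q => q ∈ R ∧ θ q ∈ R
  have hD2 : ∀ {q}, inD q → θ (θ q) ∈ R := fun {q} hq => (hsum q).2 ⟨fun _ => hq.2, fun _ => hq.1⟩
  have hDθ : ∀ {q}, inD q → inD (θ q) := fun {q} hq => ⟨hq.2, hD2 hq⟩
  have hDc : ∀ a b, inD a → inD b → a * b = b * a := fun a b ha hb => by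
    rw [← commutatorElement_eq_one_iff_mul_comm]
    rcases hR a ha.1 b hb.1 with h | h
    · exact h
    · exfalso
      rcases hR _ ha.2 _ hb.2 with h' | h' <;> rw [← map_commutatorElement, h] at h'
      · exact hx1 (θ.injective (h'.trans (map_one θ).symm))
      · exact hθx h'
  have hf2 : θ (θ f) ∉ R := fun h => hf' (((hsum f).1 h).1 hf)
  set g := θ f with hg
  have hθg : θ g ∉ R := hf2
  have hg2 : θ (θ g) ∈ R := by rw [hg, h3]; exact hf
  obtain ⟨e, he⟩ : ∃ e, e = (f * g)⁻¹ * θ g := ⟨_, rfl⟩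
  have heD : inD e := by
    constructor
    · rw [he]
      refine hidx _ _ (fun h => hf' ?_) hθg
      have := mul_mem (inv_mem hf) (inv_mem h)
      rwa [inv_inv, inv_mul_cancel_left] at this
    · rw [he, map_mul, map_inv, map_mul, ← hg]
      refine mul_mem (inv_mem (hidx _ _ hf' hθg)) ?_
      rw [hg, h3]; exact hf
  have hθg' : θ g = f * g * e := by rw [he, mul_inv_cancel_left]
  have hfd : ∀ d, inD d → (⁅f, d⁆ = 1 ∧ ⁅g, d⁆ = 1) ∨ (⁅f, d⁆ = x ∧ ⁅g, d⁆ = θ x) := by
    intro d hd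
    have h1 := hR f hf d hd.1
    have h2 := hconj g d hg2 (hD2 hd)
    have h3' : ⁅θ g, d⁆ = 1 ∨ ⁅θ g, d⁆ = x * θ x := by
      have hm1 : θ (θ g) ∈ R := hg2
      have hd' : inD (θ d) := hDθ hd
      -- apply `θ` to a commutator in `R`
      rcases hR (θ (θ g)) hg2 (θ d) hd.2 with h | h <;> rw [← map_commutatorElement] at h
      · exact Or.inl (θ.injective (by rw [h, map_one]))
      · refine Or.inr (θ.injective ?_)
        rw [h, ← hθθx, h3]
    rw [hθg', hml, hml, (commutatorElement_eq_one_iff_mul_comm.2 (hDc e d heD hd)), one_mul] at h3'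
    rcases h1 with h1 | h1 <;> rcases h2 with h2 | h2 <;> rw [h1, h2] at h3'
    · exact Or.inl ⟨h1, h2⟩
    · exfalso
      rcases h3' with h | h
      · exact hx1 (θ.injective (by rw [map_one, ← mul_one (θ x), h]))
      · rw [mul_one] at h
        exact hx1 (mul_eq_right.1 h.symm)
    · exfalso
      rcases h3' with h | h
      · rw [one_mul] at h; exact hx1 h
      · rw [one_mul] at h
        exact hx1 (θ.injective (by rw [map_one]; exact mul_eq_left.1 h.symm))
    · exact Or.inr ⟨h1, h2⟩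
  have hfd1 : ∀ d, inD d → ⁅f, d⁆ = 1 ∧ ⁅g, d⁆ = 1 := by
    intro d hd
    rcases hfd d hd with h | ⟨h, -⟩
    · exact h
    exfalso
    have hstep : ∀ q, inD q → ⁅f, q⁆ = x → ⁅f, θ q⁆ = x := by
      intro q hq hqx
      rcases hfd (θ q) (hDθ hq) with ⟨-, hb⟩ | ⟨ha, -⟩
      · exfalso
        apply hx1
        apply θ.injective
        rw [map_one, ← hqx, map_commutatorElement, ← hg, hb]
      · exact ha
    have h1 := hstep d hd h
    have h2 := hstep _ (hDθ hd) h1
    have := congrArg (fun q => ⁅f, q⁆) (hnorm d)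
    simp only [hmr, h, h1, h2, hx2, one_mul, commutatorElement_one_right] at this
    exact hx1 this
  have hDf : ∀ d, inD d → f * d = d * f ∧ g * d = d * g := fun d hd =>
    ⟨commutatorElement_eq_one_iff_mul_comm.1 (hfd1 d hd).1,
      commutatorElement_eq_one_iff_mul_comm.1 (hfd1 d hd).2⟩
  have hcov : ∀ q : Q, ∃ d, inD d ∧ (q = d ∨ q = f * d ∨ q = g * d ∨ q = f * g * d) := by
    intro q
    by_cases h1 : q ∈ R <;> by_cases h2 : θ q ∈ R
    · exact ⟨q, ⟨h1, h2⟩, Or.inl rfl⟩
    · refine ⟨f⁻¹ * q, ⟨mul_mem (inv_mem hf) h1, ?_⟩, Or.inr (Or.inl (mul_inv_cancel_left f q).symm)⟩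
      rw [map_mul, map_inv]
      exact hidx _ _ (fun h => hf' (inv_mem_iff.1 h)) h2
    · have hA : θ (g⁻¹ * q) ∉ R := by
        rw [map_mul, map_inv]
        intro h
        exact hθg (inv_mem_iff.1 (by simpa [mul_assoc] using mul_mem h (inv_mem h2)))
      refine ⟨(f * g)⁻¹ * q, ⟨?_, ?_⟩, Or.inr (Or.inr (Or.inr (mul_inv_cancel_left _ q).symm))⟩
      · refine hidx _ _ (fun h => hf' ?_) h1
        have := mul_mem (inv_mem hf) (inv_mem h)
        rwa [inv_inv, inv_mul_cancel_left] at this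
      · rw [map_mul, map_inv, map_mul, ← hg]
        exact mul_mem (inv_mem (hidx _ _ hf' hθg)) h2
    · refine ⟨g⁻¹ * q, ⟨hidx _ _ (fun h => hf' (inv_mem_iff.1 h)) h1, ?_⟩,
        Or.inr (Or.inr (Or.inl (mul_inv_cancel_left g q).symm))⟩
      rw [map_mul, map_inv]
      exact hidx _ _ (fun h => hθg (inv_mem_iff.1 h)) h2
  have hff : inD (f * f) := ⟨mul_mem hf hf, by rw [map_mul]; exact hidx _ _ hf' hf'⟩
  set c := ⁅f, g⁆ with hc
  have hcc : c * c = 1 := by
    have := commutatorElement_eq_one_iff_mul_comm.2 (hDf _ hff).2.symm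
    rwa [hml] at this
  have hfg : f * g = g * f := by
    rw [← commutatorElement_eq_one_iff_mul_comm]
    refine hfix _ ?_
    show θ c = c
    rw [hc, map_commutatorElement, hθg', ← hg, hmr, hmr,
      commutatorElement_eq_one_iff_mul_comm.2 (hDf e heD).2, commutatorElement_self, mul_one, mul_one,
      ← commutatorElement_inv f g, ← hc]
    exact inv_eq_of_mul_eq_one_right hcc
  intro a b
  obtain ⟨da, hda, ea⟩ := hcov a
  obtain ⟨db, hdb, eb⟩ := hcov b
  have k1 : Commute da db := hDc _ _ hda hdb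
  have k2 : Commute f da := (hDf _ hda).1
  have k3 : Commute g da := (hDf _ hda).2
  have k4 : Commute f db := (hDf _ hdb).1
  have k5 : Commute g db := (hDf _ hdb).2
  have k6 : Commute f g := hfg
  have ka : Commute f a ∧ Commute g a ∧ Commute db a := by
    rcases ea with rfl | rfl | rfl | rfl
    · exact ⟨k2, k3, k1.symm⟩
    · exact ⟨(Commute.refl f).mul_right k2, k6.symm.mul_right k3, k4.symm.mul_right k1.symm⟩
    · exact ⟨k6.mul_right k2, (Commute.refl g).mul_right k3, k5.symm.mul_right k1.symm⟩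
    · exact ⟨((Commute.refl f).mul_right k6).mul_right k2, (k6.symm.mul_right (Commute.refl g)).mul_right k3,
        (k4.symm.mul_right k5.symm).mul_right k1.symm⟩
  obtain ⟨kf, kg, kd⟩ := ka
  rcases eb with rfl | rfl | rfl | rfl
  · exact kd.eq.symm
  · exact (kf.mul_left kd).eq.symm
  · exact (kg.mul_left kd).eq.symm
  · exact ((kf.mul_left kg).mul_left kd).eq.symm

variable {G : Type u} [Group G] [Finite G] {u v : G} {S : Subgroup G}

/-- The centre cannot be `⟨u⟩`. -/
theorem PSetup.false_of_center [IsSimpleGroup G] (hG : ¬ IsMulCommutative G) (h : PSetup u v S)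
    (hcen : ∀ z ∈ S, (∀ s ∈ S, z * s = s * z) → z = 1 ∨ z = u) : False := by
  classical
  haveI : Fact (Nat.Prime 2) := ⟨Nat.prime_two⟩
  haveI : Fact (Nat.Prime 3) := ⟨Nat.prime_three⟩
  have hu := h.six.hu
  have huu := mul_self_invol hu
  have huc := h.uc
  have hSp := h.isPGroup
  haveI : Group.IsNilpotent S := hSp.isNilpotent
  have hvS : ∀ s ∈ S, v * s * v⁻¹ ∈ S := fun s hs => h.conj_mem hs
  have hvu : v * u * v⁻¹ = u := by rw [← h.six.huv, mul_inv_cancel_right]
  have hvfix : ∀ s ∈ S, (v * s * v⁻¹ = s ∨ v * s * v⁻¹ = u * s) → s = 1 ∨ s = u := by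
    intro s hs hh
    rcases hh with e | e
    · exact h.fix hs (mul_inv_eq_iff_eq_mul.1 e).symm
    · exfalso
      have h3 : v * (v * (v * s * v⁻¹) * v⁻¹) * v⁻¹ = s := by
        rw [show v * (v * (v * s * v⁻¹) * v⁻¹) * v⁻¹ = (v * v * v) * s * (v * v * v)⁻¹ by group,
          h.six.vvv, one_mul, inv_one, mul_one]
      rw [e, show v * (u * s) * v⁻¹ = (v * u * v⁻¹) * (v * s * v⁻¹) by group, hvu, e,
        show u * (u * s) = s by rw [← mul_assoc, huu, one_mul], e] at h3
      exact h.six.u_ne (mul_eq_right.1 h3)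
  obtain ⟨P, hP⟩ := h.hS
  -- the quotient by the centre
  set Z := center S with hZ
  have hZmem : ∀ a : S, a ∈ Z ↔ (a : G) = 1 ∨ (a : G) = u := fun a => by
    constructor
    · exact fun ha => hcen a a.2 fun s hs => (congrArg Subtype.val (mem_center_iff.1 ha ⟨s, hs⟩)).symm
    · rintro (e | e) <;> refine mem_center_iff.2 fun b => Subtype.ext ?_ <;> simp only [coe_mul, e]
      · rw [one_mul, mul_one]
      · exact (huc b b.2).symm
  set vN : ↥(normalizer (S : Set G)) := ⟨v, h.hvn⟩
  set θ : MulAut (S ⧸ Z) := quotAut Z (S.normalizerMonoidHom vN) with hθ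
  have hθmk : ∀ a : S, θ (a : S ⧸ Z) = ((⟨v * a * v⁻¹, hvS a a.2⟩ : S) : S ⧸ Z) := fun a => rfl
  have hmkeq : ∀ a b : S, (a : S ⧸ Z) = b ↔ (b : G) = a ∨ (b : G) = u * a := fun a b => by
    rw [QuotientGroup.eq, hZmem, coe_mul, coe_inv]
    constructor
    · rintro (e | e)
      · exact Or.inl (inv_mul_eq_one.1 e).symm
      · exact Or.inr ((inv_mul_eq_iff_eq_mul.1 e).trans (huc a a.2).symm)
    · rintro (e | e)
      · exact Or.inl (by rw [e, inv_mul_cancel])
      · exact Or.inr (by rw [e, huc a a.2, inv_mul_cancel_left])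
  have hfpf : ∀ q, θ q = q → q = 1 := by
    intro q
    induction q using QuotientGroup.induction_on with
    | _ a =>
      intro hq
      rw [hθmk, eq_comm, hmkeq] at hq
      exact (QuotientGroup.eq_one_iff _).2 ((hZmem a).2 (hvfix a a.2 hq))
  have h3 : ∀ q, θ (θ (θ q)) = q := by
    intro q
    induction q using QuotientGroup.induction_on with
    | _ a =>
      rw [hθmk, hθmk, hθmk]
      congr 1
      refine Subtype.ext ?_
      show v * (v * (v * a * v⁻¹) * v⁻¹) * v⁻¹ = a
      rw [show v * (v * (v * (a : G) * v⁻¹) * v⁻¹) * v⁻¹ = (v * v * v) * a * (v * v * v)⁻¹ by group,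
        h.six.vvv, one_mul, inv_one, mul_one]
  have hnorm : ∀ q, q * θ q * θ (θ q) = 1 := by
    intro q
    have hF : MonoidHom.FixedPointFree θ.toMonoidHom := fun g hg => hfpf g hg
    have hit : (θ.toMonoidHom : S ⧸ Z → S ⧸ Z)^[3] = id := funext fun g => h3 g
    have := hF.prod_pow_eq_one hit q
    simpa [List.range_succ, mul_assoc] using this
  have hcl : ∀ a b c : S ⧸ Z, ⁅a, b⁆ * c = c * ⁅a, b⁆ := by
    intro a b c
    by_cases h1 : ∀ q : S ⧸ Z, q = 1
    · rw [h1 c, mul_one, one_mul]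
    have ho : orderOf θ = 3 := by
      refine orderOf_eq_prime (MulEquiv.ext fun q => ?_) fun e => h1 fun q => hfpf q (by rw [e]; rfl)
      simp only [pow_succ, pow_zero, one_mul, MulAut.mul_apply, MulAut.one_apply]
      exact h3 q
    have hb := (Cfsg.Agent.S3779.result Nat.prime_three θ ho hfpf).2.1 rfl
    rw [← commutatorElement_eq_one_iff_mul_comm, ← mem_bot, ← hb]
    exact commutator_mem_commutator (commutator_mem_commutator (mem_top _) (mem_top _)) (mem_top _)
  have hcommC : ∀ (a : S), (∀ q : S ⧸ Z, (a : S ⧸ Z) * q = q * a) → ∀ s ∈ S,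
      (a : G) * s = s * a ∨ (a : G) * s = u * (s * a) := by
    intro a ha s hs
    have := ha ((⟨s, hs⟩ : S) : S ⧸ Z)
    rw [← QuotientGroup.mk_mul, ← QuotientGroup.mk_mul, eq_comm, hmkeq] at this
    exact this
  -- an involution central modulo `u`
  obtain ⟨x, hx, hxo, hxu, hxc⟩ : ∃ x ∈ S, orderOf x = 2 ∧ x ≠ u ∧
      ∀ s ∈ S, x * s = s * x ∨ x * s = u * (s * x) := by
    by_contra hcon
    let Z2 : G → Prop := fun a => a ∈ S ∧ ∀ s ∈ S, a * s = s * a ∨ a * s = u * (s * a)
    have hZ2sq : ∀ a, Z2 a → a = 1 ∨ a = u ∨ a * a = u := by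
      intro a ⟨ha, hac⟩
      by_cases h1 : a = 1
      · exact Or.inl h1
      by_cases h2 : a = u
      · exact Or.inr (Or.inl h2)
      refine Or.inr (Or.inr ((hcen (a * a) (mul_mem ha ha) fun s hs => ?_).resolve_left fun e =>
        hcon ⟨a, ha, orderOf_two e h1, h2, hac⟩))
      rcases hac s hs with e | e
      · rw [mul_assoc, e, ← mul_assoc, e, mul_assoc]
      · calc a * a * s = a * (u * (s * a)) := by rw [mul_assoc, e]
          _ = u * (a * s) * a := by rw [← mul_assoc a u, ← huc a ha]; group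
          _ = (u * u) * (s * (a * a)) := by rw [e]; group
          _ = _ := by rw [huu, one_mul]
    have hZ2mul : ∀ a b, Z2 a → Z2 b → Z2 (a * b) := by
      intro a b ⟨ha, hac⟩ ⟨hb, hbc⟩
      refine ⟨mul_mem ha hb, fun s hs => ?_⟩
      rcases hbc s hs with e | e <;> rcases hac s hs with e' | e'
      · left; rw [mul_assoc, e, ← mul_assoc, e', mul_assoc]
      · right; rw [mul_assoc, e, ← mul_assoc, e']; group
      · right
        rw [mul_assoc, e, ← mul_assoc, ← huc a ha, mul_assoc u a, ← mul_assoc a s, e']; group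
      · left
        rw [mul_assoc, e, ← mul_assoc, ← huc a ha, mul_assoc u a, ← mul_assoc a s, e',
          show u * (u * (s * a) * b) = (u * u) * (s * (a * b)) by group, huu, one_mul]
    have hanti : ∀ a b, Z2 a → Z2 b → a * a = u → b * b = u → a * b = b * a → b = a ∨ b = u * a := by
      intro a b ha hb haa hbb hab
      rcases hZ2sq _ (hZ2mul a b ha hb) with e | e | e
      · right
        rw [eq_inv_of_mul_eq_one_right e, eq_comm]
        refine (inv_eq_of_mul_eq_one_right ?_).symm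
        rw [← mul_assoc, ← huc a ha.1, mul_assoc, haa, huu]
      · left
        rw [← mul_right_inj a, e, haa]
      · exfalso
        apply ne_one_of_order hu (by norm_num : (2 : ℕ) ≠ 1)
        rw [← e, mul_assoc, ← mul_assoc b, ← hab, ← mul_assoc, ← mul_assoc, haa, mul_assoc, hbb, huu]
    -- either the quotient is trivial or the second centre is a quaternion group
    by_cases hall : ∀ s ∈ S, s = 1 ∨ s = u
    · exact false_of_one_invol hG P hu fun y hy hyo => ((hall y (hP ▸ hy)).resolve_left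
        (ne_one_of_order hyo (by norm_num)))
    haveI : Nontrivial (S ⧸ Z) := by
      push Not at hall
      obtain ⟨s, hs, h1, h2⟩ := hall
      exact ⟨⟨((⟨s, hs⟩ : S) : S ⧸ Z), 1, fun e =>
        ((hZmem _).1 ((QuotientGroup.eq_one_iff _).1 e)).elim h1 h2⟩⟩
    haveI : Nontrivial (center (S ⧸ Z)) :=
      (Subgroup.nontrivial_iff_ne_bot _).2 (Group.IsNilpotent.center_ne_bot (S ⧸ Z))
    obtain ⟨⟨q, hq⟩, hq1⟩ := exists_ne (1 : center (S ⧸ Z))
    obtain ⟨a', rfl⟩ := QuotientGroup.mk_surjective q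
    set a : G := (a' : G) with ha
    have ha2 : Z2 a := ⟨a'.2, hcommC a' fun r => (mem_center_iff.1 hq r).symm⟩
    have hane : ¬ (a = 1 ∨ a = u) := fun e =>
      hq1 (Subtype.ext ((QuotientGroup.eq_one_iff _).2 ((hZmem a').2 e)))
    have haa : a * a = u := ((hZ2sq a ha2).resolve_left fun e => hane (Or.inl e)).resolve_left
      fun e => hane (Or.inr e)
    set b : G := v * a * v⁻¹ with hb
    have hb2 : Z2 b := by
      refine ⟨hvS a ha2.1, fun s hs => ?_⟩
      have hs' : v⁻¹ * s * v ∈ S := (mem_normalizer_iff''.1 h.hvn s).1 hs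
      show v * a * v⁻¹ * s = s * (v * a * v⁻¹) ∨ v * a * v⁻¹ * s = u * (s * (v * a * v⁻¹))
      rcases ha2.2 _ hs' with e | e
      · left
        calc v * a * v⁻¹ * s = v * (a * (v⁻¹ * s * v)) * v⁻¹ := by group
          _ = v * ((v⁻¹ * s * v) * a) * v⁻¹ := by rw [e]
          _ = _ := by group
      · right
        calc v * a * v⁻¹ * s = v * (a * (v⁻¹ * s * v)) * v⁻¹ := by group
          _ = (v * u * v⁻¹) * (s * (v * a * v⁻¹)) := by rw [e]; group
          _ = _ := by rw [hvu]
    have hbb : b * b = u := by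
      rw [hb, show v * a * v⁻¹ * (v * a * v⁻¹) = v * (a * a) * v⁻¹ by group, haa, hvu]
    have hab : a * b = u * (b * a) := by
      refine (ha2.2 b hb2.1).resolve_left fun e => hane ?_
      exact hvfix a ha2.1 (hanti a b ha2 hb2 haa hbb e)
    have hba : b * a = u * (a * b) := by rw [hab, ← mul_assoc, huu, one_mul]
    -- `C` commutes with both
    have hC : ∀ s ∈ S, s * a = a * s → s * b = b * s → s = 1 ∨ s = u := by
      by_contra hc
      push Not at hc
      obtain ⟨s, hs, hsa, hsb, hs1, hsu⟩ := hc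
      let C : Subgroup S :=
        { carrier := {c | (c : G) * a = a * c ∧ (c : G) * b = b * c}
          one_mem' := ⟨by simp, by simp⟩
          mul_mem' := fun {c d} hc hd => by
            exact ⟨((show Commute (c : G) a from hc.1).mul_left (show Commute (d : G) a from hd.1)).eq,
              ((show Commute (c : G) b from hc.2).mul_left (show Commute (d : G) b from hd.2)).eq⟩
          inv_mem' := fun {c} hc => ⟨(show Commute (c : G) a from hc.1).inv_left.eq,
            (show Commute (c : G) b from hc.2).inv_left.eq⟩ }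
      have hCn : C.Normal := by
        refine ⟨fun c hc g => ?_⟩
        have key : ∀ z, Z2 z → (c : G) * z = z * c →
            ((g : G) * c * (g : G)⁻¹) * z = z * ((g : G) * c * (g : G)⁻¹) := by
          intro z ⟨hz, hzc⟩ hcz
          have hgz : (g : G)⁻¹ * z * g = z ∨ (g : G)⁻¹ * z * g = u * z := by
            rcases hzc g g.2 with e | e
            · left; rw [mul_assoc, e, inv_mul_cancel_left]
            · right; rw [mul_assoc, e, ← mul_assoc, ← huc _ (inv_mem g.2)]; group
          rcases hgz with e | e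
          · calc (g : G) * c * (g : G)⁻¹ * z = g * (c * ((g : G)⁻¹ * z * g)) * (g : G)⁻¹ := by group
              _ = g * (((g : G)⁻¹ * z * g) * c) * (g : G)⁻¹ := by rw [e, hcz]
              _ = _ := by group
          · have hcuz : (c : G) * (u * z) = u * z * c := by
              rw [← mul_assoc, ← huc c c.2, mul_assoc, hcz, mul_assoc]
            calc (g : G) * c * (g : G)⁻¹ * z = g * (c * ((g : G)⁻¹ * z * g)) * (g : G)⁻¹ := by group
              _ = g * (((g : G)⁻¹ * z * g) * c) * (g : G)⁻¹ := by rw [e, hcuz]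
              _ = _ := by group
        exact ⟨key a ha2 hc.1, key b hb2 hc.2⟩
      haveI := hCn
      haveI hCZn : (C.map (QuotientGroup.mk' Z)).Normal :=
        hCn.map _ (QuotientGroup.mk'_surjective Z)
      have hne : C.map (QuotientGroup.mk' Z) ≠ ⊥ := by
        intro e
        have : ((⟨s, hs⟩ : S) : S ⧸ Z) ∈ C.map (QuotientGroup.mk' Z) := ⟨⟨s, hs⟩, ⟨hsa, hsb⟩, rfl⟩
        rw [e, mem_bot, QuotientGroup.eq_one_iff, hZmem] at this
        exact this.elim hs1 hsu
      obtain ⟨_, ⟨⟨c, hc, rfl⟩, hcz⟩, hc1⟩ := (bot_or_exists_ne_one _).resolve_left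
        (CfsgLib.Coprime.nilpotent_inf_center_ne_bot (C.map (QuotientGroup.mk' Z)) hne)
      have hc2 : Z2 c := ⟨c.2, hcommC c fun r => (mem_center_iff.1 hcz r).symm⟩
      rcases hZ2sq _ hc2 with e | e | e
      · exact hc1 ((QuotientGroup.eq_one_iff _).2 ((hZmem c).2 (Or.inl e)))
      · exact hc1 ((QuotientGroup.eq_one_iff _).2 ((hZmem c).2 (Or.inr e)))
      · rcases hanti a c ha2 hc2 haa e hc.1.symm with e' | e'
        · have h5 := hc.2
          rw [e', hab] at h5
          exact h.six.u_ne (mul_eq_right.1 h5)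
        · have h5 := hc.2
          rw [e', mul_assoc, ← mul_assoc b u, ← huc b hb2.1, mul_assoc u b, hab, mul_right_inj] at h5
          exact h.six.u_ne (mul_eq_right.1 h5)
    refine false_of_one_invol hG P hu fun y hy hyo => ?_
    rw [hP] at hy
    by_contra hyu
    -- adjust `y` to commute with `a` and `b`
    obtain ⟨p, hp, hp1⟩ : ∃ p, Z2 p ∧ ((p * y) * a = a * (p * y) ∧ (p * y) * b = b * (p * y)) := by
      have e1 : ∀ z ∈ S, ∀ p ∈ S, ∀ w, (z * w = w * z → p * w = w * p → p * z * w = w * (p * z)) :=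
        fun z _ p _ w h1 h2 => by rw [mul_assoc, h1, ← mul_assoc, h2, mul_assoc]
      have e2 : ∀ z ∈ S, ∀ p ∈ S, ∀ w, (z * w = u * (w * z) → p * w = u * (w * p) →
          p * z * w = w * (p * z)) := fun z _ p hp w h1 h2 => by
        rw [mul_assoc, h1, ← mul_assoc, ← huc p hp, mul_assoc u p, ← mul_assoc p w, h2,
          show u * (u * (w * p) * z) = (u * u) * (w * (p * z)) by group, huu, one_mul]
      have hflip : ∀ w : G, Z2 w → y * w = w * y ∨ y * w = u * (w * y) := fun w hw => by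
        rcases hw.2 y hy with e | e
        · exact Or.inl e.symm
        · exact Or.inr (by rw [e, ← mul_assoc, huu, one_mul])
      have h1mem : Z2 1 := ⟨one_mem _, fun s _ => Or.inl (by rw [one_mul, mul_one])⟩
      rcases hflip a ha2 with ea | ea <;> rcases hflip b hb2 with eb | eb
      · exact ⟨1, h1mem, by rwa [one_mul], by rwa [one_mul]⟩
      · exact ⟨a, ha2, e1 y hy a ha2.1 a ea rfl, e2 y hy a ha2.1 b eb hab⟩
      · exact ⟨b, hb2, e2 y hy b hb2.1 a ea hba, e1 y hy b hb2.1 b eb rfl⟩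
      · refine ⟨a * b, hZ2mul a b ha2 hb2, e2 y hy _ (mul_mem ha2.1 hb2.1) a ea ?_,
          e2 y hy _ (mul_mem ha2.1 hb2.1) b eb ?_⟩
        · rw [mul_assoc, hba, ← mul_assoc, ← huc a ha2.1]; group
        · conv_lhs => rw [hab]
          group
    have hy1 : y ≠ 1 := ne_one_of_order hyo (by norm_num)
    rcases hC _ (mul_mem hp.1 hy) hp1.1 hp1.2 with e | e
    · have hyy : Z2 y := by
        rw [eq_inv_of_mul_eq_one_right e]
        rcases hZ2sq p hp with e' | e' | e'
        · rw [e', inv_one]; exact ⟨one_mem _, fun s _ => Or.inl (by rw [one_mul, mul_one])⟩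
        · rw [e', inv_eq_self hu]; exact ⟨h.uS, fun s hs => Or.inl (huc s hs)⟩
        · rw [inv_eq_of_mul_eq_one_right (show p * (u * p) = 1 by
            rw [← mul_assoc, ← huc p hp.1, mul_assoc, e', huu])]
          exact hZ2mul _ _ ⟨h.uS, fun s hs => Or.inl (huc s hs)⟩ hp
      exact hcon ⟨y, hy, hyo, hyu, hyy.2⟩
    · have hyy : Z2 y := by
        have hyp : y = p⁻¹ * u := eq_inv_mul_of_mul_eq e
        rw [hyp]
        rcases hZ2sq p hp with e' | e' | e'
        · rw [e', inv_one, one_mul]; exact ⟨h.uS, fun s hs => Or.inl (huc s hs)⟩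
        · rw [e', inv_mul_cancel]; exact ⟨one_mem _, fun s _ => Or.inl (by rw [one_mul, mul_one])⟩
        · rw [← e', inv_mul_cancel_left]; exact hp
      exact hcon ⟨y, hy, hyo, hyu, hyy.2⟩
  -- the second Sylow subgroup
  subst hP
  obtain ⟨T, e, e', hs2⟩ := exists_second h.six.one P hu h.uS huc hcen hx hxo hxu hxc
  set R := (P : Subgroup G) ⊓ centralizer {x} with hR
  have hxx := mul_self_invol hxo
  set xP : (P : Subgroup G) := ⟨x, hx⟩
  set y := v * x * v⁻¹ with hy
  set z := v * y * v⁻¹ with hz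
  have hyP : y ∈ (P : Subgroup G) := hvS x hx
  have hxq : ∀ q, (xP : (P : Subgroup G) ⧸ Z) * q = q * xP := by
    intro q
    induction q using QuotientGroup.induction_on with
    | _ b =>
      rw [← QuotientGroup.mk_mul, ← QuotientGroup.mk_mul, eq_comm, hmkeq]
      exact hxc b b.2
  have hxyz : z = x * y ∨ z = u * (x * y) := by
    have hn := hnorm (xP : (P : Subgroup G) ⧸ Z)
    rw [hθmk, hθmk, ← QuotientGroup.mk_mul, ← QuotientGroup.mk_mul, QuotientGroup.eq_one_iff, hZmem] at hn
    change x * y * z = 1 ∨ x * y * z = u at hn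
    have hzz : z * z = 1 := by
      rw [hz, hy, show v * (v * x * v⁻¹) * v⁻¹ * (v * (v * x * v⁻¹) * v⁻¹) = v * (v * (x * x) * v⁻¹) * v⁻¹
        by group, hxx]; group
    rcases hn with e1 | e1
    · left
      calc z = (x * y)⁻¹ := eq_inv_of_mul_eq_one_right e1
        _ = x * y := by rw [eq_inv_of_mul_eq_one_left e1]; exact (inv_inv z).trans (inv_eq_of_mul_eq_one_right hzz).symm
    · right
      calc z = (z * z) * z⁻¹ := by group
        _ = z⁻¹ := by rw [hzz, one_mul]
        _ = u * (x * y) := by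
          rw [← e1, show x * y * z * (x * y) = (x * y * z) * (x * y * z) * z⁻¹ by group, e1, huu, one_mul]
  have hzz : z * z = 1 := by
    rw [hz, hy, show v * (v * x * v⁻¹) * v⁻¹ * (v * (v * x * v⁻¹) * v⁻¹) = v * (v * (x * x) * v⁻¹) * v⁻¹
      by group, hxx]; group
  have hyy : y * y = 1 := by
    rw [hy, show v * x * v⁻¹ * (v * x * v⁻¹) = v * (x * x) * v⁻¹ by group, hxx]; group
  have hxy : x * y = y * x := by
    rcases hxc y hyP with e1 | e1
    · exact e1
    · exfalso
      have hxyxy : (x * y) * (x * y) = 1 := by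
        rcases hxyz with e2 | e2
        · rw [← e2]; exact hzz
        · have h6 := hzz
          rw [e2, show u * (x * y) * (u * (x * y)) = u * ((x * y) * u) * (x * y) by group,
            ← huc _ (mul_mem hx hyP), ← mul_assoc u u, huu, one_mul] at h6
          exact h6
      apply h.six.u_ne
      have h7 : x * y = (x * y)⁻¹ := eq_inv_of_mul_eq_one_left hxyxy
      rw [mul_inv_rev, inv_eq_of_mul_eq_one_right hxx, inv_eq_of_mul_eq_one_right hyy] at h7
      rw [h7] at e1
      exact mul_eq_right.1 e1.symm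
  have hθs : ∀ {a : G} (ha : a ∈ (P : Subgroup G)), v⁻¹ * a * v ∈ (P : Subgroup G) :=
    fun ha => (mem_normalizer_iff''.1 h.hvn _).1 ha
  -- derived group of `R`
  have hRmem : ∀ {r}, r ∈ R → r ∈ (P : Subgroup G) := fun hr => hr.1
  have hRe : ∀ a b : G, a ∈ R → b ∈ R → ⁅a, b⁆ = 1 ∨ ⁅a, b⁆ = u ∨ ⁅a, b⁆ = x ∨ ⁅a, b⁆ = u * x := by
    have hclass : ∀ a b c : G, a ∈ (P : Subgroup G) → b ∈ (P : Subgroup G) → c ∈ (P : Subgroup G) →
        ⁅a, b⁆ * c = c * ⁅a, b⁆ ∨ ⁅a, b⁆ * c = u * (c * ⁅a, b⁆) := by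
      intro a b c ha hb hc
      have := hcl ((⟨a, ha⟩ : (P : Subgroup G)) : _ ⧸ Z) ((⟨b, hb⟩ : (P : Subgroup G)) : _ ⧸ Z)
        ((⟨c, hc⟩ : (P : Subgroup G)) : _ ⧸ Z)
      rw [← QuotientGroup.mk'_apply, ← QuotientGroup.mk'_apply, ← QuotientGroup.mk'_apply,
        ← map_commutatorElement, ← map_mul, ← map_mul, QuotientGroup.mk'_apply, QuotientGroup.mk'_apply,
        eq_comm, hmkeq] at this
      exact this
    intro a b ha hb
    have hcP : ⁅a, b⁆ ∈ (P : Subgroup G) := by
      rw [commutatorElement_def]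
      exact mul_mem (mul_mem (mul_mem ha.1 hb.1) (inv_mem ha.1)) (inv_mem hb.1)
    refine central_four hu hx hxx huc hxc hcen hs2.e_mem hs2.e_notMem hcP (fun r hr => ?_)
      (hclass a b e ha.1 hb.1 hs2.e_mem)
    rcases hclass a b r ha.1 hb.1 hr.1 with e1 | e1
    · exact e1
    · exfalso
      have ha' := (hs2.e'_norm a ha).1
      have hb' := (hs2.e'_norm b hb).1
      have hr' := (hs2.e'_norm r hr).1
      have h8 : ⁅e' * a * e'⁻¹, e' * b * e'⁻¹⁆ * (e' * r * e'⁻¹) =
          u * x * ((e' * r * e'⁻¹) * ⁅e' * a * e'⁻¹, e' * b * e'⁻¹⁆) := by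
        rw [← conjugate_commutatorElement, ← hs2.e'_u]
        calc e' * ⁅a, b⁆ * e'⁻¹ * (e' * r * e'⁻¹) = e' * (⁅a, b⁆ * r) * e'⁻¹ := by group
          _ = e' * (u * (r * ⁅a, b⁆)) * e'⁻¹ := by rw [e1]
          _ = _ := by group
      rcases hclass _ _ _ ha'.1 hb'.1 hr'.1 with e2 | e2 <;> rw [e2] at h8
      · have h9 := mul_eq_right.1 h8.symm
        exact hxu ((eq_inv_of_mul_eq_one_right h9).trans (inv_eq_self hu))
      · exact ne_one_of_order hxo (by norm_num) (mul_eq_left.1 (mul_right_cancel h8).symm)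
  -- `R` is not abelian
  have hyR : y ∈ R := mem_inf_cent.2 ⟨hyP, hxy.symm⟩
  have hvR : ∀ {r}, r ∈ (P : Subgroup G) → (v⁻¹ * r * v ∈ R ↔ r * y = y * r) := by
    intro r hr
    rw [hR, mem_inf_cent]
    constructor
    · rintro ⟨-, e1⟩
      calc r * y = v * ((v⁻¹ * r * v) * x) * v⁻¹ := by rw [hy]; group
        _ = v * (x * (v⁻¹ * r * v)) * v⁻¹ := by rw [e1]
        _ = y * r := by rw [hy]; group
    · intro e1
      refine ⟨hθs hr, ?_⟩
      calc v⁻¹ * r * v * x = v⁻¹ * (r * y) * v := by rw [hy]; group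
        _ = v⁻¹ * (y * r) * v := by rw [e1]
        _ = x * (v⁻¹ * r * v) := by rw [hy]; group
  have hsplit2 : ∀ r ∈ (P : Subgroup G), (r ∈ R ↔ r * x = x * r) := fun r hr =>
    ⟨fun hh => (mem_inf_cent.1 hh).2, fun hh => mem_inf_cent.2 ⟨hr, hh⟩⟩
  -- some element of `R` does not commute with `y`
  obtain ⟨f, hfR, hfy⟩ : ∃ f ∈ R, f * y ≠ y * f := by
    by_contra hc
    push Not at hc
    rcases central_four hu hx hxx huc hxc hcen hs2.e_mem hs2.e_notMem hyP (fun r hr => (hc r hr).symm)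
      (by
        have hs' : v⁻¹ * e * v ∈ (P : Subgroup G) := hθs hs2.e_mem
        rcases hxc _ hs' with e1 | e1
        · left
          calc y * e = v * (x * (v⁻¹ * e * v)) * v⁻¹ := by rw [hy]; group
            _ = _ := by rw [e1, hy]; group
        · right
          calc y * e = v * (x * (v⁻¹ * e * v)) * v⁻¹ := by rw [hy]; group
            _ = (v * u * v⁻¹) * (e * y) := by rw [e1, hy]; group
            _ = _ := by rw [hvu]) with e1 | e1 | e1 | e1
    · exact ne_one_of_order hxo (by norm_num) (conj_eq_one_iff.1 e1)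
    · apply hxu
      rw [hy, mul_inv_eq_iff_eq_mul, h.six.huv] at e1
      exact mul_left_cancel e1
    · exact (hvfix x hx (Or.inl e1)).elim (ne_one_of_order hxo (by norm_num)) hxu
    · exact (hvfix x hx (Or.inr e1)).elim (ne_one_of_order hxo (by norm_num)) hxu
  -- apply the abstract argument
  let Rq : Subgroup ((P : Subgroup G) ⧸ Z) := (R.subgroupOf (P : Subgroup G)).map (QuotientGroup.mk' Z)
  have hRq : ∀ a : (P : Subgroup G), (a : (P : Subgroup G) ⧸ Z) ∈ Rq ↔ (a : G) ∈ R := by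
    intro a
    refine ⟨fun ⟨b, hb, hb'⟩ => ?_, fun ha => ⟨a, mem_subgroupOf.2 ha, rfl⟩⟩
    rcases (hmkeq b a).1 hb' with e1 | e1
    · rw [e1]; exact hb
    · rw [e1]; exact mul_mem (mem_inf_cent.2 ⟨h.uS, huc x hx⟩) hb
  have hRc' : ∀ a ∈ Rq, ∀ b ∈ Rq, ⁅a, b⁆ = 1 ∨ ⁅a, b⁆ = (xP : (P : Subgroup G) ⧸ Z) := by
    rintro _ ⟨a, ha, rfl⟩ _ ⟨b, hb, rfl⟩
    rw [← map_commutatorElement, QuotientGroup.mk'_apply]
    have hcoe : ((⁅a, b⁆ : (P : Subgroup G)) : G) = ⁅(a : G), (b : G)⁆ :=
      map_commutatorElement (P : Subgroup G).subtype a b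
    rcases hRe a b ha hb with e1 | e1 | e1 | e1
    · exact Or.inl ((QuotientGroup.eq_one_iff _).2 ((hZmem _).2 (Or.inl (hcoe.trans e1))))
    · exact Or.inl ((QuotientGroup.eq_one_iff _).2 ((hZmem _).2 (Or.inr (hcoe.trans e1))))
    · refine Or.inr ((hmkeq _ _).2 (Or.inl ?_))
      rw [hcoe, e1]
    · refine Or.inr ((hmkeq _ _).2 (Or.inr ?_))
      rw [hcoe, e1, ← mul_assoc, huu, one_mul]
  have hidx : ∀ a b : (P : Subgroup G) ⧸ Z, a ∉ Rq → b ∉ Rq → a * b ∈ Rq := by
    intro a b
    induction a using QuotientGroup.induction_on with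
    | _ a => induction b using QuotientGroup.induction_on with
      | _ b =>
        intro ha hb
        rw [hRq, hsplit2 _ a.2] at ha
        rw [hRq, hsplit2 _ b.2] at hb
        rw [← QuotientGroup.mk_mul, hRq, coe_mul, hsplit2 _ (mul_mem a.2 b.2)]
        have ea := (hxc a a.2).resolve_left fun e1 => ha e1.symm
        have eb := (hxc b b.2).resolve_left fun e1 => hb e1.symm
        symm
        calc x * ((a : G) * b) = x * a * b := by group
          _ = u * (a * (x * b)) := by rw [ea]; group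
          _ = u * ((a : G) * u) * (b * x) := by rw [eb]; group
          _ = _ := by rw [← huc a a.2, ← mul_assoc u u, huu, one_mul, mul_assoc]
  have hsum : ∀ q, θ (θ q) ∈ Rq ↔ (q ∈ Rq ↔ θ q ∈ Rq) := by
    intro q
    induction q using QuotientGroup.induction_on with
    | _ a =>
      rw [hθmk, hθmk, hRq, hRq, hRq]
      obtain ⟨r, hr⟩ : ∃ r, r = v * (v * (a : G) * v⁻¹) * v⁻¹ := ⟨_, rfl⟩
      have hrP : r ∈ (P : Subgroup G) := hr ▸ hvS _ (hvS a a.2)
      -- pull back to `r`
      have ea : (a : G) = v * r * v⁻¹ := by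
        rw [hr, show v * (v * (v * (a : G) * v⁻¹) * v⁻¹) * v⁻¹ = (v * v * v) * a * (v * v * v)⁻¹ by group,
          h.six.vvv, one_mul, inv_one, mul_one]
      have eb : v * (a : G) * v⁻¹ = v⁻¹ * r * v := by rw [hr]; group
      show v * (v * (a : G) * v⁻¹) * v⁻¹ ∈ R ↔ ((a : G) ∈ R ↔ v * (a : G) * v⁻¹ ∈ R)
      rw [← hr]
      rw [eb, hvR hrP, hsplit2 _ hrP]
      have hra : (a : G) ∈ R ↔ r * z = z * r := by
        rw [hsplit2 _ a.2, ea, hz, hy]
        constructor
        · intro e1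
          calc r * (v * (v * x * v⁻¹) * v⁻¹) = v⁻¹ * ((v * r * v⁻¹) * ((v * v * v) * x * (v * v * v)⁻¹)) * v := by group
            _ = v⁻¹ * (((v * v * v) * x * (v * v * v)⁻¹) * (v * r * v⁻¹)) * v := by
              rw [h.six.vvv, one_mul, inv_one, mul_one, e1]
            _ = _ := by group
        · intro e1
          calc v * r * v⁻¹ * x = v * r * v⁻¹ * ((v * v * v) * x * (v * v * v)⁻¹) := by
                rw [h.six.vvv, one_mul, inv_one, mul_one]
            _ = v * (r * (v * (v * x * v⁻¹) * v⁻¹)) * v⁻¹ := by group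
            _ = v * ((v * (v * x * v⁻¹) * v⁻¹) * r) * v⁻¹ := by rw [e1]
            _ = (v * v * v) * x * (v * v * v)⁻¹ * (v * r * v⁻¹) := by group
            _ = _ := by rw [h.six.vvv, one_mul, inv_one, mul_one]
      rw [hra]
      have hru : Commute r u := (huc r hrP).symm
      have hzxy : r * z = z * r ↔ r * (x * y) = x * y * r := by
        rcases hxyz with e1 | e1 <;> rw [e1]
        show Commute r (u * (x * y)) ↔ Commute r (x * y)
        refine ⟨fun hh => ?_, fun hh => hru.mul_right hh⟩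
        have h10 := hru.mul_right hh
        rwa [← mul_assoc u u, huu, one_mul] at h10
      rw [hzxy]
      -- the three commutator conditions
      have hyr : r * y = y * r ∨ r * y = u * (y * r) := by
        rcases hxc _ (hθs hrP) with e1 | e1
        · left
          calc r * y = v * ((v⁻¹ * r * v) * x) * v⁻¹ := by rw [hy]; group
            _ = _ := by rw [← e1, hy]; group
        · right
          have e1' : v⁻¹ * r * v * x = u * (x * (v⁻¹ * r * v)) := by
            rw [e1, ← mul_assoc, huu, one_mul]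
          calc r * y = v * ((v⁻¹ * r * v) * x) * v⁻¹ := by rw [hy]; group
            _ = (v * u * v⁻¹) * (y * r) := by rw [e1', hy]; group
            _ = _ := by rw [hvu]
      have hxr : r * x = x * r ∨ r * x = u * (x * r) := by
        rcases hxc r hrP with e1 | e1
        · exact Or.inl e1.symm
        · exact Or.inr (by rw [e1, ← mul_assoc, huu, one_mul])
      have hne : ∀ g : G, g ≠ u * g := fun g e1 => h.six.u_ne (mul_eq_right.1 e1.symm)
      constructor
      · intro hx'
        rw [← mul_assoc r x y, hx', mul_assoc, mul_assoc, mul_right_inj]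
      · intro hh
        rcases hxr with e1 | e1
        · exact e1
        exfalso
        rcases hyr with e2 | e2
        · have := hh.2 e2
          rw [← mul_assoc r x y, e1, mul_assoc u, mul_assoc x, e2, ← mul_assoc x y] at this
          exact hne _ this.symm
        · have e3 : r * (x * y) = x * y * r := by
            rw [← mul_assoc r x y, e1, mul_assoc u, mul_assoc x, e2, ← mul_assoc x u, ← huc x hx,
              show u * (u * x * (y * r)) = (u * u) * (x * y * r) by group, huu, one_mul]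
          exact hne _ ((hh.1 e3).symm.trans e2)
  set fP : (P : Subgroup G) := ⟨v⁻¹ * f * v, hθs hfR.1⟩ with hfP
  have hθf : θ (fP : (P : Subgroup G) ⧸ Z) ∈ Rq := by
    rw [hθmk, hRq]
    show v * (v⁻¹ * f * v) * v⁻¹ ∈ R
    rw [show v * (v⁻¹ * f * v) * v⁻¹ = f by group]; exact hfR
  have hfn : (fP : (P : Subgroup G) ⧸ Z) ∉ Rq := by
    rw [hRq]; exact fun hh => hfy ((hvR hfR.1).1 hh)
  have hθθf : θ (θ (fP : (P : Subgroup G) ⧸ Z)) ∉ Rq := fun hh => hfn (((hsum _).1 hh).2 hθf)
  have hcomm := comm_of_swap θ h3 hnorm hfpf hcl Rq hidx _ (fun e1 => by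
      rcases (hZmem _).1 ((QuotientGroup.eq_one_iff xP).1 e1) with e2 | e2
      · exact ne_one_of_order hxo (by norm_num) e2
      · exact hxu e2)
    (by rw [← QuotientGroup.mk_mul, QuotientGroup.eq_one_iff, hZmem]; exact Or.inl hxx)
    hxq hRc' hsum hθf hθθf
  -- but some commutator of `R` is `x`
  obtain ⟨a, b, ha, hb, hab⟩ : ∃ a b : G, a ∈ R ∧ b ∈ R ∧ a * b ≠ b * a := ⟨f, y, hfR, hyR, hfy⟩
  have haP := ha.1
  have hbP := hb.1
  have h11 : ∀ a b : G, a ∈ (P : Subgroup G) → b ∈ (P : Subgroup G) → ⁅a, b⁆ = 1 ∨ ⁅a, b⁆ = u := by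
    intro a b ha hb
    have := hcomm ((⟨a, ha⟩ : (P : Subgroup G)) : _ ⧸ Z) ((⟨b, hb⟩ : (P : Subgroup G)) : _ ⧸ Z)
    rw [← commutatorElement_eq_one_iff_mul_comm, ← QuotientGroup.mk'_apply, ← QuotientGroup.mk'_apply,
      ← map_commutatorElement, QuotientGroup.mk'_apply, QuotientGroup.eq_one_iff, hZmem] at this
    rwa [show ((⁅(⟨a, ha⟩ : (P : Subgroup G)), ⟨b, hb⟩⁆ : (P : Subgroup G)) : G) = ⁅a, b⁆ from
      map_commutatorElement (P : Subgroup G).subtype _ _] at this
  rcases h11 a b haP hbP with e1 | e1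
  · exact hab (commutatorElement_eq_one_iff_mul_comm.1 e1)
  · have ha' := (hs2.e'_norm a ha).1
    have hb' := (hs2.e'_norm b hb).1
    have h12 : ⁅e' * a * e'⁻¹, e' * b * e'⁻¹⁆ = u * x := by
      rw [← conjugate_commutatorElement, e1, hs2.e'_u]
    rcases h11 _ _ ha'.1 hb'.1 with e2 | e2 <;> rw [e2] at h12
    · exact hxu ((eq_inv_of_mul_eq_one_right h12.symm).trans (inv_eq_self hu))
    · exact ne_one_of_order hxo (by norm_num) (mul_eq_left.1 h12.symm)

end CfsgLib.Recog.OrderSix
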