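import Mathlib.Data.Int.Basic
import Mathlib.Algebra.Order.BigOperators.Ring.Finset
import Mathlib.Data.Rat.Defs
import Mathlib.Data.Fintype.Card
import Mathlib.Tactic.Linarith
import Mathlib.Tactic.Ring
import Mathlib.Tactic.LinearCombination
import Mathlib.Tactic.FieldSimp
import Mathlib.Tactic.IntervalCases

/-!
# The arithmetic of six columns at an element of order six
-/

set_option autoImplicit false

namespace CfsgLib.Recog.OrderSix

open Finset

variable {ι : Type*} [Fintype ι] [DecidableEq ι]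

/-- The signed degrees `X, Y, Z` with values `1, -1, -1`. -/
theorem eight_no_first {X Y Z : ℤ} (hX : 2 ≤ |X|) (hY : 2 ≤ |Y|) (hZ : 2 ≤ |Z|) (h1 : 1 + X + Y + Z = 0)
    (h2 : X * Y * Z + Y * Z + X * Z + X * Y = 0) : False := by
  have h : (1 + X) * ((1 + Y) * (1 + Z)) = 0 := by linear_combination h1 + h2
  rcases mul_eq_zero.1 h with h | h
  · rw [show X = -1 by omega] at hX; norm_num at hX
  · rcases mul_eq_zero.1 h with h | h
    · rw [show Y = -1 by omega] at hY; norm_num at hY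
    · rw [show Z = -1 by omega] at hZ; norm_num at hZ

/-- The signed degrees `X, Y, Z` with values `-2, 2, -1`. -/
theorem eight_no_second {X Y Z : ℤ} (hX : 2 ≤ |X|) (hY : 2 ≤ |Y|) (hZ : 2 ≤ |Z|) (h1 : 1 + X + Y + Z = 0)
    (h2 : X * Y * Z + 4 * Y * Z + 4 * X * Z + X * Y = 0) (cX : 8 ∣ X - 14) (cY : 8 ∣ Y + 14)
    (sY : Y < 0 → Y + 14 ≤ 0) : False := by
  have hZ1 : Z + 1 ≠ 0 := fun e => by rw [show Z = -1 by omega] at hZ; norm_num at hZ
  have h : (Z + 1) * (X * Y - 4 * Z) = 0 := by linear_combination h2 - 4 * Z * h1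
  have hXY : X * Y = 4 * Z := by have := (mul_eq_zero.1 h).resolve_left hZ1; omega
  have h12 : (X + 4) * (Y + 4) = 12 := by linear_combination hXY + 4 * h1
  have hd : X + 4 ∣ 12 := ⟨_, h12.symm⟩
  have hle : X + 4 ≤ 12 := Int.le_of_dvd (by norm_num) hd
  have hge : -(X + 4) ≤ 12 := Int.le_of_dvd (by norm_num) (neg_dvd.2 hd)
  obtain ⟨c, hc⟩ := cX
  have hX' : X = -10 ∨ X = -2 ∨ X = 6 := by omega
  rcases hX' with rfl | rfl | rfl
  · have : Y = -6 := by omega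
    subst this
    have := sY (by norm_num)
    omega
  · have : Y = 2 := by omega
    subst this
    rw [show Z = -1 by omega] at hZ; norm_num at hZ
  · omega

theorem eight_support (one : ι) (d : ι → ℤ) (h1 : d one = 1) (hnorm : ∑ i, d i ^ 2 = 4) :
    (∀ i, d i ≠ 0 → d i ^ 2 = 1) ∧ #((univ.erase one).filter fun i => d i ≠ 0) = 3 := by
  set s := (univ.erase one).filter fun i => d i ≠ 0 with hs
  have h3 : ∑ i ∈ s, d i ^ 2 = 3 := by
    have h := Finset.add_sum_erase univ (fun i => d i ^ 2) (mem_univ one)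
    rw [hs, Finset.sum_filter_of_ne (p := fun i => d i ≠ 0) (fun i _ hi h0 => hi (by rw [h0]; norm_num))]
    simp only [h1, hnorm] at h
    omega
  have hsq : ∀ i ∈ s, d i ^ 2 = 1 := by
    intro i hi
    have hle : d i ^ 2 ≤ 3 := h3 ▸ Finset.single_le_sum (fun j _ => sq_nonneg (d j)) hi
    have hne : d i ≠ 0 := (Finset.mem_filter.1 hi).2
    have : d i ≤ 1 := by nlinarith
    have : -1 ≤ d i := by nlinarith
    rcases (by omega : d i = 1 ∨ d i = -1) with e | e <;> rw [e] <;> norm_num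
  refine ⟨fun i hi => ?_, ?_⟩
  · by_cases e : i = one
    · rw [e, h1]; norm_num
    · exact hsq i (Finset.mem_filter.2 ⟨Finset.mem_erase.2 ⟨e, mem_univ i⟩, hi⟩)
  · rw [Finset.sum_congr rfl hsq, Finset.sum_const, nsmul_eq_mul, mul_one] at h3
    exact_mod_cast h3

/-- The signed degrees of a proper part do not sum to zero. -/
theorem eight_no_part (one : ι) (d D : ι → ℤ) (h1 : d one = 1) (hD1 : D one = 1)
    (hnorm : ∑ i, d i ^ 2 = 4) (hdeg : ∑ i, d i * D i = 0)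
    (hD : ∀ i, i ≠ one → d i ≠ 0 → 2 ≤ D i) (B : Finset ι) (hB : one ∉ B)
    (hsum : ∑ i ∈ B, d i * D i = 0) : ∀ i ∈ B, d i = 0 := by
  obtain ⟨hsq, hcard⟩ := eight_support one d h1 hnorm
  set s := (univ.erase one).filter fun i => d i ≠ 0 with hs
  by_contra! hne
  obtain ⟨i₀, hi₀, hd₀⟩ := hne
  set T := s ∩ B with hT
  have hTsum : ∑ i ∈ T, d i * D i = 0 := by
    rw [← hsum]
    refine Finset.sum_subset Finset.inter_subset_right fun i hi hiT => ?_
    by_contra h0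
    refine hiT (Finset.mem_inter.2 ⟨Finset.mem_filter.2 ⟨Finset.mem_erase.2 ⟨fun e => hB (e ▸ hi), mem_univ i⟩,
      fun e => h0 (by rw [e, zero_mul])⟩, hi⟩)
  have hssum : ∑ i ∈ s, d i * D i = -1 := by
    have h := Finset.add_sum_erase univ (fun i => d i * D i) (mem_univ one)
    rw [hs, Finset.sum_filter_of_ne (p := fun i => d i ≠ 0) (fun i _ hi h0 => hi (by rw [h0, zero_mul]))]
    simp only [h1, hD1, hdeg] at h
    omega
  have hrest : ∑ i ∈ s \ T, d i * D i = -1 := by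
    have hTs : T ⊆ s := Finset.inter_subset_left
    have h : ∑ i ∈ s \ T, d i * D i + ∑ i ∈ T, d i * D i = ∑ i ∈ s, d i * D i := Finset.sum_sdiff hTs
    omega
  have habs : ∀ i ∈ s, d i * D i ≤ -2 ∨ 2 ≤ d i * D i := by
    intro i hi
    obtain ⟨hi1, hi2⟩ := Finset.mem_filter.1 hi
    have := hD i (Finset.mem_erase.1 hi1).1 hi2
    rcases sq_eq_one_iff.1 (hsq i hi2) with e | e <;> rw [e] <;> omega
  have hone : ∀ A : Finset ι, A ⊆ s → #A = 1 → ∑ i ∈ A, d i * D i ≠ 0 ∧ ∑ i ∈ A, d i * D i ≠ -1 := by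
    intro A hA h
    obtain ⟨a, rfl⟩ := Finset.card_eq_one.1 h
    rw [Finset.sum_singleton]
    have := habs a (hA (Finset.mem_singleton_self a))
    omega
  have hTne : T.Nonempty := ⟨i₀, Finset.mem_inter.2 ⟨Finset.mem_filter.2
    ⟨Finset.mem_erase.2 ⟨fun e => hB (e ▸ hi₀), mem_univ _⟩, hd₀⟩, hi₀⟩⟩
  have hTs : T ⊆ s := Finset.inter_subset_left
  have hc := Finset.card_sdiff_add_card_eq_card hTs
  have hT1 := Finset.card_pos.2 hTne
  rcases (by omega : #T = 1 ∨ #(s \ T) = 1 ∨ #(s \ T) = 0) with h | h | h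
  · exact (hone T Finset.inter_subset_left h).1 hTsum
  · exact (hone _ Finset.sdiff_subset h).2 hrest
  · rw [Finset.card_eq_zero.1 h, Finset.sum_empty] at hrest
    omega

/-- The final count. -/
theorem eight_no_columns (one : ι) (σ : ι → ι) (hσ : ∀ i, σ (σ i) = i) (hσ1 : σ one = one)
    (d k D a : ι → ℤ) (h1 : d one = 1) (hk1 : k one = 1) (hD1 : D one = 1) (ha1 : a one = 1)
    (hD : ∀ i, i ≠ one → d i ≠ 0 → 2 ≤ D i)
    (hnorm : ∑ i, d i ^ 2 = 4) (hmix : ∑ i, d i * d (σ i) = 2) (hdeg : ∑ i, d i * D i = 0)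
    (hk : ∑ i, k i ^ 2 = 4) (hdk : ∑ i, d i * k i = 2) (hkσ : ∀ i, k (σ i) = k i)
    (ha : ∀ i, d i ≠ 0 → a i = 3 * k i - d i - d (σ i))
    (hq : ∑ i, (d i : ℚ) * (a i : ℚ) ^ 2 / (D i : ℚ) = 0)
    (hcong : ∀ i, d i ≠ 0 → ∃ c : ℕ, D i + 7 * a i = 8 * (c : ℤ)) : False := by
  obtain ⟨hsq, hcard⟩ := eight_support one d h1 hnorm
  set s := (univ.erase one).filter fun i => d i ≠ 0 with hs
  have hsplit : ∀ (f : ι → ℤ), (∀ i, d i = 0 → f i = 0) → ∑ i, f i = f one + ∑ i ∈ s, f i := by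
    intro f hf
    rw [hs, Finset.sum_filter_of_ne (p := fun i => d i ≠ 0) (fun i _ hi h0 => hi (hf i h0)),
      Finset.add_sum_erase univ f (mem_univ one)]
  have hms : ∀ i, i ∈ s ↔ i ≠ one ∧ d i ≠ 0 := fun i => by simp [hs]
  have hinj : Function.Injective σ := Function.Involutive.injective hσ
  -- exactly one of the three is real
  have hmix' : ∑ i ∈ s, d i * d (σ i) = 1 := by
    have := hsplit (fun i => d i * d (σ i)) (fun i h0 => by rw [h0, zero_mul])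
    rw [hmix, hσ1, h1] at this
    omega
  have hreal : ∀ i ∈ s, d (σ i) ≠ 0 → σ i = i := by
    intro i hi hne
    by_contra hfix
    have hi' : σ i ∈ s := (hms _).2 ⟨fun e => ((hms i).1 hi).1 (hinj (e.trans hσ1.symm)), hne⟩
    have hc2 : #((s.erase i).erase (σ i)) = 1 := by
      rw [Finset.card_erase_of_mem (Finset.mem_erase.2 ⟨hfix, hi'⟩), Finset.card_erase_of_mem hi, hcard]
    obtain ⟨w, hw⟩ := Finset.card_eq_one.1 hc2
    have hwm : w ∈ (s.erase i).erase (σ i) := hw ▸ Finset.mem_singleton_self w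
    simp only [Finset.mem_erase] at hwm
    rw [← Finset.add_sum_erase s _ hi, ← Finset.add_sum_erase _ _ (Finset.mem_erase.2 ⟨hfix, hi'⟩), hw,
      Finset.sum_singleton, hσ i, mul_comm (d (σ i))] at hmix'
    have hw2 : d w * d (σ w) = 1 ∨ d w * d (σ w) = 0 := by
      by_cases h0 : d (σ w) = 0
      · exact Or.inr (by rw [h0, mul_zero])
      · left
        have hw' : σ w ∈ s := (hms _).2 ⟨fun e => ((hms w).1 hwm.2.2).1 (hinj (e.trans hσ1.symm)), h0⟩
        have : σ w = w := by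
          by_cases e1 : σ w = i
          · exact absurd (by rw [← e1, hσ]) hwm.1
          by_cases e2 : σ w = σ i
          · exact absurd (hinj e2) hwm.2.1
          have : σ w ∈ ({w} : Finset ι) := hw ▸ Finset.mem_erase.2 ⟨e2, Finset.mem_erase.2 ⟨e1, hw'⟩⟩
          exact Finset.mem_singleton.1 this
        rw [this, ← pow_two, hsq w ((hms w).1 hwm.2.2).2]
    rcases sq_eq_one_iff.1 (hsq i ((hms i).1 hi).2) with e | e <;>
      rcases sq_eq_one_iff.1 (hsq _ hne) with e' | e' <;> rw [e, e'] at hmix' <;> omega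
  have hval : ∀ i ∈ s, d i * d (σ i) = 0 ∨ (d i * d (σ i) = 1 ∧ σ i = i) := by
    intro i hi
    by_cases h0 : d (σ i) = 0
    · exact Or.inl (by rw [h0, mul_zero])
    · exact Or.inr ⟨by rw [hreal i hi h0, ← pow_two, hsq i ((hms i).1 hi).2], hreal i hi h0⟩
  obtain ⟨x, hx, hxne⟩ : ∃ x ∈ s, d x * d (σ x) ≠ 0 := by
    by_contra! h0
    rw [Finset.sum_eq_zero h0] at hmix'
    omega
  obtain ⟨hxe, hxσ⟩ := (hval x hx).resolve_left hxne
  have hc2 : #(s.erase x) = 2 := by rw [Finset.card_erase_of_mem hx, hcard]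
  obtain ⟨y, z, hyz, hyze⟩ := Finset.card_eq_two.1 hc2
  have hy : y ∈ s ∧ y ≠ x := by
    have : y ∈ s.erase x := hyze ▸ Finset.mem_insert_self y {z}
    exact ⟨(Finset.mem_erase.1 this).2, (Finset.mem_erase.1 this).1⟩
  have hz : z ∈ s ∧ z ≠ x := by
    have : z ∈ s.erase x := hyze ▸ Finset.mem_insert_of_mem (Finset.mem_singleton_self z)
    exact ⟨(Finset.mem_erase.1 this).2, (Finset.mem_erase.1 this).1⟩
  have hsum3 : ∀ f : ι → ℤ, ∑ i ∈ s, f i = f x + f y + f z := fun f => by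
    rw [← Finset.add_sum_erase s f hx, hyze, Finset.sum_pair hyz, add_assoc]
  have hey : d y * d (σ y) = 0 ∧ d z * d (σ z) = 0 := by
    have h := hsum3 fun i => d i * d (σ i)
    rw [hmix', hxe] at h
    rcases hval y hy.1 with e | e <;> rcases hval z hz.1 with e' | e' <;> omega
  have hdy : d (σ y) = 0 := (mul_eq_zero.1 hey.1).resolve_left ((hms y).1 hy.1).2
  have hdz : d (σ z) = 0 := (mul_eq_zero.1 hey.2).resolve_left ((hms z).1 hz.1).2
  -- Bessel
  have hbes : k x ^ 2 + 2 * k y ^ 2 + 2 * k z ^ 2 ≤ 3 := by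
    have hne : ∀ i, d i ≠ 0 → σ y ≠ i ∧ σ z ≠ i := fun i hi => ⟨fun e => hi (e ▸ hdy), fun e => hi (e ▸ hdz)⟩
    obtain ⟨h1y, h1z⟩ := hne one (by rw [h1]; norm_num)
    obtain ⟨hxy, hxz⟩ := hne x ((hms x).1 hx).2
    obtain ⟨hyy, hyz'⟩ := hne y ((hms y).1 hy.1).2
    obtain ⟨hzy, hzz⟩ := hne z ((hms z).1 hz.1).2
    have hyzσ : σ y ≠ σ z := fun e => hyz (hinj e)
    have h := Finset.sum_le_sum_of_subset_of_nonneg (f := fun i => k i ^ 2)
      (Finset.subset_univ ({one, x, y, z, σ y, σ z} : Finset ι)) fun i _ _ => sq_nonneg (k i)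
    rw [hk] at h
    rw [Finset.sum_insert (by simp [((hms x).1 hx).1.symm, ((hms y).1 hy.1).1.symm, ((hms z).1 hz.1).1.symm,
        h1y.symm, h1z.symm]),
      Finset.sum_insert (by simp [hy.2.symm, hz.2.symm, hxy.symm, hxz.symm]),
      Finset.sum_insert (by simp [hyz, hyy.symm, hyz'.symm]),
      Finset.sum_insert (by simp [hzy.symm, hzz.symm]),
      Finset.sum_insert (by simp [hyzσ]), Finset.sum_singleton, hkσ, hkσ, hk1] at h
    linarith
  have hks : k x * d x + k y * d y + k z * d z = 1 := by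
    have h := hsplit (fun i => d i * k i) (fun i h0 => by rw [h0, zero_mul])
    rw [hdk, h1, hk1, hsum3] at h
    linarith
  have hsx := hsq x ((hms x).1 hx).2
  have hsy := hsq y ((hms y).1 hy.1).2
  have hsz := hsq z ((hms z).1 hz.1).2
  obtain ⟨P, hP⟩ : ∃ P, P = k x * d x := ⟨_, rfl⟩
  obtain ⟨R, hR⟩ : ∃ R, R = k y * d y := ⟨_, rfl⟩
  obtain ⟨T, hT⟩ : ∃ T, T = k z * d z := ⟨_, rfl⟩
  rw [← hP, ← hR, ← hT] at hks
  have hPRT : P ^ 2 + 2 * R ^ 2 + 2 * T ^ 2 ≤ 3 := by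
    rw [hP, hR, hT, mul_pow, mul_pow, mul_pow, hsx, hsy, hsz]
    linarith
  have hax : d x * a x = 3 * P - 2 := by
    rw [ha x ((hms x).1 hx).2, hxσ, hP]; linear_combination -2 * hsx
  have hay : d y * a y = 3 * R - 1 := by
    rw [ha y ((hms y).1 hy.1).2, hdy, hR]; linear_combination -hsy
  have haz : d z * a z = 3 * T - 1 := by
    rw [ha z ((hms z).1 hz.1).2, hdz, hT]; linear_combination -hsz
  -- signed degrees
  have hdat : ∀ i ∈ s, ∃ X A : ℤ, X = d i * D i ∧ A = d i * a i ∧ 2 ≤ |X| ∧ 8 ∣ X + 7 * A ∧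
      (0 < X → 0 ≤ X + 7 * A) ∧ (X < 0 → X + 7 * A ≤ 0) ∧
      (d i : ℚ) * (a i : ℚ) ^ 2 / (D i : ℚ) = (A : ℚ) ^ 2 / (X : ℚ) := by
    intro i hi
    obtain ⟨hi1, hi2⟩ := (hms i).1 hi
    refine ⟨_, _, rfl, rfl, ?_⟩
    have hDi := hD i hi1 hi2
    obtain ⟨c, hc⟩ := hcong i hi2
    rcases sq_eq_one_iff.1 (hsq i hi2) with e | e <;> rw [e]
    · refine ⟨by rw [one_mul, abs_of_nonneg (by omega)]; omega, ⟨c, by omega⟩, fun _ => by omega,
        fun h' => by omega, by simp⟩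
    · refine ⟨by rw [neg_one_mul, abs_neg, abs_of_nonneg (by omega)]; omega, ⟨-c, by omega⟩,
        fun h' => by omega, fun _ => by omega, by simp [div_neg, neg_div]⟩
  obtain ⟨X, A, hX, hA, hX2, hX8, hXp, hXn, hXq⟩ := hdat x hx
  obtain ⟨Y, B, hY, hB, hY2, hY8, hYp, hYn, hYq⟩ := hdat y hy.1
  obtain ⟨Z, E, hZ, hE, hZ2, hZ8, hZp, hZn, hZq⟩ := hdat z hz.1
  rw [hax] at hA
  rw [hay] at hB
  rw [haz] at hE
  have e1 : 1 + X + Y + Z = 0 := by
    have h := hsplit (fun i => d i * D i) (fun i h0 => by rw [h0, zero_mul])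
    rw [hdeg, h1, hD1, hsum3, ← hX, ← hY, ← hZ] at h
    linarith
  have e3 : X * Y * Z + A ^ 2 * (Y * Z) + B ^ 2 * (X * Z) + E ^ 2 * (X * Y) = 0 := by
    have hs3 : ∑ i ∈ univ.erase one, (d i : ℚ) * (a i : ℚ) ^ 2 / (D i : ℚ) =
        (A : ℚ) ^ 2 / (X : ℚ) + ((B : ℚ) ^ 2 / (Y : ℚ) + (E : ℚ) ^ 2 / (Z : ℚ)) := by
      rw [← Finset.sum_filter_of_ne (p := fun i => d i ≠ 0) (fun i _ hi h0 => hi (by rw [h0]; simp)), ← hs,
        ← Finset.add_sum_erase s _ hx, hyze, Finset.sum_pair hyz, hXq, hYq, hZq]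
    rw [← Finset.add_sum_erase univ _ (mem_univ one), hs3, h1, hD1, ha1] at hq
    have hX0 : (X : ℚ) ≠ 0 := Int.cast_ne_zero.2 fun e => by rw [e] at hX2; norm_num at hX2
    have hY0 : (Y : ℚ) ≠ 0 := Int.cast_ne_zero.2 fun e => by rw [e] at hY2; norm_num at hY2
    have hZ0 : (Z : ℚ) ≠ 0 := Int.cast_ne_zero.2 fun e => by rw [e] at hZ2; norm_num at hZ2
    field_simp at hq
    have hq' : ((X * Y * Z + A ^ 2 * (Y * Z) + B ^ 2 * (X * Z) + E ^ 2 * (X * Y) : ℤ) : ℚ) = 0 := by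
      push_cast at hq ⊢
      linear_combination hq
    exact_mod_cast hq'
  have hPb : -1 ≤ P ∧ P ≤ 1 := ⟨by nlinarith, by nlinarith⟩
  have hRb : -1 ≤ R ∧ R ≤ 1 := ⟨by nlinarith, by nlinarith⟩
  have hTb : -1 ≤ T ∧ T ≤ 1 := ⟨by nlinarith, by nlinarith⟩
  have hcases : (P = 1 ∧ R = 0 ∧ T = 0) ∨ (P = 0 ∧ R = 1 ∧ T = 0) ∨ (P = 0 ∧ R = 0 ∧ T = 1) := by
    obtain ⟨p1, p2⟩ := hPb
    obtain ⟨r1, r2⟩ := hRb
    obtain ⟨t1, t2⟩ := hTb
    interval_cases P <;> interval_cases R <;> interval_cases T <;>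
      first
        | omega
        | norm_num at hPRT
  rcases hcases with ⟨rfl, rfl, rfl⟩ | ⟨rfl, rfl, rfl⟩ | ⟨rfl, rfl, rfl⟩ <;> norm_num at hA hB hE <;>
    subst hA hB hE
  · exact eight_no_first hX2 hY2 hZ2 e1 (by linear_combination e3)
  · exact eight_no_second hX2 hY2 hZ2 e1 (by linear_combination e3) (by obtain ⟨c, hc⟩ := hX8; exact ⟨c, by omega⟩)
      (by obtain ⟨c, hc⟩ := hY8; exact ⟨c, by omega⟩) (fun h => by have := hYn h; omega)
  · exact eight_no_second hX2 hZ2 hY2 (by linarith) (by linear_combination e3) (by obtain ⟨c, hc⟩ := hX8; exact ⟨c, by omega⟩)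
      (by obtain ⟨c, hc⟩ := hZ8; exact ⟨c, by omega⟩) (fun h => by have := hZn h; omega)

end CfsgLib.Recog.OrderSix
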