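import Cfsg.Agent.Lib.Recog.OrderSix.EightInduced
import Cfsg.Agent.Lib.Recog.OrderSix.EightData
import Cfsg.Agent.Lib.Invol.PrincipalBlock
import Cfsg.Agent.Lib.Block.InvolutionColumn
import Cfsg.Agent.Lib.Char.CliffordOdd
import Cfsg.Agent.Lib.Char.ExtendChar
import Cfsg.Agent.Lib.Block.Local

/-!
# An elementary abelian Sylow subgroup of order eight with soluble centralizer
-/

set_option autoImplicit false
set_option linter.unusedSectionVars false
set_option linter.style.haveILetI false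
set_option maxHeartbeats 800000

open Cfsg
open scoped ComplexConjugate

namespace CfsgLib.Recog.OrderSix

open Subgroup CfsgLib.Char CfsgLib.Block

universe u

variable {G : Type u} [Group G] {u v : G}

/-- In a non-abelian simple group the only linear character is trivial. -/
theorem eq_one_of_linear [Fintype G] [IsSimpleGroup G] (hG : ¬ IsMulCommutative G) (χ : IrrCharacter G)
    (h1 : (χ : G → ℂ) 1 = 1) : χ = oneChar G := by
  obtain ⟨f, hf⟩ := exists_hom_of_linear (isCharacter_irr χ) h1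
  rcases (MonoidHom.normal_ker f).eq_bot_or_eq_top with hb | ht
  · refine absurd ⟨⟨fun a b => (MonoidHom.ker_eq_bot_iff f).1 hb ?_⟩⟩ hG
    rw [map_mul, map_mul, mul_comm]
  · refine Subtype.ext (funext fun x => ?_)
    rw [hf]
    show ((f x : ℂˣ) : ℂ) = 1
    rw [MonoidHom.mem_ker.1 (ht ▸ mem_top x), Units.val_one]

/-- An involution centralizer `(E₈ × O) ⋊ ⟨v⟩` does not occur. -/
theorem eight_case [Finite G] [IsSimpleGroup G] (hG : ¬ IsMulCommutative G) (h : Six u v) (Q O : Subgroup G)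
    (hQ : Nat.card Q = 8) (hQe : ∀ q ∈ Q, q * q = 1) (huQ : u ∈ Q)
    (hQC : Q ≤ centralizer ({u} : Set G)) (hOC : O ≤ centralizer ({u} : Set G)) (hO : Odd (Nat.card O))
    (hQn : centralizer ({u} : Set G) ≤ normalizer (Q : Set G))
    (hOn : centralizer ({u} : Set G) ≤ normalizer (O : Set G))
    (hcomm : ∀ o ∈ O, ∀ q ∈ Q, o * q = q * o)
    (hcard : Nat.card (centralizer ({u} : Set G)) = 3 * (8 * Nat.card O)) : False := by
  classical
  have E : Eight u v Q O := ⟨h, hQ, hQe, huQ, hQC, hOC, hO, hQn, hOn, hcomm, hcard⟩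
  letI := Fintype.ofFinite G
  letI := Fintype.ofFinite (IrrCharacter G)
  letI := Fintype.ofFinite O
  letI := Fintype.ofFinite E.uvo
  letI := Fintype.ofFinite (zpowers (u * v))
  letI := Fintype.ofFinite (centralizer ({u} : Set G))
  haveI : Fact (Nat.Prime 2) := ⟨Nat.prime_two⟩
  obtain ⟨w, hw, hwc, hwi⟩ := exists_omega
  set t := u * v with ht
  have hcw : conj (w ^ 2) = w := by rw [← hwc, Complex.conj_conj]
  set T := zpowers t
  set F := indFun T (tFun t w) with hF
  set H := indFun E.uvo E.uFun with hH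
  obtain ⟨d, hd, hFe, hFn⟩ := generalized_expand (isGeneralizedCharacter_indFun T (E.gen_tFun hw))
  obtain ⟨k, hk, hHe, hHn⟩ := generalized_expand (isGeneralizedCharacter_indFun E.uvo E.gen_uFun)
  rw [← hF] at hd hFe hFn
  rw [← hH] at hk hHe hHn
  -- conjugate characters
  let σ : IrrCharacter G → IrrCharacter G := fun χ =>
    ⟨fun x => conj ((χ : G → ℂ) x), isIrrCharacter_conj χ.2⟩
  have hσ : ∀ χ, σ (σ χ) = χ := fun χ => Subtype.ext (funext fun x => Complex.conj_conj _)
  have hσ1 : σ (oneChar G) = oneChar G := Subtype.ext (funext fun x => map_one _)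
  have hσv : ∀ χ x, (σ χ : G → ℂ) x = conj ((χ : G → ℂ) x) := fun χ x => rfl
  -- coefficients at `uv`
  have hd3 : ∀ χ : IrrCharacter G, 3 * (d χ : ℂ) =
      (1 - w) * conj ((χ : G → ℂ) t) + (1 - w ^ 2) * (χ : G → ℂ) t := by
    intro χ
    have h1 : classInner (tFun t w) (fun x : T => (χ : G → ℂ) x) = d χ := by
      rw [← classInner_indFun _ _ _ (isClassFunction_irr χ), ← hd]
    rw [classInner, E.sum_tFun w fun x => conj ((χ : G → ℂ) x), Nat.card_zpowers, E.orderOf_t,
      irr_inv, Complex.conj_conj] at h1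
    rw [← h1]; push_cast; ring
  have hzd : ∀ χ : IrrCharacter G, (χ : G → ℂ) t = -w * (d χ : ℂ) - w ^ 2 * (d (σ χ) : ℂ) := by
    intro χ
    have e1 := hd3 χ
    have e2 := hd3 (σ χ)
    rw [hσv, Complex.conj_conj] at e2
    linear_combination (1 / 3 : ℂ) * w * e1 + (1 / 3 : ℂ) * w ^ 2 * e2 +
      ((((χ : G → ℂ) t) * (3 - 2 * w) - conj ((χ : G → ℂ) t) * (w * (w - 1))) / 3) * hw
  have hzd' : ∀ χ : IrrCharacter G,
      conj ((χ : G → ℂ) t) = -w ^ 2 * (d χ : ℂ) - w * (d (σ χ) : ℂ) := by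
    intro χ
    rw [hzd χ, map_sub, map_mul, map_mul, map_neg, hwc, hcw, map_intCast, map_intCast]
  have hone : d (oneChar G) = 1 := by
    have e1 := hd3 (oneChar G)
    rw [show ((oneChar G : IrrCharacter G) : G → ℂ) t = 1 from rfl, map_one] at e1
    have : (d (oneChar G) : ℂ) = ((1 : ℤ) : ℂ) := by push_cast; linear_combination e1 / 3 - hw / 3
    exact_mod_cast this
  -- real values
  have hint : ∀ χ : IrrCharacter G, ∃ a : ℤ, (χ : G → ℂ) u = a := fun χ =>
    GLThreeCent.exists_int_invol (isGeneralizedCharacter_of_isCharacter (isCharacter_irr χ)) h.uu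
  choose a ha using hint
  have hdeg : ∀ χ : IrrCharacter G, ∃ D : ℤ, 0 < D ∧ (χ : G → ℂ) 1 = D := fun χ => by
    obtain ⟨D, hD, e⟩ := isIrrCharacter_degree χ.2
    exact ⟨D, by exact_mod_cast hD, by rw [e]; push_cast; rfl⟩
  choose D hD0 hD using hdeg
  have haσ : ∀ χ, a (σ χ) = a χ := fun χ => by
    have : ((a (σ χ) : ℤ) : ℂ) = a χ := by rw [← ha, hσv, ha, map_intCast]
    exact_mod_cast this
  have hDσ : ∀ χ, D (σ χ) = D χ := fun χ => by
    have : ((D (σ χ) : ℤ) : ℂ) = D χ := by rw [← hD, hσv, hD, map_intCast]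
    exact_mod_cast this
  have hD1 : D (oneChar G) = 1 := by
    have : ((D (oneChar G) : ℤ) : ℂ) = ((1 : ℤ) : ℂ) := by rw [← hD]; simp [oneChar]
    exact_mod_cast this
  have ha1 : a (oneChar G) = 1 := by
    have : ((a (oneChar G) : ℤ) : ℂ) = ((1 : ℤ) : ℂ) := by rw [← ha]; simp [oneChar]
    exact_mod_cast this
  have hD2 : ∀ χ, χ ≠ oneChar G → d χ ≠ 0 → 2 ≤ D χ := by
    intro χ hχ _
    by_contra hlt
    have h1 := hD0 χ
    exact hχ (eq_one_of_linear hG χ (by rw [hD, show D χ = 1 by omega, Int.cast_one]))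
  -- sums over the characters
  have hsep : ∀ (s : Finset (IrrCharacter G)) (r : IrrCharacter G → ℤ),
      ∑ χ ∈ s, (r χ : ℂ) * (χ : G → ℂ) t =
        ((∑ χ ∈ s, r χ * d (σ χ) : ℤ) : ℂ) +
          ((∑ χ ∈ s, r χ * d (σ χ) : ℤ) - (∑ χ ∈ s, r χ * d χ : ℤ) : ℂ) * w := by
    intro s r
    push_cast
    rw [← Finset.sum_sub_distrib, Finset.sum_mul, ← Finset.sum_add_distrib]
    refine Finset.sum_congr rfl fun χ _ => ?_
    rw [hzd χ]
    linear_combination -(r χ : ℂ) * (d (σ χ) : ℂ) * hw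
  have hbij : Function.Bijective σ := Function.Involutive.bijective hσ
  have hreidx : ∀ r : IrrCharacter G → ℤ, (∀ χ, r (σ χ) = r χ) →
      ∑ χ, r χ * d (σ χ) = ∑ χ, r χ * d χ := fun r hr =>
    Fintype.sum_bijective σ hbij _ _ fun χ => by rw [hr]
  have hFt : F t = 2 * (1 - w) ∧ F t⁻¹ = 2 * (1 - w ^ 2) := E.indFun_t w
  have hnorm : ∑ χ, d χ ^ 2 = 4 := by
    have h1 : classInner F F = 4 := by
      rw [hF, classInner_indFun _ _ _ (isClassFunction_indFun _ _), classInner, ← hF,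
        E.sum_tFun w fun x => conj (F x), Nat.card_zpowers, E.orderOf_t, hFt.1, hFt.2, map_mul, map_mul,
        map_ofNat, map_sub, map_sub, map_one, hwc, hcw]
      push_cast
      linear_combination (4 / 3 * (w - 2) : ℂ) * hw
    rw [hFn] at h1
    exact_mod_cast h1
  have hFsum : ∀ x, F x = ∑ χ : IrrCharacter G, (d χ : ℂ) * (χ : G → ℂ) x := fun x => by
    conv_lhs => rw [hFe]
    simp [Finset.sum_apply]
  have hmix : ∑ χ, d χ * d (σ χ) = 2 := by
    have h1 := hFsum t
    rw [hFt.1, hsep, ← sub_eq_zero] at h1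
    obtain ⟨e1, -⟩ := hwi (∑ χ, d χ * d (σ χ) - 2)
      (∑ χ, d χ * d (σ χ) - (∑ χ, d χ * d χ) + 2) (by push_cast at h1 ⊢; linear_combination -h1)
    omega
  have hdD : ∑ χ, d χ * D χ = 0 := by
    have h1 := hFsum 1
    rw [hF, indFun_one] at h1
    have h0 : tFun t w 1 = 0 := by
      have ht1 : (1 : G) ≠ t := fun e => by
        have := E.orderOf_t
        rw [← ht, ← e, orderOf_one] at this
        omega
      have ht2 : (1 : G) ≠ t⁻¹ := fun e => ht1 (by rw [eq_comm, ← inv_eq_one, ← e])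
      simp [tFun, ht1, ht2]
    rw [h0, mul_zero] at h1
    have h2 : ((∑ χ, d χ * D χ : ℤ) : ℂ) = 0 := by
      push_cast
      rw [h1]
      exact Finset.sum_congr rfl fun χ _ => by rw [hD]
    exact_mod_cast h2
  -- the members lie in the principal block
  obtain ⟨M, hM⟩ := exists_pModular (p := 2) Nat.prime_two
  haveI := hM.2.1
  have hmem : ∀ χ, d χ ≠ 0 → χ ∈ principalBlock M G := by
    intro χ hχ
    by_cases hB : oneChar G ∈ blockOf M (χ : G → ℂ)
    · exact sameBlock_symm hB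
    exfalso
    have hpt : IsPPart 2 t u := ⟨v, rfl, h.huv, ⟨1, by rw [h.hu, pow_one]⟩, by rw [h.hv]; norm_num⟩
    have hp1 : IsPPart 2 (1 : G) 1 := ⟨1, mul_one _, Commute.one_right _, ⟨0, by simp⟩, by simp⟩
    have h1 := (Cfsg.Agent.S0925.result 2 M hM).2 t 1 u 1 hpt hp1
      (fun e => h.u_ne (isConj_one_left.1 e)) _ (isPBlock_blockOf χ)
    rw [inv_one, finsum_mem_eq_finite_toFinset_sum _ (Set.toFinite _)] at h1
    set B := (Set.toFinite (blockOf M (χ : G → ℂ))).toFinset with hBdef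
    have h2 := hsep B D
    rw [show ∑ η ∈ B, (D η : ℂ) * (η : G → ℂ) t = 0 by
      rw [← h1]; exact Finset.sum_congr rfl fun η _ => by rw [hD, mul_comm]] at h2
    obtain ⟨e1, e2⟩ := hwi (∑ η ∈ B, D η * d (σ η)) (∑ η ∈ B, D η * d (σ η) - ∑ η ∈ B, D η * d η) (by push_cast at h2 ⊢; exact h2.symm)
    refine hχ (eight_no_part (oneChar G) d D hone hD1 hnorm hdD hD2 B (by simpa [hBdef] using hB) ?_ χ ?_)
    · rw [Finset.sum_congr rfl fun η _ => mul_comm (d η) (D η)]
      omega
    · simpa [hBdef] using self_mem_blockOf (M := M) χ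
  -- the function from `⟨u, v⟩ O`
  have hinner : ∀ χ : IrrCharacter G, 3 * (Nat.card O : ℂ) * (k χ : ℂ) =
      (∑ o : O, conj ((χ : G → ℂ) (u * (o : G)))) +
        (Nat.card O : ℂ) * (conj ((χ : G → ℂ) t) + (χ : G → ℂ) t) := by
    intro χ
    have h1 : classInner E.uFun (fun x : E.uvo => (χ : G → ℂ) x) = k χ := by
      rw [← classInner_indFun _ _ _ (isClassFunction_irr χ), ← hk]
    rw [classInner, E.sum_uFun (fun x => conj ((χ : G → ℂ) x)) (fun x y hxy => congrArg conj
      (classFun_isConj (isClassFunction_irr χ) hxy)), E.card_uvo, irr_inv, Complex.conj_conj] at h1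
    have hne : (Nat.card O : ℂ) ≠ 0 := Nat.cast_ne_zero.2 Nat.card_pos.ne'
    rw [← h1]
    push_cast
    field_simp
    ring
  have hHu : ∀ o : O, H (u * (o : G)) = 8 := fun o => E.indFun_u o.2
  have hHt : H t = 2 := E.indFun_uv
  have hHsum : ∀ x, H x = ∑ χ : IrrCharacter G, (k χ : ℂ) * (χ : G → ℂ) x := fun x => by
    conv_lhs => rw [hHe]
    simp [Finset.sum_apply]
  have hHt' : H t⁻¹ = 2 := by
    have h1 := congrArg conj (hHsum t)
    rw [hHt, map_ofNat, map_sum] at h1
    rw [hHsum, h1]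
    exact Finset.sum_congr rfl fun χ _ => by rw [map_mul, map_intCast, irr_inv]
  have hkn : ∑ χ, k χ ^ 2 = 4 := by
    have h1 : classInner H H = 4 := by
      rw [hH, classInner_indFun _ _ _ (isClassFunction_indFun _ _), classInner, ← hH,
        E.sum_uFun (fun x => conj (H x)) (fun x y hxy => congrArg conj
          (classFun_isConj (isClassFunction_indFun _ _) hxy)), E.card_uvo, hHt, hHt',
        Finset.sum_congr rfl fun o _ => congrArg conj (hHu o), Finset.sum_const, Finset.card_univ,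
        ← Nat.card_eq_fintype_card, nsmul_eq_mul, map_ofNat, map_ofNat]
      have hne : (Nat.card O : ℂ) ≠ 0 := Nat.cast_ne_zero.2 Nat.card_pos.ne'
      push_cast
      field_simp
      ring
    rw [hHn] at h1
    exact_mod_cast h1
  have hkσ : ∀ χ, k (σ χ) = k χ := by
    intro χ
    have h1 := hinner (σ χ)
    have h2 := congrArg conj (hinner χ)
    simp only [hσv, Complex.conj_conj] at h1
    simp only [map_mul, map_add, map_sum, map_natCast, map_intCast, map_ofNat, Complex.conj_conj] at h2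
    have hne : (3 : ℂ) * (Nat.card O : ℂ) ≠ 0 :=
      mul_ne_zero (by norm_num) (Nat.cast_ne_zero.2 Nat.card_pos.ne')
    have h3 := mul_left_cancel₀ hne (h1.trans h2.symm)
    exact_mod_cast h3
  have hdk : ∑ χ, d χ * k χ = 2 := by
    have h1 := hHsum t
    rw [hHt, hsep] at h1
    obtain ⟨e1, -⟩ := hwi (∑ χ, k χ * d (σ χ) - 2) (∑ χ, k χ * d (σ χ) - ∑ χ, k χ * d χ)
      (by push_cast at h1 ⊢; linear_combination -h1)
    rw [hreidx k hkσ] at e1
    rw [Finset.sum_congr rfl fun χ _ => mul_comm (d χ) (k χ)]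
    omega
  have hconst : ∀ χ, χ ∈ principalBlock M G → ∀ o ∈ O, (χ : G → ℂ) (u * o) = (χ : G → ℂ) u := by
    intro χ hχ o ho
    letI := Fintype.ofFinite (IrrCharacter (centralizer ({u} : Set G)))
    haveI : (O.subgroupOf (centralizer ({u} : Set G))).Normal := (normal_subgroupOf_iff_le_normalizer hOC).2 hOn
    have hodd : ∀ {x : G}, x ∈ O → ¬ 2 ∣ orderOf x := fun hx hd =>
      hO.not_two_dvd_nat (hd.trans (Subgroup.orderOf_dvd_natCard O hx))
    have := CfsgLib.Invol.irr_secElt_mul hM (x := u) (C := centralizer ({u} : Set G)) ⟨1, by rw [h.hu, pow_one]⟩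
      (fun g => mem_centralizer_singleton_iff) hχ (O.subgroupOf (centralizer ({u} : Set G)))
      (by rw [Nat.card_congr (subgroupOfEquivOfLe hOC).toEquiv]; exact hO.not_two_dvd_nat)
      (y := 1) (n := ⟨o, hOC ho⟩) ho (by simp) (by rw [one_mul, Subgroup.orderOf_mk]; exact hodd ho)
    simpa using this
  have hval : ∀ χ, χ ∈ principalBlock M G → a χ = 3 * k χ - d χ - d (σ χ) := by
    intro χ hχ
    have h1 := hinner χ
    rw [Finset.sum_congr rfl fun (o : O) _ => congrArg conj (hconst χ hχ o o.2), Finset.sum_const,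
      Finset.card_univ, ← Nat.card_eq_fintype_card, nsmul_eq_mul, ha, map_intCast, hzd' χ, hzd χ] at h1
    have hne : (Nat.card O : ℂ) ≠ 0 := Nat.cast_ne_zero.2 Nat.card_pos.ne'
    have h2 : 3 * (k χ : ℂ) = (a χ : ℂ) + (d χ : ℂ) + (d (σ χ) : ℂ) := mul_left_cancel₀ hne (by
      linear_combination h1 - (Nat.card O : ℂ) * ((d χ : ℂ) + (d (σ χ) : ℂ)) * hw)
    have h3 : 3 * k χ = a χ + d χ + d (σ χ) := by exact_mod_cast h2
    omega
  have hk1 : k (oneChar G) = 1 := by
    have := hval (oneChar G) one_mem_principalBlock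
    rw [ha1, hσ1, hone] at this
    omega
  -- no two involutions multiply to `uv`
  have hq : ∑ χ, (d χ : ℚ) * (a χ : ℚ) ^ 2 / (D χ : ℚ) = 0 := by
    have hcc : classConst u u t = 0 := by
      rw [classConst, Nat.card_eq_zero]
      refine Or.inl ⟨fun q => ?_⟩
      obtain ⟨⟨x, y⟩, hx, hy, hxy⟩ := q
      have hinv : ∀ z : G, IsConj u z → z * z = 1 := fun z hz => by
        obtain ⟨c, rfl⟩ := isConj_iff.1 hz
        rw [show c * u * c⁻¹ * (c * u * c⁻¹) = c * (u * u) * c⁻¹ by group, h.uu]; group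
      have hxy' : x * y = t := hxy
      refine E.not_real x ?_
      rw [← ht, ← hxy', inv_eq_of_mul_eq_one_right (hinv x hx), ← mul_assoc x x y, hinv x hx, one_mul,
        _root_.mul_inv_rev, inv_eq_of_mul_eq_one_right (hinv x hx), inv_eq_of_mul_eq_one_right (hinv y hy)]
    have h0 := classConst_formula u u t
    rw [hcc, Nat.cast_zero, finsum_eq_sum_of_fintype] at h0
    have hne : (Nat.card {x : G // IsConj u x} : ℂ) ≠ 0 := by
      haveI : Nonempty {x : G // IsConj u x} := ⟨⟨u, IsConj.refl u⟩⟩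
      exact_mod_cast Nat.card_pos.ne'
    have h1 := (mul_eq_zero.1 h0.symm).resolve_left
      (div_ne_zero (mul_ne_zero hne hne) (by exact_mod_cast Nat.card_pos.ne'))
    have hre : ∑ χ : IrrCharacter G, (a χ : ℂ) ^ 2 / (D χ : ℂ) * (d (σ χ) : ℂ) =
        ∑ χ : IrrCharacter G, (a χ : ℂ) ^ 2 / (D χ : ℂ) * (d χ : ℂ) :=
      Fintype.sum_bijective σ hbij _ _ fun χ => by rw [haσ, hDσ]
    have h2 : ∑ χ : IrrCharacter G, (a χ : ℂ) ^ 2 / (D χ : ℂ) * (d χ : ℂ) = 0 := by
      have h3 : ∑ χ : IrrCharacter G, (-w ^ 2 * ((a χ : ℂ) ^ 2 / (D χ : ℂ) * (d χ : ℂ)) -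
          w * ((a χ : ℂ) ^ 2 / (D χ : ℂ) * (d (σ χ) : ℂ))) = 0 := by
        rw [← h1]
        refine Finset.sum_congr rfl fun χ _ => ?_
        rw [hzd' χ, ha, hD]
        ring
      rw [Finset.sum_sub_distrib, ← Finset.mul_sum, ← Finset.mul_sum, hre, ← sub_mul] at h3
      rcases mul_eq_zero.1 h3 with e | e
      · exact absurd (show (1 : ℂ) = 0 by linear_combination e + hw) one_ne_zero
      · exact e
    have h4 : ((∑ χ, (d χ : ℚ) * (a χ : ℚ) ^ 2 / (D χ : ℚ) : ℚ) : ℂ) = 0 := by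
      push_cast
      rw [← h2]
      exact Finset.sum_congr rfl fun χ _ => by ring
    exact_mod_cast h4
  -- the congruence on the elementary group
  have hcong : ∀ χ, d χ ≠ 0 → ∃ c : ℕ, D χ + 7 * a χ = 8 * (c : ℤ) := by
    intro χ _
    letI := Fintype.ofFinite Q
    obtain ⟨c, hc⟩ := classInner_isCharacter (isCharacter_comp (isCharacter_irr χ) Q.subtype)
      (isCharacter_of_isIrr (isIrrCharacter_one (G := Q)))
    refine ⟨c, ?_⟩
    rw [classInner, hQ, ← Finset.add_sum_erase _ _ (Finset.mem_univ (1 : Q))] at hc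
    simp only [map_one, mul_one, Subgroup.coe_subtype, Subgroup.coe_one, hD] at hc
    rw [Finset.sum_congr rfl (g := fun _ => (a χ : ℂ)) (fun q hq => ?_), Finset.sum_const,
      Finset.card_erase_of_mem (Finset.mem_univ _), Finset.card_univ, ← Nat.card_eq_fintype_card, hQ] at hc
    swap
    · have hq1 : (q : G) ≠ 1 := fun e => (Finset.mem_erase.1 hq).1 (Subtype.ext e)
      rw [← ha]
      exact classFun_isConj (isClassFunction_irr χ)
        (h.one _ _ (CfsgLib.Char.SelfCentThree.orderOf_two (hQe q q.2) hq1) h.hu)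
    have h1 : ((D χ + 7 * a χ : ℤ) : ℂ) = ((8 * (c : ℤ) : ℤ) : ℂ) := by
      push_cast at hc ⊢
      simp only [nsmul_eq_mul] at hc
      linear_combination 8 * hc
    exact_mod_cast h1
  exact eight_no_columns (oneChar G) σ hσ hσ1 d k D a hone hk1 hD1 ha1 hD2 hnorm hmix hdD hkn hdk hkσ
    (fun χ hχ => hval χ (hmem χ hχ)) hq hcong

end CfsgLib.Recog.OrderSix
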