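import Cfsg.Agent.Lib.FT.NoMinSimple
import Cfsg.Agent.Lib.Coprime.Solvable

/-!
# Groups of odd order acting with a small point stabilizer
-/

set_option autoImplicit false
set_option linter.unusedSectionVars false

namespace CfsgLib.Recog.OrderSix

open Subgroup

variable {L : Type*} [Group L] [Finite L]

theorem exists_abelian_semireg (hodd : Odd (Nat.card L)) {w : L} (hw3 : w * w * w = 1)
    (hne : zpowers w ≠ ⊤) (hW : ∀ g : L, g⁻¹ * w * g ∈ zpowers w → g ∈ zpowers w) :
    ∃ A : Subgroup L, A.Normal ∧ A ≠ ⊥ ∧ (∀ a ∈ A, ∀ b ∈ A, a * b = b * a) ∧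
      (∀ a ∈ A, a * w = w * a → a = 1) ∧ ∀ a ∈ A, ∀ g : L, g⁻¹ * a * g ∈ zpowers w → a = 1 := by
  classical
  haveI : Group.IsSolvable L := CfsgLib.FT.isSolvable_of_odd L hodd
  have hex : ∃ n, derivedSeries L n = ⊥ := (Group.isSolvable_def L).1 inferInstance
  have hn0 : Nat.find hex ≠ 0 := fun e => by
    have := Nat.find_spec hex
    rw [e, derivedSeries_zero] at this
    exact hne (le_antisymm le_top (this ▸ bot_le))
  set A := derivedSeries L (Nat.find hex - 1) with hA
  haveI hAn : A.Normal := derivedSeries_normal _ _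
  have hcomm : ∀ a ∈ A, ∀ b ∈ A, a * b = b * a := fun a ha b hb => by
    have h := Nat.find_spec hex
    rw [show Nat.find hex = (Nat.find hex - 1) + 1 by omega, derivedSeries_succ] at h
    exact commutatorElement_eq_one_iff_mul_comm.1
      (mem_bot.1 (h.le (commutator_mem_commutator ha hb)))
  have hcw : ∀ a : L, a * w = w * a → a ∈ zpowers w := fun a ha => hW a (by
    rw [mul_assoc, ← ha, inv_mul_cancel_left]; exact mem_zpowers w)
  have hwA : w ∉ A := fun hw => by
    have hle : A ≤ zpowers w := fun a ha => hcw a (hcomm a ha w hw)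
    refine hne (eq_top_iff.2 fun g _ => hW g (hle ?_))
    simpa using hAn.conj_mem w hw g⁻¹
  have hint : ∀ a ∈ A, a ∈ zpowers w → a = 1 := by
    intro a ha haw
    obtain ⟨k, rfl⟩ := mem_zpowers_iff.1 haw
    have h3 : w ^ (3 : ℤ) = 1 := by
      rw [show (3 : ℤ) = ((3 : ℕ) : ℤ) from rfl, zpow_natCast, pow_succ, pow_two, hw3]
    rw [zpow_eq_zpow_emod k h3] at ha ⊢
    have hk : k % 3 = 0 ∨ k % 3 = 1 ∨ k % 3 = 2 := by omega
    rcases hk with e | e | e <;> rw [e] at ha ⊢
    · exact zpow_zero w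
    · exact absurd (by simpa using ha) hwA
    · refine absurd ?_ hwA
      have h4 := mul_mem ha ha
      rwa [← zpow_add, zpow_eq_zpow_emod ((2 : ℤ) + 2) h3,
        show ((2 : ℤ) + 2) % 3 = 1 by norm_num, zpow_one] at h4
  refine ⟨A, hAn, Nat.find_min hex (by omega), hcomm, fun a ha haw => hint a ha (hcw a haw),
    fun a ha g hg => ?_⟩
  have h := hint _ (by simpa using hAn.conj_mem a ha g⁻¹) hg
  exact conj_eq_one_iff.1 (show g⁻¹ * a * g⁻¹⁻¹ = 1 by rw [inv_inv]; exact h)

variable {X : Type*} [CommGroup X]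

/-- An abelian normal subgroup all of whose translates of `w` act without fixed points acts
trivially. -/
theorem sum_trick (ρ : L →* MulAut X) (h2 : ∀ x : X, x * x = 1) (A : Subgroup L) [hAn : A.Normal]
    (hcomm : ∀ a ∈ A, ∀ b ∈ A, a * b = b * a) (hodd : Odd (Nat.card A)) {w : L}
    (hw3 : w * w * w = 1) (hfix : ∀ a ∈ A, a * w = w * a → a = 1)
    (hfpf : ∀ x, ρ w x = x → x = 1) : ∀ a ∈ A, ρ a = 1 := by
  classical
  haveI := Fintype.ofFinite A
  have hmul : ∀ (g k : L) (x : X), ρ (g * k) x = ρ g (ρ k x) := fun g k x => by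
    rw [map_mul]; rfl
  have hnorm : ∀ x, x * ρ w x * ρ (w * w) x = 1 := by
    intro x
    apply hfpf
    rw [map_mul, map_mul, ← hmul, ← hmul, ← mul_assoc w w w, hw3, map_one, MulAut.one_apply,
      mul_assoc x, mul_comm x (ρ w x * ρ (w * w) x)]
  have hsurj : ∀ a ∈ A, ∃ b ∈ A, a * w = b * w * b⁻¹ := by
    let f : A → A := fun b => ⟨b * (w * (b : L)⁻¹ * w⁻¹), A.mul_mem b.2 (hAn.conj_mem _ (A.inv_mem b.2) w)⟩
    have hf : Function.Injective f := fun a b hab => by
      have e : (a : L) * (w * (a : L)⁻¹ * w⁻¹) = b * (w * (b : L)⁻¹ * w⁻¹) := congrArg Subtype.val hab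
      have e' := congrArg (fun z => z * w) e
      simp only [mul_assoc, inv_mul_cancel, mul_one] at e'
      have h' : ((b : L)⁻¹ * a) * w = w * ((b : L)⁻¹ * a) := by
        have := congrArg (fun z => (b : L)⁻¹ * z * a) e'
        simpa [mul_assoc] using this
      have := hfix _ (A.mul_mem (A.inv_mem b.2) a.2) h'
      exact Subtype.ext (inv_mul_eq_one.1 this).symm
    intro a ha
    obtain ⟨b, hb⟩ := (Finite.injective_iff_surjective.1 hf) ⟨a, ha⟩
    refine ⟨b, b.2, ?_⟩
    have hb' : (b : L) * (w * (b : L)⁻¹ * w⁻¹) = a := congrArg Subtype.val hb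
    rw [← hb']
    group
  have h3 : ∀ (a : A) (x : X), x * ρ ((a : L) * w) x *
      ρ (((a : L) * (w * a * w⁻¹)) * (w * w)) x = 1 := by
    intro a x
    obtain ⟨b, -, hb⟩ := hsurj a a.2
    have hx : ρ b (ρ b⁻¹ x) = x := by
      rw [← hmul, mul_inv_cancel, map_one, MulAut.one_apply]
    have h := congrArg (ρ b) (hnorm (ρ b⁻¹ x))
    rw [map_one, map_mul, map_mul, hx, ← hmul, ← hmul, ← hmul, ← hmul] at h
    rw [show (a : L) * (w * a * w⁻¹) * (w * w) = ((a : L) * w) * (a * w) by group, hb,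
      show b * w * b⁻¹ * (b * w * b⁻¹) = b * (w * w) * b⁻¹ by group]
    exact h
  set F : X → X := fun x => ∏ a : A, ρ (a : L) x with hF
  have hFmul : ∀ x y, F (x * y) = F x * F y := fun x y => by
    simp only [hF, map_mul, Finset.prod_mul_distrib]
  have hFone : F 1 = 1 := by simp [hF]
  let g : A → A := fun a => ⟨(a : L) * (w * a * w⁻¹), A.mul_mem a.2 (hAn.conj_mem _ a.2 w)⟩
  have hg : Function.Bijective g := by
    refine Finite.injective_iff_bijective.1 fun a b hab => ?_
    have e : (a : L) * (w * a * w⁻¹) = b * (w * b * w⁻¹) := congrArg Subtype.val hab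
    set c := (a : L) * (b : L)⁻¹ with hc
    have hcA : c ∈ A := A.mul_mem a.2 (A.inv_mem b.2)
    have hwc : w * c * w⁻¹ = c⁻¹ := by
      refine eq_inv_of_mul_eq_one_right ?_
      have hC1 := hcomm (b : L)⁻¹ (A.inv_mem b.2) (w * a * w⁻¹) (hAn.conj_mem _ a.2 w)
      calc c * (w * c * w⁻¹) = (a : L) * ((b : L)⁻¹ * (w * a * w⁻¹)) * (w * (b : L)⁻¹ * w⁻¹) := by
            rw [hc]; group
        _ = (a : L) * (w * a * w⁻¹) * ((b : L)⁻¹ * (w * (b : L)⁻¹ * w⁻¹)) := by
            rw [hC1]; group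
        _ = 1 := by
            rw [e, hcomm _ (A.inv_mem b.2) _ (hAn.conj_mem _ (A.inv_mem b.2) w)]
            group
    have h4 : c * (w * w) = (w * w) * c := by
      have h5 : (w * w) * c * (w * w)⁻¹ = c := by
        calc (w * w) * c * (w * w)⁻¹ = w * (w * c * w⁻¹) * w⁻¹ := by group
          _ = (w * c * w⁻¹)⁻¹ := by conv_lhs => rw [hwc]
                                    group
          _ = c := by rw [hwc, inv_inv]
      exact (mul_inv_eq_iff_eq_mul.1 h5).symm
    have h6 : c * w = w * c := by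
      have hw4 : w * w * (w * w) = w := by
        calc w * w * (w * w) = (w * w * w) * w := by group
          _ = w := by rw [hw3, one_mul]
      have := (Commute.mul_right (show Commute c (w * w) from h4) h4).eq
      rwa [hw4] at this
    exact Subtype.ext (mul_inv_eq_one.1 (hfix c hcA h6))
  have key : ∀ x, F x = x := by
    intro x
    have hpow : x ^ Fintype.card A = x := by
      rw [← Nat.card_eq_fintype_card]
      obtain ⟨k, hk⟩ := hodd
      rw [hk, pow_add, pow_mul, pow_one, pow_two, h2, one_pow, one_mul]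
    have e1 : x * F (ρ w x) * F (ρ (w * w) x) = 1 := by
      have : ∏ a : A, (x * ρ ((a : L) * w) x * ρ (((a : L) * (w * a * w⁻¹)) * (w * w)) x) = 1 :=
        Finset.prod_eq_one fun a _ => h3 a x
      rw [Finset.prod_mul_distrib, Finset.prod_mul_distrib, Finset.prod_const, Finset.card_univ, hpow] at this
      have hA2 : ∏ a : A, ρ ((a : L) * w) x = F (ρ w x) :=
        Finset.prod_congr rfl fun a _ => hmul _ _ _
      have hA3 : ∏ a : A, ρ (((a : L) * (w * a * w⁻¹)) * (w * w)) x = F (ρ (w * w) x) :=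
        Fintype.prod_bijective g hg _ (fun a : A => ρ (a : L) (ρ (w * w) x)) fun a => hmul _ _ _
      rwa [hA2, hA3] at this
    have e2 : F x * F (ρ w x) * F (ρ (w * w) x) = 1 := by
      rw [← hFmul, ← hFmul, hnorm, hFone]
    exact mul_right_cancel (mul_right_cancel (e2.trans e1.symm))
  intro a ha
  ext x
  show ρ a x = x
  conv_lhs => rw [← key x]
  conv_rhs => rw [← key x]
  rw [hF, map_prod]
  exact Fintype.prod_bijective (fun b : A => ⟨a, ha⟩ * b) (Group.mulLeft_bijective _) _ _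
    fun b => by simp [hmul]

/-- The translates by a fixed-point-free abelian group bound the order by eight. -/
theorem card_le_eight [Finite X] (ρ : L →* MulAut X) (h2 : ∀ x : X, x * x = 1) (A : Subgroup L)
    [hAn : A.Normal] (hne : A ≠ ⊥) (hcomm : ∀ a ∈ A, ∀ b ∈ A, a * b = b * a) {w : L}
    (hw3 : w * w * w = 1) (hfix : ∀ a ∈ A, a * w = w * a → a = 1)
    (hsemi : ∀ a ∈ A, ∀ x : X, x ≠ 1 → ρ a x = x → a = 1)
    (hF : Nat.card {x : X // ρ w x = x} ≤ 2) : Nat.card X ≤ 8 := by
  have hmul : ∀ (g k : L) (x : X), ρ (g * k) x = ρ g (ρ k x) := fun g k x => by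
    rw [map_mul]; rfl
  have hinv : ∀ x : X, x⁻¹ = x := fun x => inv_eq_of_mul_eq_one_left (h2 x)
  obtain ⟨d, hd, hd1⟩ := (bot_or_exists_ne_one A).resolve_left hne
  obtain ⟨b, hb⟩ : ∃ b, b = w * d * w⁻¹ := ⟨_, rfl⟩
  obtain ⟨c, hc⟩ : ∃ c, c = w * b * w⁻¹ := ⟨_, rfl⟩
  have hbA : b ∈ A := hb ▸ hAn.conj_mem _ hd w
  have hcA : c ∈ A := hc ▸ hAn.conj_mem _ hbA w
  have hdb : d ≠ b := fun e => hd1 (hfix d hd (by
    rw [show d * w = b * w by rw [← e], hb, inv_mul_cancel_right]))
  have hdc : d ≠ c := fun e => hd1 (hfix d hd (by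
    have h' : (w * w) * d = d * (w * w) := by
      calc (w * w) * d = ((w * w) * d * (w * w)⁻¹) * (w * w) := by group
        _ = d * (w * w) := by
          rw [show (w * w) * d * (w * w)⁻¹ = c by rw [hc, hb]; group, ← e]
    have hw4 : w * w * (w * w) = w := by
      calc w * w * (w * w) = (w * w * w) * w := by group
        _ = w := by rw [hw3, one_mul]
    have := (Commute.mul_right (show Commute d (w * w) from h'.symm) h'.symm).eq
    rwa [hw4] at this))
  let T : X → X := fun y => y * ρ w y * ρ (w * w) y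
  have hT : ∀ y, ρ w (T y) = T y := fun y => by
    show ρ w (y * ρ w y * ρ (w * w) y) = y * ρ w y * ρ (w * w) y
    rw [map_mul, map_mul, ← hmul, ← hmul, ← mul_assoc w w w, hw3, map_one, MulAut.one_apply,
      mul_assoc y, mul_comm y (ρ w y * ρ (w * w) y)]
  have hTmul : ∀ y z, T (y * z) = T y * T z := fun y z => by
    simp only [T, map_mul]
    ac_rfl
  have hTa : ∀ (a : L) y, T (ρ a y) = ρ a y * ρ (w * a * w⁻¹) (ρ w y) *
      ρ (w * (w * a * w⁻¹) * w⁻¹) (ρ (w * w) y) := fun a y => by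
    simp only [T, ← hmul]
    congr 1
    · congr 1
      rw [show w * a * w⁻¹ * w = w * a by group]
    · rw [show w * (w * a * w⁻¹) * w⁻¹ * (w * w) = w * w * a by group]
  have hinj : Function.Injective fun y : X =>
      ((⟨T y, hT y⟩, ⟨T (ρ d y), hT _⟩, ⟨T (ρ (d * d) y), hT _⟩) :
        {x : X // ρ w x = x} × {x : X // ρ w x = x} × {x : X // ρ w x = x}) := by
    intro y₁ y₂ h12
    simp only [Prod.mk.injEq, Subtype.mk.injEq] at h12
    obtain ⟨h0, h1', h2'⟩ := h12
    suffices H : ∀ y, T y = 1 → T (ρ d y) = 1 → T (ρ (d * d) y) = 1 → y = 1 by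
      have := H (y₁ * y₂) (by rw [hTmul, h0, h2]) (by rw [map_mul, hTmul, h1', h2])
        (by rw [map_mul, hTmul, h2', h2])
      rw [← hinv y₁]
      exact inv_eq_of_mul_eq_one_right this
    intro y e0 e1 e2
    rw [hTa] at e1 e2
    rw [show w * (d * d) * w⁻¹ = b * b by rw [hb]; group] at e2
    rw [show w * (b * b) * w⁻¹ = c * c by rw [hc]; group] at e2
    rw [← hb, ← hc] at e1
    set z := ρ w y with hz
    have hx : ρ (w * w) y = y * z := by
      have : (y * z)⁻¹ = ρ (w * w) y := inv_eq_of_mul_eq_one_right e0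
      rw [← this, hinv]
    rw [hx, MulEquiv.map_mul] at e1 e2
    have e1b := congrArg (ρ b) e1
    have e1c := congrArg (ρ c) e1
    simp only [MulEquiv.map_mul, MulEquiv.map_one, ← hmul] at e1b e1c e1 e2
    rw [hcomm c hcA b hbA] at e1c
    have key : ρ (b * d) y * ρ (b * c) y * ρ (c * d) y * ρ (d * d) y = 1 := by
      have hsq : ∀ p : X, p * p = 1 := h2
      have := congrArg₂ (· * ·) (congrArg₂ (· * ·) e1b e1c) e2
      simp only [one_mul] at this
      refine Eq.trans ?_ this
      apply Additive.ofMul.injective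
      simp only [ofMul_mul]
      have h2a : ∀ p : Additive X, (2 : ℕ) • p = 0 := fun p => by
        rw [two_nsmul]; exact congrArg Additive.ofMul (hsq p.toMul)
      have h2z : ∀ p : Additive X, (2 : ℤ) • p = 0 := fun p => by
        rw [show (2 : ℤ) = ((2 : ℕ) : ℤ) from rfl, natCast_zsmul]; exact h2a p
      rw [← sub_eq_zero]
      abel_nf
      simp [h2a, h2z]
    set q := ρ d y * ρ c y with hq
    have hq' : ρ d q = ρ b q := by
      have e : ρ d q * ρ b q = 1 := by
        rw [hq, map_mul, map_mul, ← hmul, ← hmul, ← hmul, ← hmul, hcomm d hd c hcA, ← key]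
        ac_rfl
      rw [← hinv (ρ d q)]
      exact inv_eq_of_mul_eq_one_right e
    have hq1 : q = 1 := by
      by_contra hq1
      refine hdb (inv_mul_eq_one.1 (hsemi (b⁻¹ * d) (A.mul_mem (A.inv_mem hbA) hd) q hq1 ?_)).symm
      rw [hmul, hq', ← hmul, inv_mul_cancel, map_one, MulAut.one_apply]
    by_contra hy
    refine hdc (inv_mul_eq_one.1 (hsemi (c⁻¹ * d) (A.mul_mem (A.inv_mem hcA) hd) y hy ?_)).symm
    have hdy : ρ d y = ρ c y := by
      rw [← hinv (ρ d y)]
      exact inv_eq_of_mul_eq_one_right hq1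
    rw [hmul, hdy, ← hmul, inv_mul_cancel, map_one, MulAut.one_apply]
  refine (Nat.card_le_card_of_injective _ hinj).trans ?_
  rw [Nat.card_prod, Nat.card_prod]
  calc _ ≤ 2 * (2 * 2) := Nat.mul_le_mul hF (Nat.mul_le_mul hF hF)
    _ = 8 := rfl

end CfsgLib.Recog.OrderSix
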