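import Cfsg.Agent.Lib.Recog.OrderSix.Basic
import Cfsg.Agent.Lib.Recog.OrderSix.Odd

/-!
# A Sylow subgroup with noncyclic centre
-/

set_option autoImplicit false
set_option linter.unusedSectionVars false
set_option linter.style.haveILetI false

namespace CfsgLib.Recog.OrderSix

open Subgroup
open scoped commutatorElement

universe u

variable {G : Type u} [Group G] [Finite G] {u v : G} {S : Subgroup G}

/-- The quotient action of automorphisms on a quotient by a characteristic subgroup. -/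
def quotAut {K : Type*} [Group K] (F : Subgroup K) [F.Normal] [hF : F.Characteristic] :
    MulAut K →* MulAut (K ⧸ F) where
  toFun φ := QuotientGroup.congr F F φ (Subgroup.characteristic_iff_map_eq.1 hF φ)
  map_one' := by ext x; induction x using QuotientGroup.induction_on; rfl
  map_mul' φ ψ := by ext x; induction x using QuotientGroup.induction_on; rfl

theorem quotAut_mk {K : Type*} [Group K] (F : Subgroup K) [F.Normal] [F.Characteristic]
    (φ : MulAut K) (k : K) : quotAut F φ (k : K ⧸ F) = ((φ k : K) : K ⧸ F) := rfl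

/-- The subgroup of the normalizer inducing inner automorphisms. -/
def innerPart (S : Subgroup G) : Subgroup ↥(normalizer (S : Set G)) :=
  S.subgroupOf (normalizer (S : Set G)) ⊔ S.normalizerMonoidHom.ker

instance innerPart_normal (S : Subgroup G) : (innerPart S).Normal := by
  unfold innerPart; infer_instance

theorem mem_innerPart {S : Subgroup G} {n : ↥(normalizer (S : Set G))} :
    n ∈ innerPart S ↔ ∃ s ∈ S, ∃ c ∈ centralizer (S : Set G), (n : G) = s * c := by
  unfold innerPart
  rw [Subgroup.normalizerMonoidHom_ker, mem_sup_of_normal_left]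
  constructor
  · rintro ⟨a, ha, b, hb, rfl⟩
    exact ⟨_, mem_subgroupOf.1 ha, _, mem_subgroupOf.1 hb, rfl⟩
  · rintro ⟨s, hs, c, hc, e⟩
    exact ⟨⟨s, le_normalizer hs⟩, mem_subgroupOf.2 hs,
      ⟨c, centralizer_le_normalizer (S : Set G) hc⟩, mem_subgroupOf.2 hc, Subtype.ext e.symm⟩

theorem innerPart_le_ker {M : Type*} [Group M] (f : MulAut ↥S →* M)
    (hs : ∀ s : S, f (MulAut.conj s) = 1) :
    innerPart S ≤ (f.comp S.normalizerMonoidHom).ker := by
  refine sup_le (fun n hn => ?_) fun n hn => ?_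
  · rw [mem_subgroupOf] at hn
    rw [MonoidHom.mem_ker, MonoidHom.comp_apply, ← hs ⟨n, hn⟩]
    congr 1
    ext a
    rfl
  · rw [MonoidHom.mem_ker, MonoidHom.comp_apply, MonoidHom.mem_ker.1 hn, map_one]

theorem odd_card_actor (h : PSetup u v S) :
    Odd (Nat.card (↥(normalizer (S : Set G)) ⧸ innerPart S)) := by
  haveI : Fact (Nat.Prime 2) := ⟨Nat.prime_two⟩
  obtain ⟨P, rfl⟩ := h.hS
  have h1 : (innerPart (P : Subgroup G)).index ∣ (P : Subgroup G).relIndex (normalizer ((P : Subgroup G) : Set G)) :=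
    Subgroup.index_dvd_of_le le_sup_left
  have h2 : (innerPart (P : Subgroup G)).index ∣ (P : Subgroup G).index :=
    h1.trans (Subgroup.relIndex_dvd_index_of_le le_normalizer)
  rw [← Subgroup.index_eq_card]
  exact Nat.Coprime.odd_of_left ((Nat.prime_two.coprime_iff_not_dvd.2
    fun hd => P.not_dvd_index (hd.trans h2)))

/-- A central involution of `S` is a conjugate of `u` by an element normalizing `S`. -/
theorem PSetup.exists_conj_normalizer (h : PSetup u v S) {x : G} (hx : x ∈ S)
    (hxc : ∀ s ∈ S, x * s = s * x) (hxo : orderOf x = 2) :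
    ∃ n ∈ normalizer (S : Set G), n * u * n⁻¹ = x := by
  haveI : Fact (Nat.Prime 2) := ⟨Nat.prime_two⟩
  obtain ⟨P, rfl⟩ := h.hS
  obtain ⟨g, hg⟩ := isConj_iff.1 (h.six.one u x h.six.hu hxo)
  have hgx : g⁻¹⁻¹ * u * g⁻¹ = x := by rw [inv_inv]; exact hg
  obtain ⟨n, hn, e⟩ := Sylow.conj_eq_normalizer_conj_of_mem_centralizer P u g⁻¹
    (mem_centralizer_iff.2 fun s hs => (h.uc s hs).symm)
    (by rw [hgx]; exact mem_centralizer_iff.2 fun s hs => (hxc s hs).symm)
  exact ⟨n⁻¹, inv_mem hn, by rw [inv_inv, ← e, hgx]⟩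

/-- A central element outside `⟨u⟩` gives a central involution outside `⟨u⟩`. -/
theorem PSetup.exists_central_invol (h : PSetup u v S) : ∀ (k : ℕ) (z : G), z ∈ S →
    (∀ s ∈ S, z * s = s * z) → z ^ 2 ^ k = 1 → z = 1 ∨ z = u ∨
      ∃ x ∈ S, (∀ s ∈ S, x * s = s * x) ∧ orderOf x = 2 ∧ x ≠ u := by
  intro k
  induction k with
  | zero => intro z _ _ hz; exact Or.inl (by rwa [pow_zero, pow_one] at hz)
  | succ k ih =>
    intro z hz hzc hzk
    by_cases hz1 : z = 1
    · exact Or.inl hz1
    by_cases hzu : z = u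
    · exact Or.inr (Or.inl hzu)
    refine Or.inr (Or.inr ?_)
    have hz2c : ∀ s ∈ S, z * z * s = s * (z * z) := fun s hs => by
      rw [mul_assoc, hzc s hs, ← mul_assoc, hzc s hs, mul_assoc]
    rcases ih (z * z) (mul_mem hz hz) hz2c (by rw [← pow_two, ← pow_mul, ← pow_succ']; exact hzk)
      with e | e | e
    · exact ⟨z, hz, hzc, CfsgLib.Char.SelfCentThree.orderOf_two e hz1, hzu⟩
    · set z' := v * z * v⁻¹ with hz'
      have hz'S : z' ∈ S := h.conj_mem hz
      have hz'2 : z' * z' = u := by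
        rw [hz', show v * z * v⁻¹ * (v * z * v⁻¹) = v * (z * z) * v⁻¹ by group, e, ← h.six.huv,
          mul_inv_cancel_right]
      have hd2 : (z' * z⁻¹) * (z' * z⁻¹) = 1 := by
        have hcz : z⁻¹ * z' = z' * z⁻¹ := by
          have := hzc z' hz'S
          calc z⁻¹ * z' = z⁻¹ * (z' * z) * z⁻¹ := by group
            _ = z' * z⁻¹ := by rw [← this]; group
        calc (z' * z⁻¹) * (z' * z⁻¹) = z' * (z⁻¹ * z') * z⁻¹ := by group
          _ = (z' * z') * (z * z)⁻¹ := by rw [hcz]; group
          _ = 1 := by rw [hz'2, e, mul_inv_cancel]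
      have hdc : ∀ s ∈ S, z' * z⁻¹ * s = s * (z' * z⁻¹) := by
        intro s hs
        have hs' : v⁻¹ * s * v ∈ S := (mem_normalizer_iff''.1 h.hvn s).1 hs
        have h1 : Commute z' s := by
          show v * z * v⁻¹ * s = s * (v * z * v⁻¹)
          calc v * z * v⁻¹ * s = v * (z * (v⁻¹ * s * v)) * v⁻¹ := by group
            _ = v * ((v⁻¹ * s * v) * z) * v⁻¹ := by rw [hzc _ hs']
            _ = _ := by group
        exact (h1.mul_left (show Commute z s from hzc s hs).inv_left).eq
      have hne1 : z' * z⁻¹ ≠ 1 := fun e1 => by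
        rcases h.fix hz (by
          have := mul_inv_eq_one.1 e1
          rw [hz', mul_inv_eq_iff_eq_mul] at this
          exact this.symm) with e2 | e2
        · exact hz1 e2
        · exact hzu e2
      have hneu : z' * z⁻¹ ≠ u := fun e1 => by
        have hv1 : v * z * v⁻¹ = u * z := by rw [← hz', ← e1, inv_mul_cancel_right]
        have huv' : v * u * v⁻¹ = u := by rw [← h.six.huv, mul_inv_cancel_right]
        have h3 : v * (v * (v * z * v⁻¹) * v⁻¹) * v⁻¹ = z := by
          rw [show v * (v * (v * z * v⁻¹) * v⁻¹) * v⁻¹ = (v * v * v) * z * (v * v * v)⁻¹ by group,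
            h.six.vvv, one_mul, inv_one, mul_one]
        rw [hv1, show v * (u * z) * v⁻¹ = (v * u * v⁻¹) * (v * z * v⁻¹) by group, huv', hv1,
          show u * (u * z) = z by rw [← mul_assoc, h.six.uu, one_mul], hv1] at h3
        exact h.six.u_ne (mul_eq_right.1 h3)
      exact ⟨_, mul_mem hz'S (inv_mem hz), hdc, CfsgLib.Char.SelfCentThree.orderOf_two hd2 hne1, hneu⟩
    · exact e

/-- A Sylow subgroup with a central element outside `⟨u⟩` is elementary of order eight. -/
theorem PSetup.elementary (h : PSetup u v S) {z : G} (hz : z ∈ S) (hzc : ∀ s ∈ S, z * s = s * z)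
    (hz1 : z ≠ 1) (hzu : z ≠ u) : (∀ s ∈ S, s * s = 1) ∧ Nat.card S = 8 := by
  classical
  haveI : Fact (Nat.Prime 2) := ⟨Nat.prime_two⟩
  haveI : Fact (Nat.Prime 3) := ⟨Nat.prime_three⟩
  have hSp := h.isPGroup
  obtain ⟨x, hx, hxc, hxo, hxu⟩ : ∃ x ∈ S, (∀ s ∈ S, x * s = s * x) ∧ orderOf x = 2 ∧ x ≠ u := by
    obtain ⟨k, hk⟩ := hSp ⟨z, hz⟩
    exact ((h.exists_central_invol k z hz hzc (congrArg Subtype.val hk)).resolve_left hz1).resolve_left hzu
  -- the group of odd order acting
  let L := ↥(normalizer (S : Set G)) ⧸ innerPart S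
  let mk : ↥(normalizer (S : Set G)) →* L := QuotientGroup.mk' (innerPart S)
  set vN : ↥(normalizer (S : Set G)) := ⟨v, h.hvn⟩ with hvN
  set w : L := mk vN with hw
  have hodd : Odd (Nat.card L) := odd_card_actor h
  have hw3 : w * w * w = 1 := by
    rw [hw, ← map_mul, ← map_mul, show vN * vN * vN = 1 from Subtype.ext h.six.vvv, map_one]
  have hstab : ∀ n : ↥(normalizer (S : Set G)), (n : G) * u = u * n → mk n ∈ zpowers w := by
    intro n hn
    obtain ⟨s, hs, c, hc, k, e⟩ := h.normH n n.2 hn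
    have hsc : mk (n * (vN ^ k)⁻¹) = 1 := by
      refine (QuotientGroup.eq_one_iff _).2 (mem_innerPart.2 ⟨s, hs, c, hc, ?_⟩)
      simp only [coe_mul, coe_inv, SubgroupClass.coe_pow, hvN, e, mul_inv_cancel_right]
    rw [map_mul, map_inv, map_pow, mul_inv_eq_one] at hsc
    rw [hsc]
    exact pow_mem (mem_zpowers w) k
  -- automorphisms trivial on central elements fix `u`
  have hW : ∀ g : L, g⁻¹ * w * g ∈ zpowers w → g ∈ zpowers w := by
    intro g hg
    obtain ⟨n, rfl⟩ := QuotientGroup.mk'_surjective (innerPart S) g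
    obtain ⟨k, hk⟩ := mem_zpowers_iff.1 hg
    have e1 : n⁻¹ * vN * n * (vN ^ k)⁻¹ ∈ innerPart S := by
      rw [← QuotientGroup.eq_one_iff]
      show mk _ = 1
      rw [map_mul, map_mul, map_mul, map_inv, map_inv, map_zpow, mul_inv_eq_one]
      exact hk.symm
    obtain ⟨s, hs, c, hc, e⟩ := mem_innerPart.1 e1
    simp only [coe_mul, coe_inv, SubgroupClass.coe_zpow, hvN] at e
    have e2 : (n : G)⁻¹ * v * n = s * c * v ^ k := by rw [← e, inv_mul_cancel_right]
    have hfixu : (n : G)⁻¹ * v * n * u = u * ((n : G)⁻¹ * v * n) := by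
      rw [e2]
      refine ((Commute.mul_left ?_ ?_).mul_left ?_).eq
      · exact (h.uc s hs).symm
      · exact (mem_centralizer_iff.1 hc u h.uS).symm
      · exact (show Commute v u from h.six.huv.symm).zpow_left k
    have hnu : (n : G) * u * (n : G)⁻¹ ∈ S := (mem_normalizer_iff.1 n.2 u).1 h.uS
    rcases h.fix hnu (by
      calc (n : G) * u * (n : G)⁻¹ * v = n * (u * ((n : G)⁻¹ * v * n)) * (n : G)⁻¹ := by group
        _ = n * ((n : G)⁻¹ * v * n * u) * (n : G)⁻¹ := by rw [hfixu]
        _ = _ := by group) with e3 | e3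
    · exact absurd (conj_eq_one_iff.1 e3) h.six.u_ne
    · exact hstab n (mul_inv_eq_iff_eq_mul.1 e3)
  have hne : zpowers w ≠ ⊤ := by
    intro htop
    obtain ⟨n, hn, e⟩ := h.exists_conj_normalizer hx hxc hxo
    obtain ⟨k, hk⟩ := mem_zpowers_iff.1 (htop ▸ mem_top (mk ⟨n, hn⟩) : mk ⟨n, hn⟩ ∈ zpowers w)
    have e1 : (⟨n, hn⟩ : ↥(normalizer (S : Set G))) * (vN ^ k)⁻¹ ∈ innerPart S := by
      rw [← QuotientGroup.eq_one_iff]
      show mk _ = 1
      rw [map_mul, map_inv, map_zpow, mul_inv_eq_one]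
      exact hk.symm
    obtain ⟨s, hs, c, hc, e2⟩ := mem_innerPart.1 e1
    simp only [coe_mul, coe_inv, SubgroupClass.coe_zpow, hvN] at e2
    have e3 : n = s * c * v ^ k := by rw [← e2, inv_mul_cancel_right]
    apply hxu
    rw [← e, e3, mul_inv_eq_iff_eq_mul]
    exact ((Commute.mul_left (h.uc s hs).symm (mem_centralizer_iff.1 hc u h.uS).symm).mul_left
      ((show Commute v u from h.six.huv.symm).zpow_left k)).eq
  obtain ⟨A, hAn, hA1, hAc, hAfix, hAsemi⟩ := exists_abelian_semireg hodd hw3 hne hW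
  haveI := hAn
  have hAodd : Odd (Nat.card A) := hodd.of_dvd_nat (Subgroup.card_subgroup_dvd_card A)
  -- `u` is not in the Frattini subgroup
  have hcommF : ∀ a b : S, (a * b)⁻¹ * (b * a) ∈ frattini S := fun a b => by
    refine CfsgLib.Coprime.commutator_le_frattini hSp ?_
    rw [_root_.commutator_def, show (a * b)⁻¹ * (b * a) = ⁅b⁻¹, a⁻¹⁆ by
      rw [commutatorElement_def]; group]
    exact commutator_mem_commutator (mem_top _) (mem_top _)
  have hsqF : ∀ a : S, a * a ∈ frattini S := fun a => by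
    rw [← pow_two]; exact CfsgLib.Coprime.pow_mem_frattini hSp a
  let u' : S := ⟨u, h.uS⟩
  have hu' : u' ∉ frattini S := by
    intro hu
    haveI : (frattini S).Characteristic := inferInstance
    letI : CommGroup (S ⧸ frattini S) :=
      { (inferInstance : Group (S ⧸ frattini S)) with
        mul_comm := fun a b => by
          induction a using QuotientGroup.induction_on with
          | _ a => induction b using QuotientGroup.induction_on with
            | _ b => exact QuotientGroup.eq.2 (hcommF a b) }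
    have h2 : ∀ q : S ⧸ frattini S, q * q = 1 := fun q => by
      induction q using QuotientGroup.induction_on with
      | _ a => exact (QuotientGroup.eq_one_iff _).2 (hsqF a)
    let ρ : L →* MulAut (S ⧸ frattini S) :=
      QuotientGroup.lift (innerPart S) ((quotAut (frattini S)).comp S.normalizerMonoidHom)
        (innerPart_le_ker _ fun s => by
          ext q
          induction q using QuotientGroup.induction_on with
          | _ a =>
            rw [quotAut_mk, MulAut.one_apply, MulAut.conj_apply, QuotientGroup.mk_mul,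
              QuotientGroup.mk_mul, mul_comm (s : S ⧸ frattini S), mul_assoc, QuotientGroup.mk_inv,
              mul_inv_cancel, mul_one])
    have hρ : ∀ (n : ↥(normalizer (S : Set G))) (a : S), ρ (mk n) (a : S ⧸ frattini S) =
        ((S.normalizerMonoidHom n a : S) : S ⧸ frattini S) := fun n a => rfl
    set Φ := (frattini S).map S.subtype with hΦ
    have hΦS : Φ ≤ S := map_subtype_le _
    have hvΦ : ∀ g ∈ normalizer (S : Set G), ∀ y ∈ Φ, g * y * g⁻¹ ∈ Φ := by
      rintro g hg y ⟨a, ha, rfl⟩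
      refine ⟨S.normalizerMonoidHom ⟨g, hg⟩ a, ?_, rfl⟩
      have := Subgroup.characteristic_iff_map_eq.1 (inferInstance : (frattini S).Characteristic)
        (S.normalizerMonoidHom ⟨g, hg⟩)
      rw [← this]
      exact ⟨a, ha, rfl⟩
    have hvN' : zpowers v ≤ normalizer (Φ : Set G) := by
      rw [zpowers_le, mem_normalizer_iff]
      refine fun y => ⟨hvΦ v h.hvn y, fun hy => ?_⟩
      simpa [mul_assoc] using hvΦ v⁻¹ (inv_mem h.hvn) _ hy
    have hcop : (Nat.card (zpowers v)).Coprime (Nat.card Φ) := by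
      obtain ⟨m, hm⟩ := IsPGroup.iff_card.1 (hSp.to_le hΦS)
      rw [Nat.card_zpowers, h.six.hv, hm]
      exact Nat.Coprime.pow_right m (by norm_num)
    have hfpf : ∀ q, ρ w q = q → q = 1 := by
      intro q
      induction q using QuotientGroup.induction_on with
      | _ a =>
        intro hq
        rw [hw, hρ, QuotientGroup.eq] at hq
        have hkey : v * (a : G) * v⁻¹ * (a : G)⁻¹ ∈ Φ := by
          have h1 : (frattini S).Normal := inferInstance
          refine ⟨a * ((S.normalizerMonoidHom vN a)⁻¹ * a)⁻¹ * a⁻¹, h1.conj_mem _ (inv_mem hq) a, ?_⟩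
          show (a : G) * ((v * a * v⁻¹)⁻¹ * a)⁻¹ * (a : G)⁻¹ = _
          group
        have hfixa : ∀ g ∈ zpowers v, g * (a : G) * g⁻¹ * (a : G)⁻¹ ∈ Φ := by
          intro g hg
          obtain ⟨k, rfl⟩ := mem_zpowers_iff.1 hg
          induction k using Int.induction_on with
          | zero => simp [one_mem]
          | succ i hi =>
            have hv' : v ^ ((i : ℤ) + 1) * (a : G) * (v ^ ((i : ℤ) + 1))⁻¹ * (a : G)⁻¹ =
                (v * (v ^ (i : ℤ) * a * (v ^ (i : ℤ))⁻¹ * (a : G)⁻¹) * v⁻¹) * (v * a * v⁻¹ * (a : G)⁻¹) := by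
              rw [zpow_add_one]; group
            rw [hv']
            exact mul_mem (hvΦ v h.hvn _ (hi (zpow_mem (mem_zpowers v) _))) hkey
          | pred i hi =>
            have hv' : v ^ (-(i : ℤ) - 1) * (a : G) * (v ^ (-(i : ℤ) - 1))⁻¹ * (a : G)⁻¹ =
                (v⁻¹ * ((v ^ (-(i : ℤ)) * a * (v ^ (-(i : ℤ)))⁻¹ * (a : G)⁻¹) * (v * a * v⁻¹ * (a : G)⁻¹)⁻¹) * v⁻¹⁻¹) := by
              rw [zpow_sub_one]; group
            rw [hv']
            exact hvΦ v⁻¹ (inv_mem h.hvn) _
              (mul_mem (hi (zpow_mem (mem_zpowers v) _)) (inv_mem hkey))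
        have haN : (a : G) ∈ normalizer (Φ : Set G) := by
          rw [mem_normalizer_iff]
          refine fun y => ⟨hvΦ _ (le_normalizer a.2) y, fun hy => ?_⟩
          simpa [mul_assoc] using hvΦ _ (inv_mem (le_normalizer a.2)) _ hy
        obtain ⟨m, hm, hfix⟩ := CfsgLib.Coprime.exists_fixed_in_coset hvN' hcop
          (Or.inl (CfsgLib.Coprime.isSolvable_of_isMulCommutative inferInstance)) haN hfixa
        rw [QuotientGroup.eq_one_iff]
        obtain ⟨m', hm', rfl⟩ := hm
        rcases h.fix (mul_mem a.2 m'.2) (mem_centralizer_iff.1 hfix v (mem_zpowers v)).symm with e | e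
        · have ha' : a = m'⁻¹ := eq_inv_of_mul_eq_one_left (Subtype.ext e)
          rw [ha']; exact inv_mem hm'
        · have ha' : a = u' * m'⁻¹ := eq_mul_inv_of_mul_eq (Subtype.ext e)
          rw [ha']; exact mul_mem hu (inv_mem hm')
    have htriv := sum_trick ρ h2 A hAc hAodd hw3 hAfix hfpf
    refine hA1 ((eq_bot_iff_forall A).2 fun b hb => ?_)
    obtain ⟨n₀, hn₀⟩ := QuotientGroup.mk'_surjective (innerPart S) b
    -- an odd power of a preimage has the same image
    obtain ⟨e, k, hk, hek⟩ := Nat.exists_eq_pow_mul_and_not_dvd (orderOf_pos n₀).ne' 2 (by norm_num)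
    have hcopm : (2 ^ e).Coprime (orderOf b) := by
      refine Nat.Coprime.pow_left e ?_
      rw [Nat.coprime_two_left]
      exact hodd.of_dvd_nat (orderOf_dvd_natCard b)
    set n := n₀ ^ 2 ^ e with hn
    have hnodd : orderOf n = k := by
      rw [hn, orderOf_pow_of_dvd (by positivity) (hek ▸ dvd_mul_right _ _), hek,
        Nat.mul_div_cancel_left _ (by positivity)]
    have hρn : ρ (mk n) = 1 := by
      rw [hn, map_pow, hn₀, map_pow, htriv b hb, one_pow]
    have hAK : zpowers (n : G) ≤ normalizer (S : Set G) := zpowers_le.2 n.2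
    have hncop : (Nat.card (zpowers (n : G))).Coprime (Nat.card (frattini S)) := by
      obtain ⟨m, hm⟩ := IsPGroup.iff_card.1 (hSp.to_subgroup (frattini S))
      rw [Nat.card_zpowers, Subgroup.orderOf_coe, hnodd, hm]
      exact Nat.Coprime.pow_right m (Nat.coprime_comm.1 (Nat.prime_two.coprime_iff_not_dvd.2 hk))
    have hcent := CfsgLib.Coprime.le_centralizer_of_trivial_on_frattini_quotient hAK hncop (by
      intro g hg a ha
      obtain ⟨j, rfl⟩ := mem_zpowers_iff.1 hg
      have h5 : ρ (mk (n ^ j)) ((⟨a, ha⟩ : S) : S ⧸ frattini S) = ((⟨a, ha⟩ : S) : S ⧸ frattini S) := by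
        rw [map_zpow, map_zpow, hρn, one_zpow, MulAut.one_apply]
      rw [hρ, QuotientGroup.eq] at h5
      refine ⟨⟨a, ha⟩ * ((S.normalizerMonoidHom (n ^ j) ⟨a, ha⟩)⁻¹ * ⟨a, ha⟩)⁻¹ * (⟨a, ha⟩ : S)⁻¹,
        (inferInstance : (frattini S).Normal).conj_mem _ (inv_mem h5) _, ?_⟩
      show a * ((((n ^ j : ↥(normalizer (S : Set G))) : G) * a * ((n ^ j : ↥(normalizer (S : Set G))) : G)⁻¹)⁻¹ * a)⁻¹ * a⁻¹ = _
      rw [SubgroupClass.coe_zpow]
      group)
    have hnK : mk n = 1 := (QuotientGroup.eq_one_iff _).2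
      (mem_innerPart.2 ⟨1, one_mem _, n, hcent (mem_zpowers (n : G)), (one_mul _).symm⟩)
    rw [hn, map_pow, hn₀] at hnK
    exact orderOf_eq_one_iff.1 (Nat.eq_one_of_dvd_coprimes hcopm (orderOf_dvd_of_pow_eq_one hnK) dvd_rfl)
  -- so the Frattini subgroup is trivial
  have hbot : frattini S = ⊥ := by
    by_contra hne'
    haveI : Group.IsNilpotent S := hSp.isNilpotent
    obtain ⟨y, hy, hy1⟩ := (bot_or_exists_ne_one _).resolve_left
      (CfsgLib.Coprime.nilpotent_inf_center_ne_bot (frattini S) hne')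
    obtain ⟨j, hj⟩ := hSp y
    obtain ⟨y, ⟨hyF, hyC⟩, hyo⟩ : ∃ y' : S, y' ∈ frattini S ⊓ center S ∧ orderOf y' = 2 := by
      have hd : 2 ∣ orderOf y := by
        obtain ⟨i, -, hi⟩ := (Nat.dvd_prime_pow Nat.prime_two).1 (orderOf_dvd_of_pow_eq_one hj)
        rcases i with _ | i
        · rw [pow_zero, orderOf_eq_one_iff] at hi; exact absurd hi hy1
        · rw [hi]; exact dvd_pow_self 2 (by omega)
      refine ⟨y ^ (orderOf y / 2), pow_mem hy _, ?_⟩
      rw [orderOf_pow_of_dvd (Nat.div_pos (Nat.le_of_dvd (orderOf_pos y) hd) two_pos).ne' (Nat.div_dvd_of_dvd hd)]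
      exact Nat.div_div_self hd (orderOf_pos y).ne'
    obtain ⟨n, hn, e⟩ := h.exists_conj_normalizer y.2
      (fun s hs => (congrArg Subtype.val (mem_center_iff.1 hyC ⟨s, hs⟩)).symm)
      (by rw [Subgroup.orderOf_coe, hyo])
    apply hu'
    have hm := Subgroup.characteristic_iff_map_eq.1 (inferInstance : (frattini S).Characteristic)
      (S.normalizerMonoidHom ⟨n⁻¹, inv_mem hn⟩)
    rw [← hm]
    refine ⟨y, hyF, Subtype.ext ?_⟩
    show n⁻¹ * (y : G) * n⁻¹⁻¹ = u
    rw [← e]; group
  have h2S : ∀ s : S, s * s = 1 := fun s => mem_bot.1 (hbot ▸ hsqF s)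
  have hcS : ∀ a b : S, a * b = b * a := fun a b => by
    have := hcommF a b
    rw [hbot, mem_bot, inv_mul_eq_one] at this
    exact this
  refine ⟨fun s hs => congrArg Subtype.val (h2S ⟨s, hs⟩), ?_⟩
  letI : CommGroup S := { (inferInstance : Group S) with mul_comm := hcS }
  let σ : L →* MulAut S := QuotientGroup.lift (innerPart S) S.normalizerMonoidHom
    (innerPart_le_ker (MonoidHom.id _) fun s => by
      ext a
      simp [MulAut.conj_apply, hcS s a])
  have hσ : ∀ (n : ↥(normalizer (S : Set G))) (a : S), ((σ (mk n) a : S) : G) = n * a * (n : G)⁻¹ :=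
    fun n a => rfl
  have hsemi : ∀ a ∈ A, ∀ s : S, s ≠ 1 → σ a s = s → a = 1 := by
    intro a ha s hs hfixs
    obtain ⟨n, hn, e⟩ := h.exists_conj_normalizer s.2
      (fun b hb => congrArg Subtype.val (hcS s ⟨b, hb⟩))
      (by rw [Subgroup.orderOf_coe]; exact CfsgLib.Char.SelfCentThree.orderOf_two (h2S s) hs)
    obtain ⟨m, rfl⟩ := QuotientGroup.mk'_surjective (innerPart S) a
    refine hAsemi _ ha (mk ⟨n, hn⟩) ?_
    rw [← map_inv, ← map_mul, ← map_mul]
    refine hstab _ ?_
    have e2 := congrArg Subtype.val hfixs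
    rw [hσ, ← e] at e2
    show n⁻¹ * m * n * u = u * (n⁻¹ * m * n)
    calc n⁻¹ * m * n * u = n⁻¹ * ((m : G) * (n * u * n⁻¹) * (m : G)⁻¹) * m * n := by group
      _ = n⁻¹ * (n * u * n⁻¹) * m * n := by rw [e2]
      _ = _ := by group
  have hfix2 : ∀ a : S, σ w a = a → (a : G) = 1 ∨ (a : G) = u := fun a ha => by
    have e := congrArg Subtype.val ha
    rw [hw, hσ] at e
    exact h.fix a.2 (mul_inv_eq_iff_eq_mul.1 e).symm
  have hF : Nat.card {a : S // σ w a = a} ≤ 2 := by
    haveI := Fintype.ofFinite G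
    refine (Nat.card_le_card_of_injective
      (fun a : {a : S // σ w a = a} => (⟨(a.1 : G), by
        simpa using hfix2 a.1 a.2⟩ : ({1, u} : Finset G)))
      fun a b hab => Subtype.ext (Subtype.ext (congrArg (fun c : ↥({1, u} : Finset G) => c.1) hab))).trans ?_
    rw [Nat.card_eq_fintype_card, Fintype.card_coe]
    exact Finset.card_le_two
  have h8 := card_le_eight σ h2S A hA1 hAc hw3 hAfix hsemi hF
  -- the order is two modulo three
  haveI := Fintype.ofFinite S
  haveI := Fintype.ofFinite G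
  have hvz : IsPGroup 3 (zpowers w) := by
    rintro ⟨g, hg⟩
    refine ⟨1, Subtype.ext ?_⟩
    obtain ⟨j, rfl⟩ := mem_zpowers_iff.1 hg
    show (w ^ j) ^ 3 ^ 1 = 1
    rw [pow_one, ← zpow_natCast, zpow_comm, zpow_natCast, pow_succ, pow_two, hw3, one_zpow]
  letI : MulAction (zpowers w) S := MulAction.compHom S (σ.comp (zpowers w).subtype)
  have hmod := hvz.card_modEq_card_fixedPoints S
  have hfp : Nat.card (MulAction.fixedPoints (zpowers w) S) = 2 := by
    have e1 : ∀ a : S, a ∈ MulAction.fixedPoints (zpowers w) S ↔ σ w a = a := fun a => by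
      refine ⟨fun ha => ha ⟨w, mem_zpowers w⟩, fun ha => ?_⟩
      rintro ⟨g, hg⟩
      show σ g a = a
      obtain ⟨j, rfl⟩ := mem_zpowers_iff.1 hg
      rw [map_zpow]
      exact MulAction.mem_stabilizer_iff.1 (zpow_mem (MulAction.mem_stabilizer_iff.2 (show σ w • a = a from ha)) j)
    have hu2 : (⟨u, h.uS⟩ : S) ∈ MulAction.fixedPoints (zpowers w) S := (e1 _).2 (Subtype.ext (by
      rw [hw, hσ]; exact mul_inv_eq_iff_eq_mul.2 h.six.huv.symm))
    have h12 : (1 : S) ∈ MulAction.fixedPoints (zpowers w) S := (e1 _).2 (map_one _)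
    haveI : Nontrivial (MulAction.fixedPoints (zpowers w) S) :=
      ⟨⟨⟨_, hu2⟩, ⟨_, h12⟩, fun e => h.six.u_ne (congrArg Subtype.val (congrArg Subtype.val e))⟩⟩
    refine le_antisymm ?_ Finite.one_lt_card
    refine (Nat.card_le_card_of_injective (fun a : MulAction.fixedPoints (zpowers w) S =>
      (⟨a.1, (e1 _).1 a.2⟩ : {a : S // σ w a = a})) fun a b hab => ?_).trans hF
    exact Subtype.ext (congrArg (fun c : {a : S // σ w a = a} => c.1) hab)
  rw [hfp] at hmod
  obtain ⟨e, he⟩ := IsPGroup.iff_card.1 hSp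
  have he3 : e ≤ 3 := by
    by_contra hc
    have : 2 ^ 4 ≤ 2 ^ e := Nat.pow_le_pow_right (by norm_num) (by omega)
    omega
  have he2 : 2 < 2 ^ e := by
    rw [← he, Nat.card_eq_fintype_card]
    refine Fintype.two_lt_card_iff.2 ⟨1, ⟨u, h.uS⟩, ⟨x, hx⟩, ?_, ?_, ?_⟩
    · exact fun c => h.six.u_ne (congrArg Subtype.val c).symm
    · exact fun c => CfsgLib.Char.SelfCentThree.ne_one_of_order hxo (by norm_num) (congrArg Subtype.val c).symm
    · exact fun c => hxu (congrArg Subtype.val c).symm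
  rw [he] at hmod ⊢
  interval_cases e <;> simp_all [Nat.ModEq]

end CfsgLib.Recog.OrderSix
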