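import Cfsg.Agent.Lib.Recog.OrderSix.TopBasic
import Cfsg.Agent.Lib.Recog.OrderSix.Elementary
import Cfsg.Agent.Lib.Recog.OrderSix.CentTwo
import Cfsg.Agent.Lib.Recog.OrderSix.EightCase

/-!
# The case with top of order three
-/

set_option autoImplicit false
set_option linter.unusedSectionVars false

namespace CfsgLib.Recog.OrderSix

open Subgroup

universe u

variable {G : Type u} [Group G] {u v : G} {Q O : Subgroup G}

/-- The two-core of a centralizer with top of order three is a Sylow subgroup. -/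
theorem Core.pSetup_three [Finite G] (h : Core u v Q O 3) : PSetup u v Q where
  six := h.six
  hS := h.six.exists_sylow_eq (H := centralizer ({u} : Set G))
    (fun g hg => mem_centralizer_singleton_iff.2 hg) h.hQ (k := 3 * Nat.card O)
    ((by decide : Odd 3).mul h.hO) (by rw [h.card]; ring)
  uS := h.uQ
  uc := fun _ hs => (h.qu hs).symm
  hvn := h.Qn h.v_mem
  normH := by
    intro n _ hnu
    have hvpow : ∀ i : ℕ, v ^ i ∈ h.QO → 3 ∣ i := by
      intro i hi
      by_contra h3
      obtain ⟨k, hk⟩ := exists_pow_eq_self_of_coprime (n := i) (x := v)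
        (by rw [h.six.hv]; exact (Nat.prime_three.coprime_iff_not_dvd.2 h3).symm)
      have h9 := pow_mem hi k
      rw [hk] at h9
      exact h.v_not_QO h9
    let F : h.QO × Fin 3 → centralizer ({u} : Set G) := fun a =>
      ⟨(a.1 : G) * v ^ (a.2 : ℕ), by
        obtain ⟨q, hq, o, ho, e⟩ := a.1.2
        exact e ▸ mul_mem (mul_mem (h.QC hq) (h.OC ho)) (pow_mem h.v_mem _)⟩
    have hF : Function.Bijective F := by
      refine Function.Injective.bijective_of_nat_card_le (fun a b e => ?_) ?_
      · obtain ⟨⟨x, hx⟩, i⟩ := a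
        obtain ⟨⟨y, hy⟩, j⟩ := b
        have e1 : x * v ^ (i : ℕ) = y * v ^ (j : ℕ) := congrArg Subtype.val e
        have e2 : v ^ ((i : ℕ) + (3 - (j : ℕ))) = x⁻¹ * y := by
          calc v ^ ((i : ℕ) + (3 - (j : ℕ))) = x⁻¹ * (x * v ^ (i : ℕ)) * v ^ (3 - (j : ℕ)) := by
                rw [pow_add]; group
            _ = x⁻¹ * y * v ^ ((j : ℕ) + (3 - (j : ℕ))) := by rw [e1, pow_add]; group
            _ = x⁻¹ * y := by
                rw [Nat.add_sub_cancel' (by have := j.2; omega), ← h.six.hv, pow_orderOf_eq_one,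
                  mul_one]
        have h8 := hvpow _ (e2 ▸ mul_mem (inv_mem hx) hy)
        have := i.2; have := j.2
        have hij : i = j := Fin.ext (by omega)
        subst hij
        exact Prod.ext (Subtype.ext (mul_right_cancel e1)) rfl
      · rw [Nat.card_prod, h.card_QO, h.card, Nat.card_fin, mul_comm]
    obtain ⟨⟨⟨x, hx⟩, i⟩, e⟩ := hF.2 ⟨n, mem_centralizer_singleton_iff.2 hnu⟩
    obtain ⟨q, hq, o, ho, rfl⟩ := hx
    exact ⟨q, hq, o, mem_centralizer_iff.2 fun g hg => (h.comm o ho g hg).symm, i,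
      (congrArg Subtype.val e).symm⟩

/-- A centralizer of an involution with top of order three does not occur. -/
theorem core_three [Finite G] [IsSimpleGroup G] (hG : ¬ IsMulCommutative G) {Q O : Subgroup G}
    (h : Core u v Q O 3) : False := by
  have hP := h.pSetup_three
  by_cases hne : ∃ z ∈ Q, (∀ s ∈ Q, z * s = s * z) ∧ z ≠ 1 ∧ z ≠ u
  · obtain ⟨z, hz, hzc, hz1, hzu⟩ := hne
    obtain ⟨hQe, hQ8⟩ := hP.elementary hz hzc hz1 hzu
    exact eight_case hG h.six Q O hQ8 hQe h.uQ h.QC h.OC h.hO h.Qn h.On h.comm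
      (by rw [h.card, hQ8])
  · push Not at hne
    exact hP.false_of_center hG fun z hz hzc => or_iff_not_imp_left.2 (hne z hz hzc)

end CfsgLib.Recog.OrderSix
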