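import Cfsg.Agent.Lib.Recog.OrderSix.EightLocal
import Cfsg.Agent.Lib.Char.Linear
import Cfsg.Agent.Lib.Char.Virtual
import Cfsg.Agent.Lib.Char.Induction
import Cfsg.Agent.Lib.Char.GLThreeCent.Decomp

/-!
# The two functions induced from `⟨uv⟩` and from `⟨u, v⟩ O`
-/

set_option autoImplicit false
set_option linter.unusedSectionVars false
set_option linter.style.haveILetI false

open Cfsg
open scoped ComplexConjugate

namespace CfsgLib.Recog.OrderSix

open Subgroup CfsgLib.Char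

universe u

theorem exists_omega : ∃ w : ℂ, w ^ 2 + w + 1 = 0 ∧ conj w = w ^ 2 ∧
    ∀ a b : ℤ, (a : ℂ) + (b : ℂ) * w = 0 → a = 0 ∧ b = 0 := by
  have hs : Real.sqrt 3 * Real.sqrt 3 = 3 := Real.mul_self_sqrt (by norm_num)
  refine ⟨⟨-1/2, Real.sqrt 3 / 2⟩, ?_, ?_, fun a b hab => ?_⟩
  · apply Complex.ext <;> simp [pow_two] <;> nlinarith
  · apply Complex.ext <;> simp [pow_two] <;> nlinarith
  · have h1 := congrArg Complex.im hab
    simp at h1
    have h2 : b = 0 := h1
    subst h2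
    simp at hab
    exact ⟨hab, rfl⟩

variable {G : Type u} [Group G] [Fintype G] {u v : G} {Q O : Subgroup G}

theorem Eight.pow_t (h : Eight u v Q O) : (u * v) ^ 6 = 1 ∧ (u * v) ^ 3 = u := by
  have huv : Commute u v := h.six.huv
  have h3 : (u * v) ^ 3 = u := by
    rw [huv.mul_pow, show v ^ 3 = 1 by rw [← h.six.hv]; exact pow_orderOf_eq_one v, mul_one,
      pow_succ, pow_two, h.six.uu, one_mul]
  exact ⟨by rw [show 6 = 3 * 2 from rfl, pow_mul, h3, pow_two, h.six.uu], h3⟩

theorem Eight.orderOf_t (h : Eight u v Q O) : orderOf (u * v) = 6 := by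
  rw [(show Commute u v from h.six.huv).orderOf_mul_eq_mul_orderOf_of_coprime
    (by rw [h.six.hu, h.six.hv]; norm_num), h.six.hu, h.six.hv]

theorem Eight.commute_t (h : Eight u v Q O) {g : G} (hg : g * (u * v) = u * v * g) :
    g ∈ zpowers (u * v) := by
  have hc : Commute g (u * v) := hg
  have h6 := h.pow_t
  have huv : Commute u v := h.six.huv
  have hu4 : u ^ 4 = 1 := by rw [show 4 = 2 * 2 from rfl, pow_mul, show u ^ 2 = 1 by rw [pow_two, h.six.uu], one_pow]
  have hv4 : (u * v) ^ 4 = v := by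
    rw [huv.mul_pow, hu4, one_mul, pow_succ, show v ^ 3 = 1 by rw [← h.six.hv]; exact pow_orderOf_eq_one v, one_mul]
  have hgu : g * u = u * g := by
    have := (hc.pow_right 3).eq
    rwa [h6.2] at this
  have hgv : g * v = v * g := by
    have := (hc.pow_right 4).eq
    rwa [hv4] at this
  have hu : u ∈ zpowers (u * v) := by
    have := pow_mem (mem_zpowers (u * v)) 3
    rwa [h6.2] at this
  have hv : v ∈ zpowers (u * v) := by
    have := pow_mem (mem_zpowers (u * v)) 4
    rwa [hv4] at this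
  rcases h.six.cent g hgu hgv with e | e | e | e | e | e <;> rw [e]
  exacts [one_mem _, hu, hv, inv_mem hv, mul_mem hu hv, mul_mem hu (inv_mem hv)]

theorem Eight.t_inv_ne (h : Eight u v Q O) : (u * v)⁻¹ ≠ u * v := fun e =>
  h.not_real 1 (by rw [one_mul, inv_one, mul_one, e])

/-- The function on `⟨uv⟩` supported at the two generators. -/
noncomputable def tFun (t : G) (w : ℂ) : zpowers t → ℂ := fun x =>
  haveI := Classical.decEq G
  if (x : G) = t then 2 * (1 - w) else if (x : G) = t⁻¹ then 2 * (1 - w ^ 2) else 0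

theorem Eight.gen_tFun (h : Eight u v Q O) {w : ℂ} (hw : w ^ 2 + w + 1 = 0) :
    IsGeneralizedCharacter (zpowers (u * v)) (tFun (u * v) w) := by
  classical
  set t := u * v
  have hw3 : w ^ 3 = 1 := by linear_combination (w - 1) * hw
  have hne : -w ≠ 0 := fun e => by rw [neg_eq_zero] at e; rw [e] at hw; norm_num at hw
  set ζ : ℂˣ := Units.mk0 (-w) hne
  have hζ : ζ ^ 6 = 1 := Units.ext (by
    simp only [Units.val_pow_eq_pow_val, ζ, Units.val_mk0, Units.val_one]
    linear_combination (w ^ 3 + 1) * hw3)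
  set T : zpowers t := ⟨t, mem_zpowers t⟩
  have hgen : ∀ x : zpowers t, x ∈ zpowers T := fun x => by
    obtain ⟨k, hk⟩ := mem_zpowers_iff.1 x.2
    exact mem_zpowers_iff.2 ⟨k, Subtype.ext hk⟩
  have hord : orderOf ζ ∣ orderOf T := by
    rw [← Subgroup.orderOf_coe T, show orderOf (T : G) = 6 from h.orderOf_t]
    exact orderOf_dvd_of_pow_eq_one hζ
  set μ : zpowers t →* ℂˣ := monoidHomOfForallMemZpowers hgen hord
  have hμ : μ T = ζ := monoidHomOfForallMemZpowers_apply_gen hgen hord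
  have hlin : ∀ n : ℕ, IsGeneralizedCharacter (zpowers t) fun x => ((μ x : ℂˣ) : ℂ) ^ n := fun n => by
    have := isGeneralizedCharacter_of_isCharacter (isCharacter_of_isIrr (isIrrCharacter_lin (μ ^ n)))
    simpa using this
  convert isGeneralizedCharacter_add (isGeneralizedCharacter_sub
    (isGeneralizedCharacter_sub (hlin 0) (hlin 3)) (hlin 4)) (hlin 7) using 1
  funext x
  obtain ⟨k, hk, hkx⟩ := Finset.mem_image.1 (mem_zpowers_iff_mem_range_orderOf.1 x.2)
  rw [show orderOf t = 6 from h.orderOf_t, Finset.mem_range] at hk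
  obtain rfl : x = T ^ k := Subtype.ext hkx.symm
  simp only [map_pow, hμ, Pi.add_apply, Pi.sub_apply, pow_zero, tFun, Units.val_pow_eq_pow_val,
    SubmonoidClass.coe_pow, ζ, Units.val_mk0]
  show (if t ^ k = t then 2 * (1 - w) else if t ^ k = t⁻¹ then 2 * (1 - w ^ 2) else 0) = _
  have hinj : ∀ i j, i < 6 → j < 6 → t ^ i = t ^ j → i = j := fun i j hi hj e =>
    pow_injOn_Iio_orderOf (by rw [Set.mem_Iio, h.orderOf_t]; exact hi)
      (by rw [Set.mem_Iio, h.orderOf_t]; exact hj) e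
  have h5 : t⁻¹ = t ^ 5 := inv_eq_of_mul_eq_one_right (by rw [← pow_succ']; exact h.pow_t.1)
  have hd1 : t ^ k = t ↔ k = 1 := ⟨fun e => hinj k 1 hk (by norm_num) (by rw [e, pow_one]), fun e => by
    rw [e, pow_one]⟩
  have hd5 : t ^ k = t⁻¹ ↔ k = 5 := ⟨fun e => hinj k 5 hk (by norm_num) (e.trans h5), fun e => by
    rw [e, h5]⟩
  simp only [hd1, hd5]
  interval_cases k <;> norm_num <;>
    first
      | linear_combination (1 - 3 * w + 2 * w ^ 2 - w ^ 4 + w ^ 5) * hw
      | linear_combination -(1 - 3 * w + 2 * w ^ 2 - w ^ 4 + w ^ 5) * hw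
      | linear_combination (-1 + w - w ^ 3 + w ^ 4 + w ^ 8 - w ^ 9 + w ^ 11 - w ^ 12) * hw
      | linear_combination -(-1 + w - w ^ 3 + w ^ 4 + w ^ 8 - w ^ 9 + w ^ 11 - w ^ 12) * hw
      | linear_combination (-1 + w - w ^ 3 + w ^ 4 - w ^ 6 + w ^ 7 - 2 * w ^ 9 + 2 * w ^ 10 - w ^ 12 + w ^ 13 - w ^ 15 + w ^ 16 - w ^ 18 + w ^ 19) * hw
      | linear_combination -(-1 + w - w ^ 3 + w ^ 4 - w ^ 6 + w ^ 7 - 2 * w ^ 9 + 2 * w ^ 10 - w ^ 12 + w ^ 13 - w ^ 15 + w ^ 16 - w ^ 18 + w ^ 19) * hw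
      | linear_combination (-1 + w - w ^ 3 + w ^ 4 - w ^ 6 + w ^ 7 - w ^ 9 + w ^ 10 + w ^ 16 - w ^ 17 + w ^ 19 - w ^ 20 + w ^ 22 - w ^ 23 + w ^ 25 - w ^ 26) * hw
      | linear_combination -(-1 + w - w ^ 3 + w ^ 4 - w ^ 6 + w ^ 7 - w ^ 9 + w ^ 10 + w ^ 16 - w ^ 17 + w ^ 19 - w ^ 20 + w ^ 22 - w ^ 23 + w ^ 25 - w ^ 26) * hw
      | linear_combination (1 - w - 2 * w ^ 2 + 3 * w ^ 3 - w ^ 4 - 2 * w ^ 5 + 3 * w ^ 6 - w ^ 7 - 2 * w ^ 8 + 3 * w ^ 9 - w ^ 10 - 2 * w ^ 11 + 3 * w ^ 12 - w ^ 13 - 2 * w ^ 14 + 2 * w ^ 15 - 2 * w ^ 17 + 2 * w ^ 18 - w ^ 20 + w ^ 21 - w ^ 23 + w ^ 24 - w ^ 26 + w ^ 27 - w ^ 29 + w ^ 30 - w ^ 32 + w ^ 33) * hw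
      | linear_combination -(1 - w - 2 * w ^ 2 + 3 * w ^ 3 - w ^ 4 - 2 * w ^ 5 + 3 * w ^ 6 - w ^ 7 - 2 * w ^ 8 + 3 * w ^ 9 - w ^ 10 - 2 * w ^ 11 + 3 * w ^ 12 - w ^ 13 - 2 * w ^ 14 + 2 * w ^ 15 - 2 * w ^ 17 + 2 * w ^ 18 - w ^ 20 + w ^ 21 - w ^ 23 + w ^ 24 - w ^ 26 + w ^ 27 - w ^ 29 + w ^ 30 - w ^ 32 + w ^ 33) * hw

theorem Eight.sum_tFun (h : Eight u v Q O) [Fintype (zpowers (u * v))] (w : ℂ) (φ : G → ℂ) :
    ∑ x : zpowers (u * v), tFun (u * v) w x * φ x =
      2 * (1 - w) * φ (u * v) + 2 * (1 - w ^ 2) * φ (u * v)⁻¹ := by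
  classical
  rw [Finset.sum_eq_add (⟨u * v, mem_zpowers _⟩ : zpowers (u * v))
    ⟨(u * v)⁻¹, inv_mem (mem_zpowers _)⟩ (fun e => h.t_inv_ne (congrArg Subtype.val e).symm)
    (fun x _ hx => ?_) (by simp) (by simp)]
  · simp [tFun, h.t_inv_ne, -_root_.mul_inv_rev]
  · have h1 : (x : G) ≠ u * v := fun e => hx.1 (Subtype.ext e)
    have h2 : (x : G) ≠ (u * v)⁻¹ := fun e => hx.2 (Subtype.ext e)
    simp only [tFun]
    rw [if_neg h1, if_neg h2, zero_mul]

theorem Eight.indFun_t (h : Eight u v Q O) (w : ℂ) :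
    indFun (zpowers (u * v)) (tFun (u * v) w) (u * v) = 2 * (1 - w) ∧
    indFun (zpowers (u * v)) (tFun (u * v) w) (u * v)⁻¹ = 2 * (1 - w ^ 2) := by
  classical
  set t := u * v
  have key : ∀ (y : G) (c : ℂ) (hy : y ∈ zpowers t), (∀ g : G, g * t = t * g → g * y = y * g) →
      (y = t ∨ y = t⁻¹) → tFun t w ⟨y, hy⟩ = c → indFun (zpowers t) (tFun t w) y = c := by
    intro y c hy hyc hyt hc
    have hterm : ∀ g : G, extendByZero (zpowers t) (tFun t w) (g⁻¹ * y * g) =
        if g ∈ zpowers t then c else 0 := by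
      intro g
      by_cases hg : g ∈ zpowers t
      · obtain ⟨i, rfl⟩ := mem_zpowers_iff.1 hg
        have e : (t ^ i)⁻¹ * y * t ^ i = y := by
          rw [mul_assoc, ← hyc _ (Commute.zpow_self t i).eq, inv_mul_cancel_left]
        rw [e, if_pos hg, extendByZero_mem _ _ hy, hc]
      · rw [if_neg hg]
        by_cases hm : g⁻¹ * y * g ∈ zpowers t
        swap
        · exact extendByZero_not_mem _ _ hm
        rw [extendByZero_mem _ _ hm]
        simp only [tFun]
        have hcy : ∀ z : G, z * y = y * z → z * t = t * z := fun z hz => by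
          rcases hyt with rfl | rfl
          · exact hz
          · simpa using ((show Commute z t⁻¹ from hz).inv_right).eq
        rw [if_neg, if_neg]
        · intro e
          rcases hyt with rfl | rfl
          · exact h.not_real g⁻¹ (by rw [inv_inv]; exact e)
          · refine hg (h.commute_t (g := g) ?_)
            have e2 : g⁻¹ * t * g = t := inv_injective (by
              rw [_root_.mul_inv_rev, _root_.mul_inv_rev, inv_inv, ← mul_assoc]; exact e)
            calc g * t = g * (g⁻¹ * t * g) := by rw [e2]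
              _ = t * g := by group
        · intro e
          rcases hyt with rfl | rfl
          · refine hg (h.commute_t (g := g) ?_)
            calc g * t = g * (g⁻¹ * t * g) := by rw [e]
              _ = t * g := by group
          · refine h.not_real g⁻¹ ?_
            rw [inv_inv]
            refine inv_injective ?_
            rw [_root_.mul_inv_rev, _root_.mul_inv_rev, inv_inv, inv_inv, ← mul_assoc]
            exact e
    have h6 : (Nat.card (zpowers t) : ℂ) = 6 := by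
      rw [Nat.card_zpowers, show orderOf t = 6 from h.orderOf_t]; norm_num
    rw [indFun, Finset.sum_congr rfl fun g _ => hterm g, ← Finset.sum_filter, Finset.sum_const,
      ← Fintype.card_subtype, ← Nat.card_eq_fintype_card,
      show Nat.card {g : G // g ∈ zpowers t} = Nat.card (zpowers t) from rfl, nsmul_eq_mul, h6]
    field_simp
  refine ⟨key t _ (mem_zpowers t) (fun g hg => hg) (Or.inl rfl) (by simp [tFun]),
    key t⁻¹ _ (inv_mem (mem_zpowers t)) (fun g hg => ((show Commute g t from hg).inv_right).eq) (Or.inr rfl)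
      (by simp [tFun, h.t_inv_ne, t, -_root_.mul_inv_rev])⟩

/-- The function on `⟨u, v⟩ O` supported off `⟨v⟩ O`. -/
noncomputable def Eight.uFun (h : Eight u v Q O) : h.uvo → ℂ := fun x =>
  haveI := Classical.dec ((x : G) ∈ h.vo)
  if (x : G) ∈ h.vo then 0 else 2

theorem Eight.gen_uFun (h : Eight u v Q O) : IsGeneralizedCharacter h.uvo h.uFun := by
  classical
  have hidx : (h.vo.subgroupOf h.uvo).index = 2 := by
    have h1 := (h.vo.subgroupOf h.uvo).card_mul_index
    rw [Nat.card_congr (subgroupOfEquivOfLe (fun g hg => Or.inl hg : h.vo ≤ h.uvo)).toEquiv, h.card_vo,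
      h.card_uvo] at h1
    have hpos : 0 < Nat.card O := Nat.card_pos
    nlinarith
  let σ : h.uvo →* ℂˣ :=
    { toFun := fun x => if x ∈ h.vo.subgroupOf h.uvo then 1 else -1
      map_one' := if_pos (one_mem _)
      map_mul' := fun x y => by
        have := mul_mem_iff_of_index_two hidx (a := x) (b := y)
        by_cases hx : x ∈ h.vo.subgroupOf h.uvo <;> by_cases hy : y ∈ h.vo.subgroupOf h.uvo <;>
          simp [this, hx, hy] }
  convert isGeneralizedCharacter_sub
    (isGeneralizedCharacter_of_isCharacter (isCharacter_of_isIrr (isIrrCharacter_one (G := h.uvo))))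
    (isGeneralizedCharacter_of_isCharacter (isCharacter_of_isIrr (isIrrCharacter_lin σ))) using 1
  funext x
  simp only [Pi.sub_apply, Eight.uFun, σ, MonoidHom.coe_mk, OneHom.coe_mk, mem_subgroupOf]
  split_ifs <;> norm_num

theorem Eight.conj_u_mul (h : Eight u v Q O) {o : G} (ho : o ∈ O) :
    IsConj (u * v) (u * (v ^ 1 * o)) ∧ IsConj (u * v)⁻¹ (u * (v ^ 2 * o)) := by
  have hfix : ∀ w : G, w * w * (w * w) = w → (∀ x ∈ O, x * w = w * x → x = 1) →
      ∀ x ∈ O, x * (w * w) = w * w * x → x = 1 := fun w e hx x hxO hc => hx x hxO (by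
    rw [← e]; exact ((show Commute x (w * w) from hc).mul_right hc).eq)
  constructor
  · obtain ⟨a, ha, e⟩ := h.exists_conj h.v_mem (fun x hx he => h.fpf hx he) ho
    refine isConj_iff.2 ⟨a, ?_⟩
    rw [pow_one, ← e, ← mul_assoc, mem_centralizer_singleton_iff.1 (h.hOC ha)]
    group
  · have hv4 : v * v * (v * v) = v := by
      calc v * v * (v * v) = v * v * v * v := by group
        _ = v := by rw [h.six.vvv, one_mul]
    obtain ⟨a, ha, e⟩ := h.exists_conj (mul_mem h.v_mem h.v_mem)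
      (hfix v hv4 fun x hx he => h.fpf hx he) ho
    refine isConj_iff.2 ⟨a, ?_⟩
    have e1 : (u * v)⁻¹ = u * (v * v) := by
      refine inv_eq_of_mul_eq_one_right ?_
      calc u * v * (u * (v * v)) = u * (v * u) * (v * v) := by group
        _ = (u * u) * (v * v * v) := by rw [← h.six.huv]; group
        _ = 1 := by rw [h.six.uu, h.six.vvv, one_mul]
    rw [e1, pow_two, ← e, ← mul_assoc a u, mem_centralizer_singleton_iff.1 (h.hOC ha)]
    group

theorem Eight.sum_uFun (h : Eight u v Q O) [Fintype h.uvo] [Fintype O] (φ : G → ℂ)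
    (hφ : ∀ a b : G, IsConj a b → φ a = φ b) :
    ∑ x : h.uvo, h.uFun x * φ x =
      2 * (∑ o : O, φ (u * (o : G))) +
        2 * (Nat.card O : ℂ) * (φ (u * v) + φ (u * v)⁻¹) := by
  classical
  have hmem : ∀ p : Fin 3 × O, u * (v ^ (p.1 : ℕ) * (p.2 : G)) ∈ h.uvo := fun p => Or.inr (by
    rw [← mul_assoc, h.six.uu, one_mul]; exact h.mem_vo_iff.2 ⟨p.1, p.2, rfl⟩)
  have hnot : ∀ p : Fin 3 × O, u * (v ^ (p.1 : ℕ) * (p.2 : G)) ∉ h.vo := fun p hm =>
    h.u_notMem ((h.vo.mul_mem_cancel_right (h.mem_vo_iff.2 ⟨p.1, p.2, rfl⟩)).1 hm)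
  have hsum : ∑ x : h.uvo, h.uFun x * φ x =
      ∑ p : Fin 3 × O, 2 * φ (u * (v ^ (p.1 : ℕ) * (p.2 : G))) := by
    refine (Finset.sum_bij_ne_zero (fun p _ _ => (⟨_, hmem p⟩ : h.uvo)) (fun p _ _ => Finset.mem_univ _)
      (fun p _ _ p' _ _ e => ?_) (fun x _ hx => ?_) (fun p _ _ => ?_)).symm
    · obtain ⟨e1, e2⟩ := h.eq_of_pow_mul (mul_left_cancel (congrArg Subtype.val e))
      exact Prod.ext e1 e2
    · have hxv : (x : G) ∉ h.vo := fun hm => hx (by simp [Eight.uFun, hm])
      obtain ⟨j, o, e⟩ := h.mem_vo_iff.1 (x.2.resolve_left hxv)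
      have ex : u * (v ^ (j : ℕ) * (o : G)) = (x : G) := by
        rw [← e, ← mul_assoc, h.six.uu, one_mul]
      refine ⟨(j, o), Finset.mem_univ _, fun e0 => hx ?_, Subtype.ext ex⟩
      simp only [ex] at e0
      simpa [Eight.uFun, hxv] using e0
    · simp [Eight.uFun, hnot p]
  rw [hsum, Fintype.sum_prod_type, Fin.sum_univ_three, ← Finset.mul_sum, ← Finset.mul_sum, ← Finset.mul_sum,
    mul_add]
  simp only [Fin.val_zero, Fin.val_one, Fin.val_two, pow_zero, one_mul]
  rw [Finset.sum_congr rfl fun o _ => (hφ _ _ (h.conj_u_mul o.2).1).symm,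
    Finset.sum_congr rfl fun o _ => (hφ _ _ (h.conj_u_mul o.2).2).symm, Finset.sum_const, Finset.sum_const,
    Finset.card_univ, ← Nat.card_eq_fintype_card, nsmul_eq_mul, nsmul_eq_mul]
  ring

theorem Eight.indFun_u (h : Eight u v Q O) {o : G} (ho : o ∈ O) :
    indFun h.uvo h.uFun (u * o) = 8 := by
  classical
  have hou : o * u = u * o := mem_centralizer_singleton_iff.1 (h.hOC ho)
  have hoV : o ∈ h.vo := ⟨0, o, ho, by simp⟩
  have hterm : ∀ g : G, extendByZero h.uvo h.uFun (g⁻¹ * (u * o) * g) =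
      if g ∈ centralizer ({u} : Set G) then 2 else 0 := by
    intro g
    by_cases hg : g ∈ centralizer ({u} : Set G)
    · have hgu : g * u = u * g := mem_centralizer_singleton_iff.1 hg
      have e : g⁻¹ * (u * o) * g = u * (g⁻¹ * o * g) := by
        calc g⁻¹ * (u * o) * g = g⁻¹ * (u * g) * (g⁻¹ * o * g) := by group
          _ = g⁻¹ * (g * u) * (g⁻¹ * o * g) := by rw [hgu]
          _ = _ := by group
      have ho' : g⁻¹ * o * g ∈ h.vo := ⟨0, _, by
        have := h.conj_O (inv_mem hg) ho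
        rwa [inv_inv] at this, by simp⟩
      have hm : g⁻¹ * (u * o) * g ∈ h.uvo := Or.inr (by rw [e, ← mul_assoc, h.six.uu, one_mul]; exact ho')
      have hnv : g⁻¹ * (u * o) * g ∉ h.vo := by
        rw [e]; exact fun hv => h.u_notMem ((h.vo.mul_mem_cancel_right ho').1 hv)
      rw [if_pos hg, extendByZero_mem _ _ hm]
      simp [Eight.uFun, hnv]
    · rw [if_neg hg]
      by_cases hm : g⁻¹ * (u * o) * g ∈ h.uvo
      swap
      · exact extendByZero_not_mem _ _ hm
      rw [extendByZero_mem _ _ hm]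
      by_cases hv : g⁻¹ * (u * o) * g ∈ h.vo
      · simp [Eight.uFun, hv]
      refine absurd ?_ hg
      set k := u * (g⁻¹ * (u * o) * g) with hk
      have hkV : k ∈ h.vo := hm.resolve_left hv
      have hku : Commute u k := (mem_centralizer_singleton_iff.1 (h.vo_le hkV)).symm
      obtain ⟨c, hc⟩ := (by decide : Odd 3).mul h.hO
      have hum : u ^ (3 * Nat.card O) = u := by
        rw [hc, pow_succ, pow_mul, pow_two, h.six.uu, one_pow, one_mul]
      have e1 : g⁻¹ * (u * o) * g⁻¹⁻¹ = u * k := by rw [inv_inv, hk, ← mul_assoc u u, h.six.uu, one_mul]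
      have e2 : (g⁻¹ * (u * o) * g⁻¹⁻¹) ^ (3 * Nat.card O) = (u * k) ^ (3 * Nat.card O) := by rw [e1]
      rw [conj_pow, hku.mul_pow, (show Commute u o from hou.symm).mul_pow, hum, h.vo_pow hkV,
        h.vo_pow hoV, mul_one, inv_inv] at e2
      refine mem_centralizer_singleton_iff.2 ?_
      calc g * u = g * (g⁻¹ * u * g) := by rw [e2]
        _ = u * g := by group
  rw [indFun, Finset.sum_congr rfl fun g _ => hterm g, ← Finset.sum_filter, Finset.sum_const,
    ← Fintype.card_subtype, ← Nat.card_eq_fintype_card,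
    show Nat.card {g : G // g ∈ centralizer ({u} : Set G)} = Nat.card (centralizer ({u} : Set G)) from rfl,
    h.hcard, h.card_uvo, nsmul_eq_mul]
  have : (Nat.card O : ℂ) ≠ 0 := Nat.cast_ne_zero.2 Nat.card_pos.ne'
  push_cast
  field_simp
  ring

theorem Eight.indFun_uv (h : Eight u v Q O) : indFun h.uvo h.uFun (u * v) = 2 := by
  classical
  have hv : v ∈ h.vo := ⟨1, 1, one_mem _, by simp⟩
  have ht : u * v ∈ h.uvo := Or.inr (by rw [← mul_assoc, h.six.uu, one_mul]; exact hv)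
  have hterm : ∀ g : G, extendByZero h.uvo h.uFun (g⁻¹ * (u * v) * g) =
      if g ∈ h.uvo then 2 else 0 := by
    intro g
    by_cases hg : g ∈ h.uvo
    · have hm : g⁻¹ * (u * v) * g ∈ h.uvo := mul_mem (mul_mem (inv_mem hg) ht) hg
      have hnv : g⁻¹ * (u * v) * g ∉ h.vo := by
        intro hh
        have h1 := h.vo_pow hh
        rw [show g⁻¹ * (u * v) * g = g⁻¹ * (u * v) * g⁻¹⁻¹ by rw [inv_inv], conj_pow,
          (show Commute u v from h.six.huv).mul_pow, h.vo_pow hv, mul_one, conj_eq_one_iff,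
          ← orderOf_dvd_iff_pow_eq_one, h.six.hu] at h1
        exact ((by decide : Odd 3).mul h.hO).not_two_dvd_nat h1
      rw [if_pos hg, extendByZero_mem _ _ hm]
      simp [Eight.uFun, hnv]
    · rw [if_neg hg]
      by_cases hm : g⁻¹ * (u * v) * g ∈ h.uvo
      swap
      · exact extendByZero_not_mem _ _ hm
      rw [extendByZero_mem _ _ hm]
      by_cases hh : g⁻¹ * (u * v) * g ∈ h.vo
      · simp [Eight.uFun, hh]
      refine absurd (h.mem_of_conj (hm.resolve_left hh) ?_) hg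
      rw [← mul_assoc u u, h.six.uu, one_mul]
  rw [indFun, Finset.sum_congr rfl fun g _ => hterm g, ← Finset.sum_filter, Finset.sum_const,
    ← Fintype.card_subtype, ← Nat.card_eq_fintype_card,
    show Nat.card {g : G // g ∈ h.uvo} = Nat.card h.uvo from rfl, nsmul_eq_mul]
  have : (Nat.card h.uvo : ℂ) ≠ 0 := Nat.cast_ne_zero.2 Nat.card_pos.ne'
  field_simp

end CfsgLib.Recog.OrderSix
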