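import Cfsg.Agent.Lib.Recog.OrderSix.Basic
import Mathlib.GroupTheory.SpecificGroups.Cyclic

/-!
# The centralizer `(E₈ × O) ⋊ ⟨v⟩`: local facts
-/

set_option autoImplicit false
set_option linter.unusedSectionVars false

namespace CfsgLib.Recog.OrderSix

open Subgroup

universe u

variable {G : Type u} [Group G] {u v : G}

/-- The centralizer of `u` is `(E₈ × O) ⋊ ⟨v⟩`. -/
structure Eight (u v : G) (Q O : Subgroup G) : Prop where
  six : Six u v
  hQ : Nat.card Q = 8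
  hQe : ∀ q ∈ Q, q * q = 1
  huQ : u ∈ Q
  hQC : Q ≤ centralizer ({u} : Set G)
  hOC : O ≤ centralizer ({u} : Set G)
  hO : Odd (Nat.card O)
  hQn : centralizer ({u} : Set G) ≤ normalizer (Q : Set G)
  hOn : centralizer ({u} : Set G) ≤ normalizer (O : Set G)
  hcomm : ∀ o ∈ O, ∀ q ∈ Q, o * q = q * o
  hcard : Nat.card (centralizer ({u} : Set G)) = 3 * (8 * Nat.card O)

variable [Finite G] {Q O : Subgroup G}

theorem Eight.v_mem (_h : Eight u v Q O) : v ∈ centralizer ({u} : Set G) :=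
  mem_centralizer_singleton_iff.2 _h.six.huv.symm

theorem Eight.conj_O (h : Eight u v Q O) {c o : G} (hc : c ∈ centralizer ({u} : Set G)) (ho : o ∈ O) :
    c * o * c⁻¹ ∈ O :=
  (mem_normalizer_iff.1 (h.hOn hc) o).1 ho

/-- The odd order elements of `O`. -/
theorem Eight.O_pow (h : Eight u v Q O) {o : G} (ho : o ∈ O) (h2 : o * o = 1) : o = 1 := by
  by_contra hne
  have := CfsgLib.Char.SelfCentThree.orderOf_two h2 hne
  exact h.hO.not_two_dvd_nat (this ▸ Subgroup.orderOf_dvd_natCard O ho)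

theorem Eight.not_mem (h : Eight u v Q O) {q o : G} (hq : q ∈ Q) (ho : o ∈ O) : v ≠ q * o := by
  intro e
  have hc : Commute q o := (h.hcomm o ho q hq).symm
  have h4 : v * v * (v * v) = v := by
    calc v * v * (v * v) = v * v * v * v := by group
      _ = v := by rw [h.six.vvv, one_mul]
  have hv2 : v * v = o * o := by
    rw [e, ← pow_two, hc.mul_pow, pow_two, pow_two, h.hQe q hq, one_mul]
  have hvO : v ∈ O := by rw [← h4, hv2]; exact mul_mem (mul_mem ho ho) (mul_mem ho ho)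
  have hle : ∀ x ∈ Q, x = 1 ∨ x = u := by
    intro x hx
    refine h.six.fix (mem_centralizer_singleton_iff.1 (h.hQC hx)) (h.hcomm v hvO x hx).symm fun h3 => ?_
    have h1 : orderOf x ∣ 2 := orderOf_dvd_of_pow_eq_one (by rw [pow_two, h.hQe x hx])
    have := h3.trans h1
    norm_num at this
  have hlt : Nat.card Q ≤ Nat.card (zpowers u) := card_le_of_le fun x hx => by
    rcases hle x hx with e' | e' <;> rw [e']
    · exact one_mem _
    · exact mem_zpowers u
  rw [h.hQ, Nat.card_zpowers, h.six.hu] at hlt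
  omega

/-- The product `Q O`. -/
def Eight.qo (h : Eight u v Q O) : Subgroup G where
  carrier := {g | ∃ q ∈ Q, ∃ o ∈ O, g = q * o}
  one_mem' := ⟨1, one_mem _, 1, one_mem _, (one_mul 1).symm⟩
  mul_mem' := by
    rintro a b ⟨q, hq, o, ho, rfl⟩ ⟨q', hq', o', ho', rfl⟩
    refine ⟨q * q', mul_mem hq hq', o * o', mul_mem ho ho', ?_⟩
    rw [show q * o * (q' * o') = q * (o * q') * o' by group, h.hcomm o ho q' hq']; group
  inv_mem' := by
    rintro a ⟨q, hq, o, ho, rfl⟩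
    exact ⟨q⁻¹, inv_mem hq, o⁻¹, inv_mem ho, by rw [← _root_.mul_inv_rev, h.hcomm o ho q hq]⟩

theorem Eight.comm_qo (h : Eight u v Q O) {c : G} (hc : c ∈ centralizer ({u} : Set G)) :
    c * v * c⁻¹ * v⁻¹ ∈ h.qo := by
  classical
  set C := centralizer ({u} : Set G) with hC
  have hle : h.qo ≤ C := by
    rintro _ ⟨q, hq, o, ho, rfl⟩
    exact mul_mem (h.hQC hq) (h.hOC ho)
  haveI hWn : (h.qo.subgroupOf C).Normal := ⟨fun x hx g => by
    obtain ⟨q, hq, o, ho, e⟩ := hx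
    refine ⟨(g : G) * q * (g : G)⁻¹, (mem_normalizer_iff.1 (h.hQn g.2) q).1 hq,
      (g : G) * o * (g : G)⁻¹, h.conj_O g.2 ho, ?_⟩
    show (g : G) * (x : G) * (g : G)⁻¹ = _
    rw [show (x : G) = q * o from e]
    group⟩
  have hcard : Nat.card h.qo = 8 * Nat.card O := by
    rw [← h.hQ, ← Nat.card_prod]
    refine (Nat.card_congr (Equiv.ofBijective
      (fun x : Q × O => (⟨(x.1 : G) * x.2, x.1, x.1.2, x.2, x.2.2, rfl⟩ : h.qo)) ⟨?_, ?_⟩)).symm
    · rintro ⟨q, o⟩ ⟨q', o'⟩ e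
      have e1 : (q : G) * o = q' * o' := congrArg Subtype.val e
      have e2 : (q' : G)⁻¹ * q = o' * (o : G)⁻¹ := by
        rw [eq_mul_inv_iff_mul_eq, mul_assoc, e1, inv_mul_cancel_left]
      have e3 : (q' : G)⁻¹ * q = 1 := by
        have hm : (q' : G)⁻¹ * q ∈ O := e2 ▸ mul_mem o'.2 (inv_mem o.2)
        exact h.O_pow hm (h.hQe _ (mul_mem (inv_mem q'.2) q.2))
      have e4 : (q : G) = q' := (inv_mul_eq_one.1 e3).symm
      rw [e4, mul_right_inj] at e1
      exact Prod.ext (Subtype.ext e4) (Subtype.ext e1)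
    · rintro ⟨_, q, hq, o, ho, rfl⟩
      exact ⟨(⟨q, hq⟩, ⟨o, ho⟩), rfl⟩
  have hidx : Nat.card (C ⧸ h.qo.subgroupOf C) = 3 := by
    have h1 := (h.qo.subgroupOf C).card_mul_index
    rw [Nat.card_congr (subgroupOfEquivOfLe hle).toEquiv, hcard, h.hcard] at h1
    have hpos : 0 < 8 * Nat.card O := Nat.mul_pos (by norm_num) Nat.card_pos
    rw [mul_comm 3] at h1
    show (h.qo.subgroupOf C).index = 3
    exact Nat.eq_of_mul_eq_mul_left hpos h1
  haveI : Fact (Nat.Prime 3) := ⟨Nat.prime_three⟩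
  haveI := isCyclic_of_prime_card hidx
  obtain ⟨g, hg⟩ := IsCyclic.exists_generator (α := C ⧸ h.qo.subgroupOf C)
  have hm : (⟨c, hc⟩ * ⟨v, h.v_mem⟩ * (⟨c, hc⟩ : C)⁻¹ * (⟨v, h.v_mem⟩ : C)⁻¹) ∈ h.qo.subgroupOf C := by
    rw [← QuotientGroup.eq_one_iff]
    simp only [QuotientGroup.mk_mul, QuotientGroup.mk_inv]
    obtain ⟨i, hi⟩ := mem_zpowers_iff.1 (hg ((⟨c, hc⟩ : C) : C ⧸ h.qo.subgroupOf C))
    obtain ⟨j, hj⟩ := mem_zpowers_iff.1 (hg ((⟨v, h.v_mem⟩ : C) : C ⧸ h.qo.subgroupOf C))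
    rw [← hi, ← hj, zpow_mul_comm g i j, mul_inv_cancel_right, mul_inv_cancel]
  exact hm

/-- `uv` is not real. -/
theorem Eight.not_real (h : Eight u v Q O) (g : G) : g * (u * v) * g⁻¹ ≠ (u * v)⁻¹ := by
  intro e
  have huv : Commute u v := h.six.huv
  have h3 : (u * v) ^ 3 = u := by
    rw [huv.mul_pow, show v ^ 3 = 1 by rw [← h.six.hv]; exact pow_orderOf_eq_one v, mul_one,
      pow_succ, pow_two, h.six.uu, one_mul]
  have hgu : g * u * g⁻¹ = u := by
    conv_lhs => rw [← h3, ← conj_pow, e, inv_pow, h3, h.six.uinv]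
  have hgC : g ∈ centralizer ({u} : Set G) := mem_centralizer_singleton_iff.2 (mul_inv_eq_iff_eq_mul.1 hgu)
  have hgv : g * v * g⁻¹ = v⁻¹ := by
    have e1 : g * u * g⁻¹ * (g * v * g⁻¹) = u * v⁻¹ := by
      rw [show g * u * g⁻¹ * (g * v * g⁻¹) = g * (u * v) * g⁻¹ by group, e, _root_.mul_inv_rev,
        h.six.uinv, huv.inv_right.eq]
    rw [hgu] at e1
    exact mul_left_cancel e1
  obtain ⟨q, hq, o, ho, e2⟩ := h.comm_qo hgC
  rw [hgv] at e2
  refine h.not_mem hq ho ?_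
  rw [← e2]
  calc v = v * v * v * (v⁻¹ * v⁻¹) := by group
    _ = v⁻¹ * v⁻¹ := by rw [h.six.vvv, one_mul]

theorem Eight.fpf (h : Eight u v Q O) {o : G} (ho : o ∈ O) (hov : o * v = v * o) : o = 1 := by
  rcases h.six.cent o (mem_centralizer_singleton_iff.1 (h.hOC ho)) hov with e | e | e | e | e | e
  · exact e
  · exact h.O_pow ho (e ▸ h.six.uu)
  · exact absurd (show v = 1 * o by rw [e, one_mul]) (h.not_mem (one_mem Q) ho)
  · exact absurd (show v = 1 * o⁻¹ by rw [e, one_mul, inv_inv]) (h.not_mem (one_mem Q) (inv_mem ho))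
  · exact absurd (show v = u * o by rw [e, ← mul_assoc, h.six.uu, one_mul]) (h.not_mem h.huQ ho)
  · exact absurd (show v = u * o⁻¹ by
      rw [e, _root_.mul_inv_rev, inv_inv, h.six.uinv, ← h.six.huv, ← mul_assoc, h.six.uu, one_mul])
      (h.not_mem h.huQ (inv_mem ho))

/-- An element acting fixed point freely on `O` is conjugate to its translates. -/
theorem Eight.exists_conj (h : Eight u v Q O) {w : G} (hw : w ∈ centralizer ({u} : Set G))
    (hfix : ∀ o ∈ O, o * w = w * o → o = 1) {o : G} (ho : o ∈ O) : ∃ a ∈ O, a * w * a⁻¹ = w * o := by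
  have hm : ∀ a ∈ O, w⁻¹ * a * w * a⁻¹ ∈ O := fun a ha => by
    refine mul_mem ?_ (inv_mem ha)
    have := h.conj_O (inv_mem hw) ha
    rwa [inv_inv] at this
  let f : O → O := fun a => ⟨_, hm a a.2⟩
  have hinj : Function.Injective f := fun a b e => by
    have e' : w⁻¹ * (a : G) * w * (a : G)⁻¹ = w⁻¹ * b * w * (b : G)⁻¹ := congrArg Subtype.val e
    have hba : (b : G)⁻¹ * a * w = w * ((b : G)⁻¹ * a) := by
      calc (b : G)⁻¹ * a * w = (b : G)⁻¹ * (w * (w⁻¹ * a * w * (a : G)⁻¹)) * a := by group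
        _ = (b : G)⁻¹ * (w * (w⁻¹ * b * w * (b : G)⁻¹)) * a := by rw [e']
        _ = _ := by group
    exact (Subtype.ext (inv_mul_eq_one.1 (hfix _ (mul_mem (inv_mem b.2) a.2) hba)) : b = a).symm
  obtain ⟨a, ha⟩ := (Finite.injective_iff_surjective.1 hinj) ⟨o, ho⟩
  refine ⟨a, a.2, ?_⟩
  have ha' : w⁻¹ * (a : G) * w * (a : G)⁻¹ = o := congrArg Subtype.val ha
  rw [← ha']
  group

/-- The subgroup `⟨v⟩ O`. -/
def Eight.vo (h : Eight u v Q O) : Subgroup G where
  carrier := {g | ∃ j : ℕ, ∃ o ∈ O, g = v ^ j * o}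
  one_mem' := ⟨0, 1, one_mem _, by simp⟩
  mul_mem' := by
    rintro a b ⟨i, o, ho, rfl⟩ ⟨j, o', ho', rfl⟩
    refine ⟨i + j, (v ^ j)⁻¹ * o * v ^ j * o', mul_mem ?_ ho', by rw [pow_add]; group⟩
    have := h.conj_O (inv_mem (pow_mem h.v_mem j)) ho
    rwa [inv_inv] at this
  inv_mem' := by
    rintro a ⟨i, o, ho, rfl⟩
    refine ⟨2 * i, v ^ i * o⁻¹ * (v ^ i)⁻¹, h.conj_O (pow_mem h.v_mem i) (inv_mem ho), ?_⟩
    have e : v ^ (2 * i) = (v ^ i)⁻¹ := eq_inv_of_mul_eq_one_left (by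
      rw [← pow_add, show 2 * i + i = 3 * i by omega, pow_mul,
        show v ^ 3 = 1 by rw [← h.six.hv]; exact pow_orderOf_eq_one v, one_pow])
    rw [e]; group

theorem Eight.vo_le (h : Eight u v Q O) : h.vo ≤ centralizer ({u} : Set G) := by
  rintro _ ⟨j, o, ho, rfl⟩
  exact mul_mem (pow_mem h.v_mem j) (h.hOC ho)

theorem Eight.mem_vo_iff (h : Eight u v Q O) {g : G} :
    g ∈ h.vo ↔ ∃ j : Fin 3, ∃ o : O, g = v ^ (j : ℕ) * (o : G) := by
  constructor
  · rintro ⟨j, o, ho, rfl⟩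
    refine ⟨⟨j % 3, Nat.mod_lt _ (by norm_num)⟩, ⟨o, ho⟩, ?_⟩
    show v ^ j * o = v ^ (j % 3) * o
    rw [← h.six.hv, pow_mod_orderOf]
  · rintro ⟨j, o, rfl⟩
    exact ⟨j, o, o.2, rfl⟩

theorem Eight.eq_of_pow_mul (h : Eight u v Q O) {i j : Fin 3} {o o' : O}
    (e : v ^ (i : ℕ) * (o : G) = v ^ (j : ℕ) * o') : i = j ∧ o = o' := by
  have hv3 : v ^ 3 = 1 := by rw [← h.six.hv]; exact pow_orderOf_eq_one v
  have key : ∀ k : ℕ, k < 3 → v ^ k ∈ O → k = 0 := by
    intro k hk hm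
    interval_cases k
    · rfl
    · exact absurd (show v = 1 * v by rw [one_mul]) (h.not_mem (one_mem Q) (by simpa using hm))
    · exact absurd (show v = 1 * (v ^ 2)⁻¹ by
        rw [one_mul, eq_comm, inv_eq_iff_mul_eq_one, ← pow_succ, hv3]) (h.not_mem (one_mem Q) (inv_mem hm))
  have hij : i = j := by
    have h1 : (v ^ (j : ℕ))⁻¹ * v ^ (i : ℕ) ∈ O := by
      rw [show (v ^ (j : ℕ))⁻¹ * v ^ (i : ℕ) = (v ^ (j : ℕ))⁻¹ * (v ^ (i : ℕ) * (o : G)) * (o : G)⁻¹ by group,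
        e, inv_mul_cancel_left]
      exact mul_mem o'.2 (inv_mem o.2)
    have hi := i.isLt
    have hj := j.isLt
    rcases le_total (j : ℕ) i with hle | hle
    · rw [← pow_sub_mul_pow v hle] at h1
      have h2 : v ^ ((i : ℕ) - j) ∈ O := by
        have h3 := h.conj_O (pow_mem h.v_mem (j : ℕ)) h1
        rwa [show v ^ (j : ℕ) * ((v ^ (j : ℕ))⁻¹ * (v ^ ((i : ℕ) - j) * v ^ (j : ℕ))) * (v ^ (j : ℕ))⁻¹ =
          v ^ ((i : ℕ) - j) by group] at h3
      have := key _ (by omega) h2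
      exact Fin.ext (by omega)
    · rw [← pow_sub_mul_pow v hle, _root_.mul_inv_rev, mul_assoc] at h1
      have h2 : v ^ ((j : ℕ) - i) ∈ O := by
        have h3 := inv_mem (h.conj_O (pow_mem h.v_mem (i : ℕ)) h1)
        rwa [show (v ^ (i : ℕ) * ((v ^ (i : ℕ))⁻¹ * ((v ^ ((j : ℕ) - i))⁻¹ * v ^ (i : ℕ))) *
          (v ^ (i : ℕ))⁻¹)⁻¹ = v ^ ((j : ℕ) - i) by group] at h3
      have := key _ (by omega) h2
      exact Fin.ext (by omega)
  subst hij
  exact ⟨rfl, Subtype.ext (mul_left_cancel e)⟩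

theorem Eight.card_vo (h : Eight u v Q O) : Nat.card h.vo = 3 * Nat.card O := by
  rw [← Nat.card_fin 3, ← Nat.card_prod]
  refine (Nat.card_congr (Equiv.ofBijective
    (fun x : Fin 3 × O => (⟨v ^ (x.1 : ℕ) * (x.2 : G), h.mem_vo_iff.2 ⟨x.1, x.2, rfl⟩⟩ : h.vo)) ⟨?_, ?_⟩)).symm
  · rintro ⟨i, o⟩ ⟨j, o'⟩ e
    obtain ⟨rfl, rfl⟩ := h.eq_of_pow_mul (congrArg Subtype.val e)
    rfl
  · rintro ⟨g, hg⟩
    obtain ⟨j, o, rfl⟩ := h.mem_vo_iff.1 hg
    exact ⟨(j, o), rfl⟩

theorem Eight.vo_pow (h : Eight u v Q O) {k : G} (hk : k ∈ h.vo) : k ^ (3 * Nat.card O) = 1 := by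
  rw [← h.card_vo]
  exact orderOf_dvd_iff_pow_eq_one.1 (Subgroup.orderOf_dvd_natCard _ hk)

theorem Eight.u_notMem (h : Eight u v Q O) : u ∉ h.vo := fun hm => by
  have h1 := h.vo_pow hm
  rw [← orderOf_dvd_iff_pow_eq_one, h.six.hu] at h1
  exact ((by decide : Odd 3).mul h.hO).not_two_dvd_nat h1

/-- The subgroup `⟨u, v⟩ O`. -/
def Eight.uvo (h : Eight u v Q O) : Subgroup G where
  carrier := {g | g ∈ h.vo ∨ u * g ∈ h.vo}
  one_mem' := Or.inl (one_mem _)
  mul_mem' := by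
    rintro a b (ha | ha) (hb | hb)
    · exact Or.inl (mul_mem ha hb)
    · refine Or.inr ?_
      rw [show u * (a * b) = a * (u * b) by
        rw [← mul_assoc, ← mul_assoc, (mem_centralizer_singleton_iff.1 (h.vo_le ha))]]
      exact mul_mem ha hb
    · refine Or.inr ?_
      rw [← mul_assoc]
      exact mul_mem ha hb
    · refine Or.inl ?_
      have hau : a * u = u * a := by
        have := mem_centralizer_singleton_iff.1 (h.vo_le ha)
        exact mul_left_cancel (a := u) (by rw [← mul_assoc, this])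
      have := mul_mem ha hb
      rwa [show u * a * (u * b) = u * (a * u) * b by group, hau, ← mul_assoc u u a, h.six.uu, one_mul] at this
  inv_mem' := by
    rintro a (ha | ha)
    · exact Or.inl (inv_mem ha)
    · refine Or.inr ?_
      have hau : a * u = u * a := by
        have := mem_centralizer_singleton_iff.1 (h.vo_le ha)
        exact mul_left_cancel (a := u) (by rw [← mul_assoc, this])
      have := inv_mem ha
      rwa [← hau, _root_.mul_inv_rev, h.six.uinv] at this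

theorem Eight.card_uvo (h : Eight u v Q O) : Nat.card h.uvo = 6 * Nat.card O := by
  have e1 : (h.vo.subgroupOf h.uvo).index = 2 := by
    rw [index_eq_two_iff]
    refine ⟨⟨u, Or.inr (by rw [h.six.uu]; exact one_mem _)⟩, ?_⟩
    rintro ⟨b, hb⟩
    have hbu : b * u = u * b := by
      rcases hb with hb | hb
      · exact mem_centralizer_singleton_iff.1 (h.vo_le hb)
      · have := mem_centralizer_singleton_iff.1 (h.vo_le hb)
        exact mul_left_cancel (a := u) (by rw [← mul_assoc, this])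
    rcases hb with hb | hb
    · exact Or.inr ⟨hb, fun hm => h.u_notMem ((h.vo.mul_mem_cancel_left hb).1 hm)⟩
    · refine Or.inl ⟨show b * u ∈ h.vo by rw [hbu]; exact hb, fun hm => h.u_notMem ?_⟩
      exact (h.vo.mul_mem_cancel_right hm).1 hb
  have h1 := (h.vo.subgroupOf h.uvo).card_mul_index
  rw [e1, Nat.card_congr (subgroupOfEquivOfLe (fun g hg => Or.inl hg : h.vo ≤ h.uvo)).toEquiv, h.card_vo] at h1
  omega

theorem Eight.uvo_le (h : Eight u v Q O) : h.uvo ≤ centralizer ({u} : Set G) := by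
  rintro g (hg | hg)
  · exact h.vo_le hg
  · have hu : u ∈ centralizer ({u} : Set G) := mem_centralizer_singleton_iff.2 rfl
    exact ((centralizer ({u} : Set G)).mul_mem_cancel_left hu).1 (h.vo_le hg)

/-- An element carrying `u * v` into `u * vo` lies in `uvo`. -/
theorem Eight.mem_of_conj (h : Eight u v Q O) {g k : G} (hk : k ∈ h.vo)
    (hg : g⁻¹ * (u * v) * g = u * k) : g ∈ h.uvo := by
  have huv : Commute u v := h.six.huv
  have hku : Commute u k := (mem_centralizer_singleton_iff.1 (h.vo_le hk)).symm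
  obtain ⟨c, hc⟩ := (by decide : Odd 3).mul h.hO
  have hvm : v ^ (3 * Nat.card O) = 1 := h.vo_pow ⟨1, 1, one_mem _, by simp⟩
  have hum : u ^ (3 * Nat.card O) = u := by
    rw [hc, pow_succ, pow_mul, pow_two, h.six.uu, one_pow, one_mul]
  have hgu : g⁻¹ * u * g = u := by
    have h1 := congrArg (· ^ (3 * Nat.card O)) hg
    simp only [hku.mul_pow, h.vo_pow hk, mul_one] at h1
    rw [show g⁻¹ * (u * v) * g = g⁻¹ * (u * v) * g⁻¹⁻¹ by rw [inv_inv], conj_pow, huv.mul_pow, hvm,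
      mul_one, inv_inv, hum] at h1
    exact h1
  have hgC : g ∈ centralizer ({u} : Set G) := mem_centralizer_singleton_iff.2 (by
    calc g * u = g * (g⁻¹ * u * g) := by rw [hgu]
      _ = u * g := by group)
  have hgv : g⁻¹ * v * g = k := by
    refine mul_left_cancel (a := u) ?_
    rw [← hg]
    calc u * (g⁻¹ * v * g) = g⁻¹ * u * g * (g⁻¹ * v * g) := by rw [hgu]
      _ = _ := by group
  obtain ⟨q, hq, o, ho, e⟩ := h.comm_qo (inv_mem hgC)
  rw [inv_inv, hgv] at e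
  -- the part in `Q` is trivial
  have hqm : q ∈ h.vo := by
    have hv' : v ∈ h.vo := ⟨1, 1, one_mem _, by simp⟩
    have := mul_mem (mul_mem hk (inv_mem hv')) (inv_mem (⟨0, o, ho, by simp⟩ : o ∈ h.vo))
    rwa [e, mul_inv_cancel_right] at this
  have hq1 : q = 1 := by
    by_contra hne
    have := h.vo_pow hqm
    rw [← orderOf_dvd_iff_pow_eq_one, CfsgLib.Char.SelfCentThree.orderOf_two (h.hQe q hq) hne] at this
    exact ((by decide : Odd 3).mul h.hO).not_two_dvd_nat this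
  rw [hq1, one_mul] at e
  have e' : k = v * (v⁻¹ * o * v) := by rw [← e]; group
  have ho' : v⁻¹ * o * v ∈ O := by
    have := h.conj_O (inv_mem h.v_mem) ho
    rwa [inv_inv] at this
  obtain ⟨a, ha, hae⟩ := h.exists_conj h.v_mem (fun x hx he => h.fpf hx he) ho'
  -- `g a` centralises `u` and `v`
  have hgav : g * a * v = v * (g * a) := by
    calc g * a * v = g * (a * v * a⁻¹) * a := by group
      _ = g * (g⁻¹ * v * g) * a := by rw [hae, ← e', hgv]
      _ = _ := by group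
  have hgau := mem_centralizer_singleton_iff.1 (mul_mem hgC (h.hOC ha))
  have haL : a ∈ h.uvo := Or.inl ⟨0, a, ha, by simp⟩
  have huL : u ∈ h.uvo := Or.inr (by rw [h.six.uu]; exact one_mem _)
  have hvL : v ∈ h.uvo := Or.inl ⟨1, 1, one_mem _, by simp⟩
  have hga : g * a ∈ h.uvo := by
    rcases h.six.cent (g * a) hgau hgav with e | e | e | e | e | e <;> rw [e]
    exacts [one_mem _, huL, hvL, inv_mem hvL, mul_mem huL hvL, mul_mem huL (inv_mem hvL)]
  exact (h.uvo.mul_mem_cancel_right haL).1 hga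

end CfsgLib.Recog.OrderSix
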