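import Cfsg.Agent.Lib.Recog.OrderSix.TopBasic
import Cfsg.Agent.Lib.Recog.OrderSix.Second
import Cfsg.Agent.Lib.GW.Final
import Cfsg.Agent.Lib.GW.InvolPSL
import Cfsg.Agent.Lib.GW.CaseA.XTorus

/-!
# A Sylow subgroup of order four: `PSL(2, 11)` and `PSL(2, 13)`
-/

set_option autoImplicit false
set_option linter.unusedSectionVars false
set_option linter.style.haveILetI false

namespace CfsgLib.Recog.OrderSix

open Subgroup CfsgLib.Char.SelfCentThree

universe u

variable {G : Type u} [Group G] [Finite G] {u v s : G} {Q O : Subgroup G}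

/-- The odd part of an involution centralizer of `PSL(2, q)` is abelian. -/
theorem commute_of_psl {F : Type*} [Field F] [Fintype F] (hd : CfsgLib.GW.DihTwo G)
    (hZ : center G = ⊥) (e : G ≃* Matrix.ProjectiveSpecialLinearGroup (Fin 2) F)
    (hodd : Odd (Fintype.card F)) {t a b : G} (ht : orderOf t = 2) (ha : Odd (orderOf a))
    (hb : Odd (orderOf b)) (hat : Commute a t) (hbt : Commute b t) : Commute a b := by
  have h2 : (2 : F) ≠ 0 :=
    CfsgLib.Perm.Dickson.two_ne_zero_of_odd (F := F) (by rwa [Nat.card_eq_fintype_card])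
  have hC : centralizer ((⊤ : Subgroup G) : Set G) = ⊥ := by
    rw [coe_top, centralizer_univ, hZ]
  obtain ⟨T, hT, hmem⟩ :=
    CfsgLib.GW.CaseA.psl_torus_cyclic ⊤ (topEquiv.trans e) hd hC h2 ht
  have hmem' : ∀ x : G, Odd (orderOf x) → Commute x t → x ∈ T := fun x hxo hxt =>
    hmem x (CfsgLib.GW.le_diagPart _ _ (mem_top x)) hxo hxt
  haveI := hT
  exact congrArg Subtype.val
    (IsCyclic.commGroup.mul_comm (⟨a, hmem' a ha hat⟩ : T) ⟨b, hmem' b hb hbt⟩)

/-- The case `|Q| = 2` leads to `PSL(2, 11)` and `PSL(2, 13)`. -/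
theorem four_case [IsSimpleGroup G] (hG : ¬ IsMulCommutative G) (h : Top u v Q O s)
    (hQ : ∀ q ∈ Q, q = 1 ∨ q = u) :
    ∃ (F : Type) (_ : Field F) (_ : Fintype F), (Fintype.card F = 11 ∨ Fintype.card F = 13) ∧
      Nonempty (G ≃* Matrix.ProjectiveSpecialLinearGroup (Fin 2) F) := by
  classical
  haveI : Fact (Nat.Prime 2) := ⟨Nat.prime_two⟩
  have hc := h.core
  have hu := hc.six.hu
  have hQz : Q = zpowers u := by
    refine le_antisymm (fun q hq => ?_) (zpowers_le.2 hc.uQ)
    rcases hQ q hq with e | e <;> rw [e]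
    · exact one_mem _
    · exact mem_zpowers u
  have hQ2 : Nat.card Q = 2 := by rw [hQz, Nat.card_zpowers, hu]
  obtain ⟨P, hP⟩ := h.exists_sylow
  have hS4 : Nat.card h.S = 4 := by rw [h.card_S, hQ2]
  rcases h.ss with hs1 | hsu
  swap
  · exfalso
    refine false_of_one_invol hG P hu fun y hy hyo => ?_
    rw [hP] at hy
    rcases hy with hy | hy
    · exact (hQ y hy).resolve_left fun e => by rw [e, orderOf_one] at hyo; omega
    · exfalso
      have hyy := mul_self_invol hyo
      rcases hQ _ hy with e | e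
      · rw [mul_inv_eq_one.1 e, hsu] at hyy
        exact hc.six.u_ne hyy
      · rw [mul_inv_eq_iff_eq_mul.1 e, mul_assoc u s, ← mul_assoc s u s, h.su, mul_assoc u s s, hsu,
          hc.six.uu, mul_one] at hyy
        exact hc.six.u_ne hyy
  -- the Sylow subgroup is a four group
  have hexp : ∀ y ∈ h.S, y * y = 1 := by
    intro y hy
    rcases hy with hy | hy
    · rcases hQ y hy with e | e <;> rw [e]
      · exact mul_one 1
      · exact hc.six.uu
    · rcases hQ _ hy with e | e
      · rw [mul_inv_eq_one.1 e]; exact hs1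
      · rw [mul_inv_eq_iff_eq_mul.1 e, mul_assoc u s, ← mul_assoc s u s, h.su, mul_assoc u s s, hs1,
          mul_one, hc.six.uu]
  haveI : Nontrivial (P : Subgroup G) :=
    Finite.one_lt_card_iff_nontrivial.1 (by rw [hP, hS4]; norm_num)
  haveI hK : IsKleinFour (P : Subgroup G) :=
    ⟨by rw [hP, hS4], Monoid.exponent_eq_prime_iff Nat.prime_two |>.2 fun y hy1 =>
      orderOf_eq_prime (by rw [pow_two]; exact Subtype.ext (hexp y (hP ▸ y.2))) hy1⟩
  have hd : CfsgLib.GW.DihTwo G :=
    CfsgLib.GW.dihTwo_of_sylow P le_rfl (IsKleinFour.nonempty_mulEquiv (G₂ := DihedralGroup 2)).some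
  have hZ : center G = ⊥ := by
    refine (IsSimpleGroup.eq_bot_or_eq_top_of_normal (center G) inferInstance).resolve_right fun e => ?_
    exact hG ⟨⟨fun a b => (mem_center_iff.1 (e ▸ mem_top b) a)⟩⟩
  haveI : Group.IsPerfect G := by
    rw [Group.isPerfect_def]
    refine (Normal.eq_bot_or_eq_top inferInstance).resolve_left fun e => hG ⟨⟨fun a b => ?_⟩⟩
    have : a * b * a⁻¹ * b⁻¹ ∈ commutator G := by
      rw [_root_.commutator_def, ← commutatorElement_def]
      exact commutator_mem_commutator (mem_top a) (mem_top b)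
    rw [e, mem_bot, mul_inv_eq_one, mul_inv_eq_iff_eq_mul] at this
    exact this
  have hOc : Cfsg.oddCore G = ⊥ := by
    refine (Normal.eq_bot_or_eq_top inferInstance).resolve_right fun e => ?_
    have h1 := CfsgLib.GW.odd_oddCore G
    rw [e, card_top] at h1
    exact h1.not_two_dvd_nat (hu ▸ orderOf_dvd_natCard u)
  have e0 : G ≃* G ⧸ Cfsg.oddCore G :=
    QuotientGroup.quotientBot.symm.trans (QuotientGroup.quotientMulEquivOfEq hOc.symm)
  rcases CfsgLib.GW.gw_perfect G hd with ⟨F, iF, jF, hodd, -, ⟨e1⟩⟩ | ⟨⟨e1⟩⟩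
  swap
  · exfalso
    have h8 : 2 ^ 3 ∣ Nat.card G := by
      rw [Nat.card_congr (e0.trans e1).toEquiv, nat_card_alternatingGroup, Nat.card_fin]
      norm_num [Nat.factorial]
    have := P.pow_dvd_card_of_pow_dvd_card h8
    rw [hP, hS4] at this
    norm_num at this
  letI := iF
  letI := jF
  set e := e0.trans e1
  -- the odd core of the centralizer is trivial
  have hO1 : Nat.card O = 1 := by
    rw [card_eq_one, eq_bot_iff_forall]
    intro o ho
    exact hc.fixO ho (commute_of_psl hd hZ e hodd hu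
      (hc.hO.of_dvd_nat (Subgroup.orderOf_dvd_natCard O ho)) (by rw [hc.six.hv]; decide)
      (hc.ou ho) hc.six.huv.symm).eq
  -- the order of the centralizer
  have hmap : (centralizer ({u} : Set G)).map e.toMonoidHom = centralizer {e u} := by
    ext x
    rw [mem_map_equiv, mem_centralizer_singleton_iff, mem_centralizer_singleton_iff,
      ← e.injective.eq_iff, map_mul, map_mul, e.apply_symm_apply]
  have h12 : CfsgLib.GW.invCard (Fintype.card F) = 12 := by
    rw [← CfsgLib.GW.card_cent_psl hodd (e u) (by rw [MulEquiv.orderOf_eq, hu]), ← hmap,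
      card_map_of_injective (f := e.toMonoidHom) e.injective, hc.card, hQ2, hO1]
  refine ⟨F, iF, jF, ?_, ⟨e⟩⟩
  rw [CfsgLib.GW.invCard] at h12
  split at h12 <;> omega

end CfsgLib.Recog.OrderSix
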