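import Cfsg.Agent.Lib.Recog.SubThree.QDGroups
import Cfsg.Agent.Lib.Invol.GLTwoThree
import Cfsg.Agent.Lib.Invol.BrauerSuzuki

/-!
# One class of involutions, the centralizer with quotient `GL(2, 3)` by a group of odd order
-/

set_option autoImplicit false
set_option linter.unusedSectionVars false

namespace CfsgLib.Recog.OrderSix

open Subgroup CfsgLib.Invol CfsgLib.Char.GLThreeCore
open CfsgLib.Char.GLThreeCent hiding code

universe u

theorem sq_code : ∀ i : Fin 48, inQ i → ∃ j : Fin 48, powI j 8 = oneI ∧ mulI j j = i := by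
  decide +kernel

theorem quat_sq_central : ∀ a b : QuaternionGroup 2, a * a * b = b * (a * a) := by decide +kernel

/-- The quotient by the odd part is `GL(2, 3)`. -/
theorem quot_gl {C : Type u} [Group C] [Finite C] (Q O : Subgroup C) [hQn : Q.Normal] [O.Normal]
    (eQ : ↥Q ≃* QuaternionGroup 2) (hOodd : Odd (Nat.card O))
    (hcard : Nat.card C = 48 * Nat.card O) {v s : C} (hv : orderOf v = 3)
    (hsv : s * v * s⁻¹ = v⁻¹) (hvQ : ¬ ∀ q ∈ Q, Commute v q) (hvO : v ∉ O) {t : C}
    (ht : orderOf t = 2) (htW : ∀ q ∈ Q, q⁻¹ * t ∉ O) :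
    Nonempty (C ⧸ O ≃* GL (Fin 2) (ZMod 3)) ∧
      ∀ x : C ⧸ O, x ^ 8 = 1 → ∃ q ∈ Q, (q : C ⧸ O) = x * x := by
  classical
  haveI : Fact (Nat.Prime 2) := ⟨Nat.prime_two⟩
  set p := QuotientGroup.mk' O with hp
  have hQ8 : Nat.card Q = 8 := by
    rw [Nat.card_congr eQ.toEquiv, Nat.card_eq_fintype_card, QuaternionGroup.card]
  have hQO : ∀ q ∈ Q, q ∈ O → q = 1 := by
    intro q hq hqO
    have h1 : orderOf q ∣ 8 := hQ8 ▸ Subgroup.orderOf_dvd_natCard Q hq
    have h2 : orderOf q ∣ Nat.card O := Subgroup.orderOf_dvd_natCard O hqO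
    exact orderOf_eq_one_iff.1 (Nat.eq_one_of_dvd_coprimes
      (show (8 : ℕ).Coprime (Nat.card O) from (Nat.Coprime.pow_left 3
        (Nat.coprime_two_left.2 hOodd) : ((2 : ℕ) ^ 3).Coprime (Nat.card O))) h1 h2)
  have hinj : Function.Injective (p.comp Q.subtype) := (injective_iff_map_eq_one _).2 fun q hq =>
    Subtype.ext (hQO q q.2 ((QuotientGroup.eq_one_iff _).1 hq))
  set R := (p.comp Q.subtype).range with hR
  have hRmap : R = Q.map p := by
    rw [hR, MonoidHom.range_eq_map, ← Subgroup.map_map, ← MonoidHom.range_eq_map, range_subtype]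
  haveI hRn : R.Normal := hRmap ▸ hQn.map p (QuotientGroup.mk'_surjective O)
  let eR : R ≃* QuaternionGroup 2 := (MonoidHom.ofInjective hinj).symm.trans eQ
  have hR8 : Nat.card R = 8 := by
    rw [Nat.card_congr eR.toEquiv, Nat.card_eq_fintype_card, QuaternionGroup.card]
  have h48 : Nat.card (C ⧸ O) = 48 := by
    have h1 := O.card_mul_index
    rw [hcard, mul_comm 48] at h1
    exact Nat.eq_of_mul_eq_mul_left Nat.card_pos h1
  have hK : Nat.card ((C ⧸ O) ⧸ R) = 6 := by
    have h1 := R.card_mul_index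
    rw [hR8, h48] at h1
    show R.index = 6
    omega
  have h8 : ∀ x : C ⧸ O, x ^ 8 = 1 → x * x ∈ R := by
    intro x hx
    have h6 : x ^ 6 ∈ R := by
      rw [← QuotientGroup.eq_one_iff (N := R), QuotientGroup.mk_pow, ← hK]
      exact pow_card_eq_one'
    have e : x * x = (x ^ 6)⁻¹ := eq_inv_of_mul_eq_one_left (by rw [← pow_two, ← pow_add]; exact hx)
    rw [e]
    exact R.inv_mem h6
  refine ⟨?_, fun x hx => ?_⟩
  swap
  · obtain ⟨q, hq⟩ := h8 x hx
    exact ⟨q, q.2, hq⟩
  set w := p v with hw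
  have hw3 : orderOf w = 3 := orderOf_eq_prime (by rw [hw, ← map_pow, ← hv, pow_orderOf_eq_one, map_one])
    fun e => hvO ((QuotientGroup.eq_one_iff v).1 e)
  have hwR : w ∉ R := fun hm => by
    have := Subgroup.orderOf_dvd_natCard R hm
    rw [hR8, hw3] at this
    norm_num at this
  set π := QuotientGroup.mk' R
  have hπw : orderOf (π w) = 3 :=
    orderOf_eq_prime (by rw [← map_pow, ← hw3, pow_orderOf_eq_one, map_one])
      fun e => hwR ((QuotientGroup.eq_one_iff w).1 e)
  -- a normal subgroup outside `R` reaches `w`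
  have key : ∀ N : Subgroup (C ⧸ O), N.Normal → ¬ N ≤ R → w ∈ N ⊔ R := by
    intro N hN hle
    haveI hN' : (N.map π).Normal := hN.map π (QuotientGroup.mk'_surjective R)
    suffices hm : π w ∈ N.map π by
      rw [← mem_comap, comap_map_eq, QuotientGroup.ker_mk'] at hm
      exact hm
    set M := N.map π
    have hM1 : Nat.card M ≠ 1 := fun e => hle fun n hn => (QuotientGroup.eq_one_iff n).1 (by
      have h1 : π n ∈ M := mem_map_of_mem π hn
      rwa [Subgroup.card_eq_one.1 e, mem_bot] at h1)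
    have hMi := M.card_mul_index
    rw [hK] at hMi
    have hMd : Nat.card M ∣ 6 := ⟨_, hMi.symm⟩
    by_cases hM2 : Nat.card M = 2
    · exfalso
      obtain ⟨c, hc⟩ := exists_prime_orderOf_dvd_card' (G := M) 2 (by rw [hM2])
      have hcen : ∀ g, Commute g (c : (C ⧸ O) ⧸ R) := by
        intro g
        have hm : g * c * g⁻¹ ∈ M := hN'.conj_mem _ c.2 g
        obtain ⟨a, b, -, hab⟩ := Nat.card_eq_two_iff.1 hM2
        have hall : ∀ y : M, y = 1 ∨ y = c := by
          have hc1 : c ≠ 1 := fun e => by rw [e, orderOf_one] at hc; norm_num at hc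
          intro y
          have hy : y ∈ ({a, b} : Set M) := hab ▸ Set.mem_univ y
          have h1 : (1 : M) ∈ ({a, b} : Set M) := hab ▸ Set.mem_univ 1
          have h2 : c ∈ ({a, b} : Set M) := hab ▸ Set.mem_univ c
          simp only [Set.mem_insert_iff, Set.mem_singleton_iff] at hy h1 h2
          rcases hy with rfl | rfl <;> rcases h1 with h1 | h1 <;> rcases h2 with h2 | h2 <;>
            first
              | exact Or.inl h1.symm
              | exact Or.inr h2.symm
              | exact absurd (h2.trans h1.symm) hc1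
        rcases hall ⟨_, hm⟩ with e | e
        · have e' := congrArg Subtype.val e
          simp only [Subgroup.coe_one, conj_eq_one_iff] at e'
          exfalso
          rw [show c = 1 from Subtype.ext e', orderOf_one] at hc
          norm_num at hc
        · exact mul_inv_eq_iff_eq_mul.1 (congrArg Subtype.val e)
      set Z := centralizer ({π w} : Set ((C ⧸ O) ⧸ R))
      have hZ6 : 2 * 3 ∣ Nat.card Z := by
        refine Nat.Coprime.mul_dvd_of_dvd_of_dvd (by norm_num) ?_ ?_
        · rw [← hc, ← Subgroup.orderOf_coe]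
          exact Subgroup.orderOf_dvd_natCard Z (mem_centralizer_singleton_iff.2 (hcen (π w)).symm.eq)
        · rw [← hπw]
          exact Subgroup.orderOf_dvd_natCard Z (mem_centralizer_singleton_iff.2 rfl)
      have htop : Z = ⊤ := eq_top_of_card_eq _ (Nat.dvd_antisymm (card_subgroup_dvd_card Z)
        (by rw [hK]; exact hZ6))
      have h1 : π (p s) * π w = π w * π (p s) :=
        mem_centralizer_singleton_iff.1 (htop ▸ Subgroup.mem_top (π (p s)) : π (p s) ∈ Z)
      have h2 : π w = (π w)⁻¹ := by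
        calc π w = π (p s) * π w * (π (p s))⁻¹ := by rw [h1, mul_inv_cancel_right]
          _ = (π w)⁻¹ := by rw [hw, ← map_inv, ← map_mul, ← map_mul, ← map_inv p, ← map_mul, ← map_mul,
            hsv, map_inv, map_inv]
      have h3 : orderOf (π w) ∣ 2 :=
        orderOf_dvd_of_pow_eq_one (by rw [pow_two]; exact mul_eq_one_iff_eq_inv.2 h2)
      rw [hπw] at h3
      norm_num at h3
    · have hsq : π w * π w ∈ M := by
        have hi : M.index = 1 ∨ M.index = 2 := by
          have := Nat.le_of_dvd (by norm_num) hMd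
          have := Nat.card_pos (α := M)
          interval_cases Nat.card M <;> omega
        rcases hi with hi | hi
        · rw [index_eq_one.1 hi]; exact mem_top _
        · exact mul_self_mem_of_index_two hi _
      have h4 : π w = π w * π w * (π w * π w) := by
        calc π w = π w * π w ^ orderOf (π w) := by rw [pow_orderOf_eq_one, mul_one]
          _ = _ := by simp only [hπw, pow_succ, pow_zero, one_mul, mul_assoc]
      rw [h4]
      exact M.mul_mem hsq hsq
  have hself : centralizer (R : Set (C ⧸ O)) ≤ R := by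
    by_contra hle
    obtain ⟨n, hn, r, hr, hnr⟩ := mem_sup_of_normal_right.1 (key _ inferInstance hle)
    refine hvQ fun q hq => ?_
    have hconj : ∀ x ∈ R, w * x * w⁻¹ = r * x * r⁻¹ := fun x hx => by
      have h1 := mem_centralizer_iff.1 hn (r * x * r⁻¹) (hRn.conj_mem x hx r)
      rw [← hnr, show n * r * x * (n * r)⁻¹ = n * (r * x * r⁻¹) * n⁻¹ by group, ← h1, mul_inv_cancel_right]
    have hcomm : ∀ x ∈ R, Commute (w * w) x := fun x hx => by
      have h3 : w * (w * x * w⁻¹) * w⁻¹ = r * (r * x * r⁻¹) * r⁻¹ := by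
        rw [hconj _ (hRn.conj_mem x hx w), hconj x hx]
      have h4 := congrArg eR.symm (quat_sq_central (eR ⟨r, hr⟩) (eR ⟨x, hx⟩))
      simp only [map_mul, MulEquiv.symm_apply_apply] at h4
      have h5 := congrArg Subtype.val h4
      simp only [Subgroup.coe_mul] at h5
      refine mul_inv_eq_iff_eq_mul.1 ?_
      calc w * w * x * (w * w)⁻¹ = w * (w * x * w⁻¹) * w⁻¹ := by group
        _ = r * r * x * (r * r)⁻¹ := by rw [h3]; group
        _ = x := by rw [h5, mul_inv_cancel_right]
    have h1 : Commute w (p q) := by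
      have h2 := hcomm _ (⟨⟨q, hq⟩, rfl⟩ : p q ∈ R)
      have h4 : w * w * (w * w) = w := by
        calc w * w * (w * w) = w * w ^ orderOf w := by simp only [hw3, pow_succ, pow_zero, one_mul, mul_assoc]
          _ = w := by rw [pow_orderOf_eq_one, mul_one]
      rw [← h4]
      exact h2.mul_left h2
    have hm : v * q * v⁻¹ * q⁻¹ ∈ O := by
      refine (QuotientGroup.eq_one_iff (N := O) _).1 ?_
      show p (v * q * v⁻¹ * q⁻¹) = 1
      rw [map_mul, map_mul, map_mul, map_inv, map_inv, ← hw, h1.eq, mul_inv_cancel_right, mul_inv_cancel]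
    exact mul_inv_eq_iff_eq_mul.1 (mul_inv_eq_one.1
      (hQO _ (Q.mul_mem (hQn.conj_mem q hq v) (Q.inv_mem hq)) hm))
  have hcore : Cfsg.pCore 2 (C ⧸ O) ≤ R := by
    by_contra hle
    have h1 := key _ inferInstance hle
    have h2 : IsPGroup 2 ↥(Cfsg.pCore 2 (C ⧸ O) ⊔ R) :=
      (Coprime.pCore_isPGroup (G := C ⧸ O) 2).to_sup_of_normal_right
        (IsPGroup.of_card (n := 3) (by rw [hR8]; norm_num))
    obtain ⟨k, hk⟩ := IsPGroup.iff_orderOf.1 h2 ⟨w, h1⟩
    rw [Subgroup.orderOf_mk, hw3] at hk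
    rcases k with _ | k
    · norm_num at hk
    · rw [pow_succ] at hk; omega
  have hto : orderOf (p t) = 2 := orderOf_eq_prime (by rw [← map_pow, ← ht, pow_orderOf_eq_one, map_one])
    fun e => by
      have h1 := Subgroup.orderOf_dvd_natCard O ((QuotientGroup.eq_one_iff t).1 e)
      rw [ht] at h1
      exact hOodd.not_two_dvd_nat h1
  have htR : p t ∉ R := fun ⟨q, hq⟩ => htW q q.2 (QuotientGroup.eq.1 hq)
  obtain ⟨F⟩ := CfsgLib.GLTwoThree.nonempty_frame R eR hself h48 hcore hto htR
  obtain ⟨F'⟩ := CfsgLib.GLTwoThree.nonempty_frame_gl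
  exact CfsgLib.GLTwoThree.nonempty_equiv F F'

/-- The simple groups with one class of involutions and such a centralizer of one of them. -/
theorem gl_case {G : Type u} [Group G] [Finite G] [IsSimpleGroup G] (hG : ¬ IsMulCommutative G)
    (z v : G) (hz : orderOf z = 2) (hv : orderOf v = 3) (hzv : Commute z v)
    (hone : ∀ x y : G, orderOf x = 2 → orderOf y = 2 → IsConj x y)
    (hcent : ∀ g : G, Commute g z → Commute g v → g ∈ Subgroup.zpowers (z * v))
    (Q O : Subgroup G) (eQ : ↥Q ≃* QuaternionGroup 2)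
    (hQ : Q ≤ Subgroup.centralizer ({z} : Set G)) (hO : O ≤ Subgroup.centralizer ({z} : Set G))
    (hzQ : z ∈ Q) (hOodd : Odd (Nat.card O))
    (hQn : Subgroup.centralizer ({z} : Set G) ≤ Subgroup.normalizer (Q : Set G))
    (hOn : Subgroup.centralizer ({z} : Set G) ≤ Subgroup.normalizer (O : Set G))
    (hOQ : ∀ a ∈ O, ∀ b ∈ Q, Commute a b)
    (hcard : Nat.card (Subgroup.centralizer ({z} : Set G)) = 48 * Nat.card O)
    (s : G) (hs : Commute s z) (hsv : s * v * s⁻¹ = v⁻¹) :
    Nonempty (G ≃* Matrix.ProjectiveSpecialLinearGroup (Fin 3) (ZMod 3)) ∨ Cfsg.Spor.IsoM11 G := by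
  classical
  haveI : Fintype G := Fintype.ofFinite G
  haveI : Fact (Nat.Prime 2) := ⟨Nat.prime_two⟩
  set C := centralizer ({z} : Set G) with hC
  haveI : (Q.subgroupOf C).Normal := (normal_subgroupOf_iff_le_normalizer hQ).2 hQn
  haveI : (O.subgroupOf C).Normal := (normal_subgroupOf_iff_le_normalizer hO).2 hOn
  set Q' := Q.subgroupOf C with hQ'
  set O' := O.subgroupOf C with hO'
  let eQ' : Q' ≃* QuaternionGroup 2 := (subgroupOfEquivOfLe hQ).trans eQ
  have hO'card : Nat.card O' = Nat.card O := Nat.card_congr (subgroupOfEquivOfLe hO).toEquiv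
  set zC : C := ⟨z, mem_centralizer_singleton_iff.2 rfl⟩ with hzC
  set vC : C := ⟨v, mem_centralizer_singleton_iff.2 hzv.symm.eq⟩ with hvC
  set sC : C := ⟨s, mem_centralizer_singleton_iff.2 hs.eq⟩
  have hQ8 : Nat.card Q = 8 := by
    rw [Nat.card_congr eQ.toEquiv, Nat.card_eq_fintype_card, QuaternionGroup.card]
  have hvQ : ¬ ∀ q ∈ Q, Commute v q := fun h => by
    have hle : Q ≤ zpowers (z * v) := fun q hq =>
      hcent q (mem_centralizer_singleton_iff.1 (hQ hq)) (h q hq).symm
    have h1 := card_le_of_le hle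
    rw [hQ8, Nat.card_zpowers] at h1
    have h2 : orderOf (z * v) ∣ 6 := orderOf_dvd_of_pow_eq_one (by
      rw [hzv.mul_pow, show v ^ 6 = (v ^ orderOf v) ^ 2 by rw [hv, ← pow_mul],
        show z ^ 6 = (z ^ orderOf z) ^ 3 by rw [hz, ← pow_mul], pow_orderOf_eq_one, pow_orderOf_eq_one]
      simp)
    have := Nat.le_of_dvd (by norm_num) h2
    omega
  have hvO : v ∉ O := fun hm => hvQ fun q hq => hOQ v hm q hq
  have hfree : ∀ a ∈ O, Commute a v → a = 1 := by
    intro a ha hav
    obtain ⟨n, hn : (z * v) ^ n = a⟩ :=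
      mem_zpowers_iff.1 (hcent a (mem_centralizer_singleton_iff.1 (hO ha)) hav)
    by_contra hne
    have hd : orderOf a ∣ Nat.card O := Subgroup.orderOf_dvd_natCard O ha
    have hodd : Odd (orderOf a) := hOodd.of_dvd_nat hd
    have h2 : a * a ∈ zpowers v := by
      refine ⟨n * 2, ?_⟩
      show v ^ (n * 2) = a * a
      rw [← hn, ← pow_two, ← zpow_natCast _ 2, ← zpow_mul, Nat.cast_ofNat, hzv.mul_zpow, mul_comm n 2,
        zpow_mul z, show z ^ (2 : ℤ) = 1 by rw [zpow_ofNat, pow_two]; exact invol_mul_self hz, one_zpow,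
        one_mul]
    obtain ⟨c, hc⟩ := hodd
    have hav' : a ∈ zpowers v := by
      have e : a = (a * a) ^ (c + 1) := by
        rw [← pow_two, ← pow_mul, show 2 * (c + 1) = orderOf a + 1 by omega, pow_succ,
          pow_orderOf_eq_one, one_mul]
      rw [e]
      exact pow_mem h2 _
    have heq : zpowers a = zpowers v := eq_of_le_of_card_ge (zpowers_le.2 hav') (by
      rw [Nat.card_zpowers, Nat.card_zpowers, hv]
      have h1 : orderOf a ∣ 3 := hv ▸ Nat.card_zpowers v ▸ Subgroup.orderOf_dvd_natCard _ hav'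
      rcases (Nat.dvd_prime Nat.prime_three).1 h1 with e | e
      · exact absurd (orderOf_eq_one_iff.1 e) hne
      · rw [e])
    exact hvO ((zpowers_le.2 ha) (heq.symm ▸ mem_zpowers v))
  -- the centralizer contains a Sylow subgroup
  have hidx : ¬ 2 ∣ C.index := by
    obtain ⟨P⟩ : Nonempty (Sylow 2 G) := inferInstance
    have h2 : 2 ∣ Nat.card P := P.dvd_card_of_dvd_card (hz ▸ orderOf_dvd_natCard z)
    haveI : Nontrivial (P : Subgroup G) :=
      Finite.one_lt_card_iff_nontrivial.1 (Nat.le_of_dvd Nat.card_pos h2)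
    haveI := P.2.center_nontrivial
    obtain ⟨k, hk⟩ := (P.2.to_subgroup (Subgroup.center (P : Subgroup G))).exists_card_eq
    obtain ⟨w, hw⟩ := exists_prime_orderOf_dvd_card' (G := Subgroup.center (P : Subgroup G)) 2 (by
      rcases k with _ | k
      · have := Finite.one_lt_card_iff_nontrivial.2
          (inferInstance : Nontrivial (Subgroup.center (P : Subgroup G)))
        rw [hk] at this; norm_num at this
      · rw [hk]; exact dvd_pow_self 2 (by omega))
    obtain ⟨g, hg⟩ := isConj_iff.1 (hone ((w : (P : Subgroup G)) : G) z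
      (by rw [Subgroup.orderOf_coe, Subgroup.orderOf_coe, hw]) hz)
    have hle : (P : Subgroup G).map (MulAut.conj g).toMonoidHom ≤ C := by
      rintro _ ⟨x, hx, rfl⟩
      refine mem_centralizer_singleton_iff.2 ?_
      show g * x * g⁻¹ * z = z * (g * x * g⁻¹)
      rw [← hg]
      have e : x * ((w : (P : Subgroup G)) : G) = ((w : (P : Subgroup G)) : G) * x :=
        congrArg Subtype.val (Subgroup.mem_center_iff.1 w.2 ⟨x, hx⟩)
      calc _ = g * (x * ((w : (P : Subgroup G)) : G)) * g⁻¹ := by group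
        _ = _ := by rw [e]; group
    intro hd
    have h1 := hd.trans (index_dvd_of_le hle)
    rw [show ((P : Subgroup G).map (MulAut.conj g).toMonoidHom).index = (P : Subgroup G).index from
      index_map_equiv (P : Subgroup G) (MulAut.conj g)] at h1
    exact P.not_dvd_index' (by exact index_ne_zero_of_finite) h1
  obtain ⟨t, htC, ht, htz⟩ : ∃ t ∈ C, orderOf t = 2 ∧ t ≠ z := by
    by_contra! h
    obtain ⟨S⟩ : Nonempty (Sylow 2 C) := inferInstance
    have hScard : Nat.card ((S : Subgroup C).map C.subtype) = 2 ^ (Nat.card G).factorization 2 := by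
      rw [Nat.card_congr (Subgroup.equivMapOfInjective _ _ C.subtype_injective).toEquiv.symm,
        S.card_eq_multiplicity, ← C.card_mul_index,
        Nat.factorization_mul Nat.card_pos.ne' index_ne_zero_of_finite, Finsupp.add_apply,
        Nat.factorization_eq_zero_of_not_dvd hidx, add_zero]
    let P : Sylow 2 G := Sylow.ofCard _ hScard
    have hz' : IsZCentral z := zcentral_of_unique_invol P hz fun x hx hxo => by
      obtain ⟨y, -, rfl⟩ := (hx : x ∈ (S : Subgroup C).map C.subtype)
      exact h _ y.2 hxo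
    have hcore : Cfsg.pPrimeCore 2 G = ⊥ := by
      haveI := Coprime.pPrimeCore_characteristic (G := G) 2
      refine (Subgroup.Normal.eq_bot_or_eq_top inferInstance).resolve_right fun e => ?_
      have h1 := Coprime.pPrimeCore_not_dvd (G := G) Nat.prime_two
      rw [e, card_top] at h1
      exact h1 (hz ▸ orderOf_dvd_natCard z)
    have hzc := eq_of_zcentral_bot hz' hcore
    rcases (Subgroup.Normal.eq_bot_or_eq_top (inferInstance : (Subgroup.center G).Normal)) with e | e
    · exact invol_ne_one hz (by rwa [e, mem_bot] at hzc)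
    · exact hG ⟨⟨fun a b => (Subgroup.mem_center_iff.1 (e ▸ mem_top b) a)⟩⟩
  have hOo : ∀ a ∈ O, a * a = 1 → a = 1 := fun a ha haa => by
    by_contra hne
    have h1 := Subgroup.orderOf_dvd_natCard O ha
    rw [orderOf_eq_prime (by rw [pow_two, haa]) hne] at h1
    exact hOodd.not_two_dvd_nat h1
  have hQz : ∀ q ∈ Q, q * q = 1 → q = 1 ∨ q = z := by
    intro q hq hqq
    have key : ∀ a : QuaternionGroup 2, a * a = 1 → a = 1 ∨ a = .a 2 := by decide +kernel
    have hz2 : eQ ⟨z, hzQ⟩ = .a 2 := (key _ (by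
      rw [← map_mul, ← map_one eQ]; exact congrArg eQ (Subtype.ext (invol_mul_self hz)))).resolve_left
      fun e => invol_ne_one hz (congrArg Subtype.val (eQ.injective (e.trans (map_one eQ).symm)))
    rcases key (eQ ⟨q, hq⟩) (by rw [← map_mul, ← map_one eQ]; exact congrArg eQ (Subtype.ext hqq))
      with e | e
    · exact Or.inl (congrArg Subtype.val (eQ.injective (e.trans (map_one eQ).symm)))
    · exact Or.inr (congrArg Subtype.val (eQ.injective (e.trans hz2.symm)))
  obtain ⟨⟨e⟩, hsq⟩ := quot_gl Q' O' eQ' (hO'card ▸ hOodd) (by rw [hO'card, hcard])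
    (v := vC) (s := sC) (t := ⟨t, htC⟩) (by rw [← Subgroup.orderOf_coe]; exact hv)
    (Subtype.ext hsv) (fun h => hvQ fun q hq => congrArg Subtype.val (h ⟨q, hQ hq⟩ hq).eq) hvO
    (by rw [← Subgroup.orderOf_coe]; exact ht) (fun q hq hm => by
      have hq' : (q : G) ∈ Q := hq
      have hm' : (q : G)⁻¹ * t ∈ O := hm
      have hc : Commute ((q : G)⁻¹ * t) q := hOQ _ hm' _ hq'
      have e1 : t = (q : G) * ((q : G)⁻¹ * t) := (mul_inv_cancel_left _ _).symm
      have h1 : (q : G) ^ 2 * ((q : G)⁻¹ * t) ^ 2 = 1 := by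
        rw [← hc.symm.mul_pow, ← e1, pow_two, invol_mul_self ht]
      have h4 : ((q : G)⁻¹ * t) ^ 2 = 1 := by
        have hmem : (q : G) ^ 2 ∈ O := by
          rw [eq_inv_of_mul_eq_one_left h1]
          exact O.inv_mem (pow_mem hm' 2)
        have hq2 : orderOf ((q : G) ^ 2) = 1 := Nat.eq_one_of_dvd_coprimes
          (show (8 : ℕ).Coprime (Nat.card O) from (Nat.Coprime.pow_left 3
            (Nat.coprime_two_left.2 hOodd) : ((2 : ℕ) ^ 3).Coprime (Nat.card O)))
          (hQ8 ▸ Subgroup.orderOf_dvd_natCard Q (pow_mem hq' 2)) (Subgroup.orderOf_dvd_natCard O hmem)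
        rwa [orderOf_eq_one_iff.1 hq2, one_mul] at h1
      have ho : (q : G)⁻¹ * t = 1 := hOo _ hm' (by rwa [← pow_two])
      have htq : (q : G) = t := inv_mul_eq_one.1 ho
      rcases hQz _ hq' (by rw [htq, invol_mul_self ht]) with e' | e'
      · exact invol_ne_one ht (htq.symm.trans e')
      · exact htz (htq.symm.trans e'))
  set ψ := e.toMonoidHom.comp (QuotientGroup.mk' O') with hψ
  have hker : ψ.ker = O' := by
    ext a
    rw [MonoidHom.mem_ker, hψ, MonoidHom.comp_apply, MulEquiv.coe_toMonoidHom, e.map_eq_one_iff]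
    exact QuotientGroup.eq_one_iff a
  have hodd : Odd (Nat.card ψ.ker) := by rw [hker, hO'card]; exact hOodd
  have hsurj : Function.Surjective ψ := e.surjective.comp (QuotientGroup.mk'_surjective O')
  have hcode : ∀ a b : C, code (ψ (a * b)) = mulI (code (ψ a)) (code (ψ b)) :=
    fun a b => by rw [map_mul, code_mul]
  have hzt : code (ψ zC) = tI := by
    refine SubThree.central_code _ ⟨?_, fun e' => ?_⟩ fun j => ?_
    · rw [← hcode, show zC * zC = 1 from Subtype.ext (invol_mul_self hz), map_one, SubThree.code_one]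
    · have hm : zC ∈ O' := hker ▸ MonoidHom.mem_ker.2 (by
        rw [← glI_code (ψ zC), e', ← SubThree.code_one, glI_code])
      exact invol_ne_one hz (hOo z hm (invol_mul_self hz))
    · obtain ⟨a, ha⟩ := hsurj (glI j)
      rw [← code_glI j, ← ha, ← hcode, ← hcode, show zC * a = a * zC from (tC_comm a).eq.symm]
  have hC48 : Nat.card C = Nat.card ψ.ker * 48 := by rw [hker, hO'card, hcard, mul_comm]
  let K : Core z :=
    { ψ := ψ
      surj := hsurj
      odd := hodd
      invol := ⟨invol_mul_self hz, invol_ne_one hz⟩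
      map_t := by rw [← glI_code (ψ zC), hzt]
      conj := fun x hx hx1 => hone z x hz (orderOf_eq_prime (by rw [pow_two, hx]) hx1)
      not32 := fun hd => by
        rw [← C.card_mul_index, hC48] at hd
        obtain ⟨c, hc⟩ : Odd (Nat.card ψ.ker * C.index) :=
          hodd.mul (Nat.odd_iff.2 (Nat.two_dvd_ne_zero.1 hidx))
        obtain ⟨m, hm⟩ := hd
        rw [show Nat.card ψ.ker * 48 * C.index = 48 * (Nat.card ψ.ker * C.index) by ring, hc] at hm
        omega }
  refine SubThree.core_groups hG K (K.ker_trivial (fun a ha hak w hw => ?_) vC fun w hw hc => ?_)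
  swap
  · refine Subtype.ext (hfree _ (show w ∈ O' from hker ▸ hw) ?_)
    exact congrArg Subtype.val hc.eq.symm
  obtain ⟨j, hj8, hjj⟩ := sq_code _ ha
  obtain ⟨b, hb⟩ := hsurj (glI j)
  have hbj : K.pi b = j := by show code (ψ b) = j; rw [hb, code_glI]
  have hb8 : ((b : C) : C ⧸ O') ^ 8 = 1 := by
    rw [← QuotientGroup.mk_pow, QuotientGroup.eq_one_iff, ← hker]
    have h1 := (K.pi_eq_iff 1 (b ^ 8)).1 (by rw [K.pi_one, K.pi_pow, hbj, hj8])
    simpa using h1
  obtain ⟨q, hq, hqe⟩ := hsq _ hb8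
  have hab : (a : C ⧸ O') = ((b : C) : C ⧸ O') * (b : C) := by
    rw [← QuotientGroup.mk_mul]
    refine QuotientGroup.eq.2 ?_
    rw [← hker]
    exact (K.pi_eq_iff a (b * b)).1 (by rw [K.pi_mul, hbj, hjj])
  have hqa : (q⁻¹ * a : C) ∈ O' := QuotientGroup.eq.1 (hqe.trans hab.symm)
  have hqO : Commute ((q : G)⁻¹ * (a : G)) q := hOQ _ hqa _ hq
  obtain ⟨k, hk⟩ := hak
  have ha1 : ((q : G)⁻¹ * (a : G)) ^ 2 ^ (k + 3) = 1 := by
    have e1 : (q : G)⁻¹ * (a : G) = (q : G)⁻¹ * (a : G) * (q : G) * (q : G)⁻¹ := by group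
    have hca : Commute (q : G) (a : G) := by
      have := (Commute.refl (q : G)).mul_right hqO.symm
      rwa [mul_inv_cancel_left] at this
    rw [hca.inv_left.mul_pow, inv_pow]
    have hq1 : (q : G) ^ 2 ^ (k + 3) = 1 := orderOf_dvd_iff_pow_eq_one.1
      ((hQ8 ▸ Subgroup.orderOf_dvd_natCard Q hq : orderOf (q : G) ∣ 8).trans
        ⟨2 ^ k, by rw [pow_add]; ring⟩)
    have ha2 : (a : G) ^ 2 ^ (k + 3) = 1 := by
      refine orderOf_dvd_iff_pow_eq_one.1 ?_
      rw [Subgroup.orderOf_coe, hk]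
      exact pow_dvd_pow 2 (by omega)
    rw [hq1, ha2, inv_one, one_mul]
  have hqa1 : (q : G)⁻¹ * (a : G) = 1 := orderOf_eq_one_iff.1 (Nat.eq_one_of_dvd_coprimes
    (Nat.Coprime.pow_left (k + 3) (Nat.coprime_two_left.2 hOodd))
    (orderOf_dvd_of_pow_eq_one ha1) (Subgroup.orderOf_dvd_natCard O hqa))
  have haq : a = q := Subtype.ext (inv_mul_eq_one.1 hqa1).symm
  exact Subtype.ext (haq ▸ hOQ _ (show w ∈ O' from hker ▸ hw) _ hq).eq

end CfsgLib.Recog.OrderSix
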