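import Cfsg.Agent.Lib.Recog.OrderSix.IcosaFacts
import Mathlib.GroupTheory.SpecificGroups.Alternating.Centralizer
import Cfsg.Agent.Lib.Recog.OrderSix.CentTwo
import Cfsg.Agent.Lib.Recog.OrderSix.Elementary
import Cfsg.Agent.Lib.Recog.OrderSix.Second
import Cfsg.Agent.Lib.Fusion.Abelian
import Cfsg.Agent.Lib.Invol.JOneWeak.Main

/-!
# The quotient `A₅` gives the first Janko group
-/

set_option autoImplicit false
set_option linter.unusedSectionVars false

namespace CfsgLib.Recog.OrderSix

open Subgroup Equiv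

universe u

local notation "A" => alternatingGroup (Fin 5)

/-- An involution centralizer with quotient `A₅` by a group of exponent two modulo `⟨u⟩` is `2 × A₅`
and the group is the first Janko group. -/
theorem icosa_case {G : Type u} [Group G] [Finite G] [IsSimpleGroup G] {u v : G}
    (hG : ¬ IsMulCommutative G) (h : Six u v) (N : Subgroup ↥(centralizer ({u} : Set G))) [N.Normal]
    (huN : ∀ g : ↥(centralizer ({u} : Set G)), (g : G) = u → g ∈ N)
    (hsq : ∀ n ∈ N, (n : G) * n = 1 ∨ (n : G) * n = u)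
    (e : ↥(centralizer ({u} : Set G)) ⧸ N ≃* alternatingGroup (Fin 5)) : Cfsg.Spor.IsoJ1 G := by
  classical
  haveI : Fact (Nat.Prime 2) := ⟨Nat.prime_two⟩
  have huu := h.uu
  have hcu : ∀ g ∈ centralizer ({u} : Set G), u * g = g * u := fun g hg =>
    (mem_centralizer_singleton_iff.1 hg).symm
  set vC : ↥(centralizer ({u} : Set G)) := ⟨v, mem_centralizer_singleton_iff.2 h.huv.symm⟩ with hvC
  set uC : ↥(centralizer ({u} : Set G)) := ⟨u, mem_centralizer_singleton_iff.2 rfl⟩ with huC
  set π₀ := e.toMonoidHom.comp (QuotientGroup.mk' N) with hπ₀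
  have hker₀ : ∀ g, π₀ g = 1 ↔ g ∈ N := fun g => by
    rw [hπ₀, MonoidHom.comp_apply, MulEquiv.coe_toMonoidHom, e.map_eq_one_iff]
    exact QuotientGroup.eq_one_iff g
  have hvN : vC ∉ N := fun hm => by
    have h3 := h.vvv
    rcases hsq _ hm with e1 | e1
    · exact h.v_ne (by rw [show v = v * v * v * (v * v)⁻¹ by group, h3, show v * v = 1 from e1, inv_one, one_mul])
    · have hvi : v = u⁻¹ := eq_inv_of_mul_eq_one_right (show u * v = 1 by
        rw [← show v * v = u from e1]; exact h3)
      exact h.ne_v (hvi.trans h.uinv).symm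
  obtain ⟨c, hc⟩ := ic_conj_three (π₀ vC) (by
    rw [← map_mul, ← map_mul, show vC * vC * vC = 1 from Subtype.ext h.vvv, map_one])
    (fun e1 => hvN ((hker₀ _).1 e1))
  set π := (MulAut.conj c).toMonoidHom.comp π₀ with hπ
  have hker : ∀ g, π g = 1 ↔ g ∈ N := fun g => by
    rw [hπ, MonoidHom.comp_apply, MulEquiv.coe_toMonoidHom, MulEquiv.map_eq_one_iff, hker₀]
  have hπs : Function.Surjective π :=
    (MulAut.conj c).surjective.comp (e.surjective.comp (QuotientGroup.mk'_surjective N))
  have hπv : π vC = icThree := hc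
  have hkerN : π.ker = N := Subgroup.ext fun g => hker g
  have hN4 : ∀ g ∈ N, g ^ 4 = 1 := by
    intro g hg
    refine Subtype.ext ?_
    show (g : G) ^ 4 = 1
    rw [show (g : G) ^ 4 = (g : G) * g * ((g : G) * g) by simp [pow_succ, mul_assoc]]
    rcases hsq g hg with e1 | e1 <;> rw [e1]
    · exact one_mul 1
    · exact huu
  -- the Sylow subgroup
  set T := (icFour.comap π).map (centralizer ({u} : Set G)).subtype with hT
  have hTp : IsPGroup 2 T := by
    rintro ⟨_, g, hg, rfl⟩
    refine ⟨3, Subtype.ext ?_⟩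
    have h2 : g * g ∈ N := (hker _).1 (by rw [map_mul]; exact ic_four.2.2.2.1 _ hg)
    show ((g : ↥(centralizer ({u} : Set G))) : G) ^ 2 ^ 3 = 1
    rw [← SubmonoidClass.coe_pow, show g ^ 2 ^ 3 = (g * g) ^ 4 by
      rw [← pow_two, ← pow_mul]; norm_num, hN4 _ h2, Subgroup.coe_one]
  have hTcard : Nat.card T = Nat.card N * 4 := by
    rw [hT, card_map_of_injective (centralizer ({u} : Set G)).subtype_injective,
      ← card_mul_index (π.ker.subgroupOf (icFour.comap π)),
      Nat.card_congr (subgroupOfEquivOfLe (π.ker_le_comap icFour)).toEquiv, hkerN]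
    congr 1
    show N.relIndex (icFour.comap π) = 4
    rw [← hkerN, ← MonoidHom.comap_bot, relIndex_comap, map_comap_eq_self_of_surjective hπs,
      relIndex_bot_left, Nat.card_eq_fintype_card]
    convert ic_four.2.2.2.2.2.1 using 1
    exact Fintype.card_congr (Equiv.refl _)
  have hCcard : Nat.card ↥(centralizer ({u} : Set G)) = Nat.card T * 15 := by
    rw [hTcard, ← card_mul_index π.ker, hkerN, ← hkerN, index_ker, MonoidHom.range_eq_top.2 hπs, card_top,
      hkerN, nat_card_alternatingGroup, Nat.card_fin, mul_assoc]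
    norm_num [Nat.factorial]
  obtain ⟨S, hS⟩ := h.exists_sylow_eq (H := centralizer ({u} : Set G))
    (fun g hg => mem_centralizer_singleton_iff.2 hg) hTp (k := 15) (by decide) hCcard
  have hmemT : ∀ (g : G) (hg : g ∈ centralizer ({u} : Set G)), g ∈ T ↔ inFour (π ⟨g, hg⟩) := by
    intro g hg
    constructor
    · rintro ⟨⟨x, hx⟩, hxF, rfl⟩
      exact hxF
    · exact fun hF => ⟨⟨g, hg⟩, hF, rfl⟩
  have hTC : T ≤ centralizer ({u} : Set G) := map_subtype_le _
  have hu1 : π uC = 1 := (hker _).2 (huN uC rfl)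
  have hPS : PSetup u v T := by
    refine ⟨h, ⟨S, hS⟩, (hmemT u uC.2).2 (by rw [show π ⟨u, uC.2⟩ = π uC from rfl, hu1]; exact ic_four.1),
      fun s hs => hcu s (hTC hs), ?_, ?_⟩
    · rw [mem_normalizer_iff]
      intro g
      constructor
      · intro hg
        refine (hmemT _ (mul_mem (mul_mem vC.2 (hTC hg)) (inv_mem vC.2))).2 ?_
        show inFour (π (vC * ⟨g, hTC hg⟩ * vC⁻¹))
        rw [map_mul, map_mul, map_inv, hπv, ic_four.2.2.2.2.1]
        exact (hmemT g (hTC hg)).1 hg
      · intro hg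
        have hgC : g ∈ centralizer ({u} : Set G) := by
          have := mul_mem (mul_mem (inv_mem vC.2) (hTC hg)) vC.2
          simpa [hvC, mul_assoc] using this
        refine (hmemT g hgC).2 ?_
        have h1 := (hmemT _ (hTC hg)).1 hg
        have e1 : (⟨v * g * v⁻¹, hTC hg⟩ : ↥(centralizer ({u} : Set G))) = vC * ⟨g, hgC⟩ * vC⁻¹ := rfl
        rw [e1, map_mul, map_mul, map_inv, hπv, ic_four.2.2.2.2.1] at h1
        exact h1
    · intro n hn hnu
      set nC : ↥(centralizer ({u} : Set G)) := ⟨n, mem_centralizer_singleton_iff.2 hnu⟩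
      have hmove : ∀ a : A, inFour a → inFour (π nC * a * (π nC)⁻¹) := by
        intro a ha
        obtain ⟨g, rfl⟩ := hπs a
        have h1 : n * (g : G) * n⁻¹ ∈ T := (mem_normalizer_iff.1 hn _).1 ((hmemT g g.2).2 ha)
        have h2 := (hmemT _ (hTC h1)).1 h1
        rw [← map_inv, ← map_mul, ← map_mul]
        exact h2
      have key : ∀ k : ℕ, inFour (π nC * (icThree ^ k)⁻¹) →
          ∃ s ∈ T, ∃ c ∈ centralizer (T : Set G), ∃ k : ℕ, n = s * c * v ^ k := by
        intro k hk
        have hm : n * (v ^ k)⁻¹ ∈ centralizer ({u} : Set G) :=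
          mul_mem nC.2 (inv_mem (pow_mem vC.2 k))
        refine ⟨n * (v ^ k)⁻¹, (hmemT _ hm).2 ?_, 1, one_mem _, k, by
          rw [mul_one, inv_mul_cancel_right]⟩
        show inFour (π (nC * (vC ^ k)⁻¹))
        rwa [map_mul, map_inv, map_pow, hπv]
      rcases ic_four.2.2.2.2.2.2 _ (hmove _ (Or.inr (Or.inl rfl))) (hmove _ (Or.inr (Or.inr (Or.inl rfl))))
        with h1 | h1 | h1
      · exact key 0 (by simpa using h1)
      · exact key 1 (by simpa using h1)
      · exact key 2 (by simpa [pow_two] using h1)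
  obtain ⟨z, hz, hzc, hz1, hzu⟩ : ∃ z ∈ T, (∀ s ∈ T, z * s = s * z) ∧ z ≠ 1 ∧ z ≠ u := by
    by_contra hne
    push_neg at hne
    exact hPS.false_of_center hG fun z hz hzc => or_iff_not_imp_left.2 (hne z hz hzc)
  obtain ⟨hT2, hT8⟩ := hPS.elementary hz hzc hz1 hzu
  have hN2 : Nat.card N = 2 := by rw [hTcard] at hT8; omega
  have hNu : ∀ g, g ∈ N ↔ (g = 1 ∨ g = uC) := by
    intro g
    refine ⟨fun hg => ?_, ?_⟩
    · have h1 : zpowers uC = N := eq_of_le_of_card_ge (zpowers_le.2 (huN uC rfl))
        (by rw [hN2, Nat.card_zpowers, ← Subgroup.orderOf_coe, show ((uC : _) : G) = u from rfl, h.hu])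
      rw [← h1] at hg
      obtain ⟨k, rfl⟩ := mem_zpowers_iff.1 hg
      have hu2 : uC * uC = 1 := Subtype.ext huu
      rcases Int.even_or_odd k with ⟨j, hj⟩ | ⟨j, hj⟩
      · exact Or.inl (by rw [hj, zpow_add, ← (Commute.refl uC).mul_zpow, hu2, one_zpow])
      · exact Or.inr (by
          rw [hj, zpow_add_one, two_mul, zpow_add, ← (Commute.refl uC).mul_zpow, hu2, one_zpow, one_mul])
    · rintro (rfl | rfl)
      · exact N.one_mem
      · exact huN uC rfl
  -- `u` is outside the derived subgroup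
  have huD : uC ∉ commutator ↥(centralizer ({u} : Set G)) := by
    intro hm
    set P := icFour.comap π with hP
    haveI : IsMulCommutative P := ⟨⟨fun a b => Subtype.ext (Subtype.ext (by
      have hsqT : ∀ x : P, ((x : ↥(centralizer ({u} : Set G))) : G) * (x : ↥(centralizer ({u} : Set G))) = 1 :=
        fun x => hT2 _ ⟨_, x.2, rfl⟩
      show ((a : ↥(centralizer ({u} : Set G))) : G) * (b : ↥(centralizer ({u} : Set G))) = _
      have h1 := hsqT (a * b)
      simp only [Subgroup.coe_mul] at h1 ⊢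
      rw [eq_inv_of_mul_eq_one_left h1, _root_.mul_inv_rev, inv_eq_of_mul_eq_one_right (hsqT a),
        inv_eq_of_mul_eq_one_right (hsqT b)]))⟩⟩
    have hcop : Nat.Coprime (Nat.card P) P.index := by
      have h1 : Nat.card P = 8 := by
        rw [← hT8, hT, card_map_of_injective (centralizer ({u} : Set G)).subtype_injective]
      have h2 := P.card_mul_index
      rw [h1, hCcard, hT8] at h2
      rw [h1, show P.index = 15 by omega]
      norm_num
    have hcen : uC ∈ center ↥(centralizer ({u} : Set G)) :=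
      mem_center_iff.2 fun g => Subtype.ext (hcu g g.2).symm
    have h1 := CfsgLib.Fusion.central_inf_commutator_eq_one P hcop hcen hm
      (show inFour (π uC) by rw [hu1]; exact ic_four.1)
    exact h.u_ne (congrArg Subtype.val h1)
  set D := commutator ↥(centralizer ({u} : Set G)) with hD
  have hDmap : D.map π = ⊤ := by
    rw [hD, map_commutator_eq, MonoidHom.range_eq_top.2 hπs, ← _root_.commutator_def]
    exact commutator_alternatingGroup_eq_top (by simp)
  set σ₀ := π.comp D.subtype with hσ₀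
  have hσb : Function.Bijective σ₀ := by
    refine ⟨(injective_iff_map_eq_one _).2 fun g hg => Subtype.ext ?_, fun a => ?_⟩
    · rcases (hNu _).1 ((hker _).1 hg) with e1 | e1
      · exact e1
      · exact absurd (e1 ▸ g.2) huD
    · obtain ⟨g, hg, hga⟩ := (hDmap ▸ mem_top a : a ∈ D.map π)
      exact ⟨⟨g, hg⟩, hga⟩
  set σ : A →* ↥(centralizer ({u} : Set G)) := D.subtype.comp (MulEquiv.ofBijective σ₀ hσb).symm.toMonoidHom
  have hσ : ∀ a, π (σ a) = a := fun a => (MulEquiv.ofBijective σ₀ hσb).apply_symm_apply a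
  -- the weak closure is the whole centralizer
  set W := Subgroup.closure {x : G | ∃ g : G, x = g * u * g⁻¹ ∧ x * u = u * x} with hW
  have hWu : ∀ g : ↥(centralizer ({u} : Set G)), g * g = 1 → (g : G) ∈ W := by
    intro g hg
    by_cases h1 : (g : G) = 1
    · rw [h1]; exact W.one_mem
    obtain ⟨k, hk⟩ := isConj_iff.1 (h.one u g h.hu
      (CfsgLib.Char.SelfCentThree.orderOf_two (congrArg Subtype.val hg) h1))
    exact subset_closure ⟨k, hk.symm, (hcu g g.2).symm⟩
  have hsplit : ∀ g : ↥(centralizer ({u} : Set G)), g = σ (π g) ∨ g = uC * σ (π g) := by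
    intro g
    have h1 : g * (σ (π g))⁻¹ ∈ N := (hker _).1 (by rw [map_mul, map_inv, hσ, mul_inv_cancel])
    rcases (hNu _).1 h1 with e1 | e1
    · exact Or.inl (mul_inv_eq_one.1 e1)
    · exact Or.inr (mul_inv_eq_iff_eq_mul.1 e1)
  have hWC : W = centralizer ({u} : Set G) := by
    refine le_antisymm ((closure_le _).2 ?_) fun g hg => ?_
    · rintro x ⟨-, -, hx⟩
      exact mem_centralizer_singleton_iff.2 hx
    · have hσW : ∀ a, ((σ a : _) : G) ∈ W := by
        intro a
        obtain ⟨x, hx, hxa⟩ := ic_two_invols a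
        have e1 : a = x * (x * a) := by rw [← mul_assoc, hx, one_mul]
        rw [e1, map_mul, Subgroup.coe_mul]
        exact W.mul_mem (hWu _ (by rw [← map_mul, hx, map_one])) (hWu _ (by rw [← map_mul, hxa, map_one]))
      rcases hsplit ⟨g, hg⟩ with e1 | e1
      · rw [show g = ((σ (π ⟨g, hg⟩) : ↥(centralizer ({u} : Set G))) : G) from congrArg Subtype.val e1]
        exact hσW _
      · rw [show g = ((uC * σ (π ⟨g, hg⟩) : ↥(centralizer ({u} : Set G))) : G) from congrArg Subtype.val e1]
        exact W.mul_mem (hWu uC (Subtype.ext huu)) (hσW _)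
  -- the isomorphism with `2 × A₅`
  have hu2 : uC ^ 2 = 1 := Subtype.ext (by rw [SubmonoidClass.coe_pow, pow_two]; exact huu)
  let z2 : Multiplicative (ZMod 2) →* ↥(centralizer ({u} : Set G)) :=
    MonoidHom.mk' (fun i => uC ^ (Multiplicative.toAdd i).val) fun i j => by
      rw [← pow_add, toAdd_mul, ZMod.val_add]
      exact (pow_eq_pow_mod _ hu2).symm
  let φ : Multiplicative (ZMod 2) × A →* ↥(centralizer ({u} : Set G)) :=
    z2.noncommCoprod σ fun i a => ((Commute.pow_left (Subtype.ext (hcu _ (σ a).2)) _ : Commute _ (σ a)))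
  have hφb : Function.Bijective φ := by
    refine ⟨(injective_iff_map_eq_one _).2 ?_, fun g => ?_⟩
    · rintro ⟨i, a⟩ hia
      change z2 i * σ a = 1 at hia
      have hz : π (z2 i) = 1 := by
        show π (uC ^ _) = 1
        rw [map_pow, hu1, one_pow]
      have ha : a = 1 := by
        have := congrArg π hia
        rwa [map_mul, hz, hσ, one_mul, map_one] at this
      subst ha
      rw [map_one, mul_one] at hia
      refine Prod.ext ?_ rfl
      revert hia
      show uC ^ (Multiplicative.toAdd i).val = 1 → i = 1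
      have hne : uC ^ 1 ≠ 1 := fun e1 => h.u_ne (congrArg Subtype.val ((pow_one uC).symm.trans e1))
      rcases ic_zmod_two (Multiplicative.toAdd i) with e1 | e1
      · exact fun _ => Multiplicative.toAdd.injective (e1.trans toAdd_one.symm)
      · rw [e1]; exact fun e2 => absurd e2 hne
    · rcases hsplit g with e1 | e1
      · exact ⟨(1, π g), by
          show z2 1 * σ (π g) = g
          rw [map_one, one_mul]; exact e1.symm⟩
      · exact ⟨(Multiplicative.ofAdd 1, π g), by
          show uC ^ (1 : ZMod 2).val * σ (π g) = g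
          rw [show (1 : ZMod 2).val = 1 from rfl, pow_one]; exact e1.symm⟩
  obtain ⟨ι, hιt, hH⟩ := CfsgLib.Invol.JOneWeak.exists_hyp h.hu S (by rw [hS]; exact hPS.uS)
    (fun s hs => (hPS.uc s (hS ▸ hs)).symm)
    ((MulEquiv.subgroupCongr hWC).trans (MulEquiv.ofBijective φ hφb).symm)
  subst hιt
  have hJ := CfsgLib.Invol.JOneWeak.main hH
  have htop : normalClosure ({(ι CfsgLib.Spor.J1Type.mT : G)} : Set G) = ⊤ := by
    refine (IsSimpleGroup.eq_bot_or_eq_top_of_normal _ normalClosure_normal).resolve_left fun e1 => ?_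
    exact h.u_ne (mem_bot.1 (e1 ▸ subset_normalClosure (Set.mem_singleton _)))
  obtain ⟨f⟩ := hJ
  exact ⟨((MulEquiv.subgroupCongr htop).trans topEquiv).symm.trans f⟩

end CfsgLib.Recog.OrderSix
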