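import Mathlib.GroupTheory.SpecificGroups.Alternating
import Mathlib.Data.ZMod.Basic

/-!
# Facts about the alternating group of degree five
-/

set_option autoImplicit false

namespace CfsgLib.Recog.OrderSix

open Equiv

local notation "A" => alternatingGroup (Fin 5)

/-- An element of order three. -/
def icThree : A := ⟨swap 1 4 * swap 4 2, Perm.mem_alternatingGroup.2 (by decide)⟩

/-- An involution of the four group normalized by `icThree`. -/
def icInv : A := ⟨swap 0 1 * swap 2 4, Perm.mem_alternatingGroup.2 (by decide)⟩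

/-- Membership in the four group. -/
def inFour (n : A) : Prop :=
  n = 1 ∨ n = icInv ∨ n = icThree * icInv * icThree⁻¹ ∨ n = icInv * (icThree * icInv * icThree⁻¹)

instance : DecidablePred inFour := fun n => by unfold inFour; infer_instance

theorem ic_conj_three : ∀ a : A, a * a * a = 1 → a ≠ 1 → ∃ c : A, c * a * c⁻¹ = icThree := by
  decide +kernel

theorem ic_four : inFour 1 ∧ (∀ n, inFour n → inFour n⁻¹) ∧
    (∀ n m, inFour n → inFour m → inFour (n * m)) ∧ (∀ n, inFour n → n * n = 1) ∧
    (∀ n, inFour (icThree * n * icThree⁻¹) ↔ inFour n) ∧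
    Fintype.card {n : A // inFour n} = 4 ∧
    (∀ n, inFour (n * icInv * n⁻¹) → inFour (n * (icThree * icInv * icThree⁻¹) * n⁻¹) →
      inFour n ∨ inFour (n * icThree⁻¹) ∨ inFour (n * (icThree * icThree)⁻¹)) := by
  decide +kernel

theorem ic_two_invols : ∀ a : A, ∃ x : A, x * x = 1 ∧ x * a * (x * a) = 1 := by decide +kernel

theorem ic_zmod_two : ∀ k : ZMod 2, k = 0 ∨ k.val = 1 := by decide

/-- The four group. -/
def icFour : Subgroup A where
  carrier := {n | inFour n}
  one_mem' := ic_four.1
  mul_mem' {n m} hn hm := ic_four.2.2.1 n m hn hm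
  inv_mem' {n} hn := ic_four.2.1 n hn

end CfsgLib.Recog.OrderSix
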