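import Cfsg.Agent.Lib.Recog.OrderSix.Second
import Cfsg.Agent.Lib.Recog.OrderSix.Elementary
import Cfsg.Agent.Lib.PrimeOrders.Model

/-!
# The quotient `PSL(2, 7)` is impossible
-/

set_option autoImplicit false
set_option linter.unusedSectionVars false

namespace CfsgLib.Recog.OrderSix

open Subgroup CfsgLib.PrimeOrders

universe u

theorem sl_seven_sq : ∀ a b c d : ZMod 7, a * d - b * c = 1 → a * a + b * c = c * b + d * d →
    a * b + b * d = 0 → c * a + d * c = 0 → (b = 0 ∧ c = 0 ∧ a = d) ∨ d = -a := by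
  decide +kernel

theorem sl_seven_rep : ∀ a b c : ZMod 7, a * -a - b * c = 1 →
    ∃ w x : ZMod 7, w * -(c * w + -a * x) - -(a * w + b * x) * x = 1 := by
  decide +kernel

/-- The facts used about `PSL(2, 7)`. -/
theorem seven_facts : (∃ r s : P7, r ^ 4 = 1 ∧ r * r ≠ 1 ∧ s * s = 1 ∧ s * r * s⁻¹ = r⁻¹) ∧
    ∀ x y : P7, x * x = 1 → x ≠ 1 → y * y = 1 → y ≠ 1 → IsConj x y := by
  constructor
  · let r : SL7 := ⟨!![2, 2; 5, 2], by decide⟩
    refine ⟨proj r, proj jS, ?_, ?_, ?_, ?_⟩
    · rw [← map_pow]; exact proj_eq_one.2 (neg_one_mem_center (by decide))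
    · rw [← map_mul]; exact proj_ne_one (B := xS) (by decide)
    · rw [← map_mul]; exact proj_eq_one.2 (neg_one_mem_center (by decide))
    · rw [← map_inv, ← map_mul, ← map_mul, ← map_inv]
      exact congrArg proj (by decide)
  · suffices h : ∀ x : P7, x * x = 1 → x ≠ 1 → IsConj (proj iS) x from
      fun x y hx hx1 hy hy1 => (h x hx hx1).symm.trans (h y hy hy1)
    intro x hx hx1
    obtain ⟨A, rfl⟩ := QuotientGroup.mk'_surjective (center SL7) x
    have hc : A * A ∈ center SL7 := (QuotientGroup.eq_one_iff _).1 hx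
    have hnc : A ∉ center SL7 := fun h => hx1 ((QuotientGroup.eq_one_iff _).2 h)
    obtain ⟨k, -, hk⟩ := Matrix.SpecialLinearGroup.mem_center_iff.1 hc
    obtain ⟨M, hM0⟩ := A
    have hM := hM0
    rw [Matrix.det_fin_two] at hM
    have hsq : M * M = Matrix.scalar (Fin 2) k := hk.symm
    have h00 := congrFun (congrFun hsq 0) 0
    have h01 := congrFun (congrFun hsq 0) 1
    have h10 := congrFun (congrFun hsq 1) 0
    have h11 := congrFun (congrFun hsq 1) 1
    simp [Matrix.mul_apply, Fin.sum_univ_two] at h00 h01 h10 h11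
    rcases sl_seven_sq _ _ _ _ hM (h00.trans h11.symm) h01 h10 with ⟨hb, hc', had⟩ | hd
    rotate_left
    · rw [hd] at hM
      obtain ⟨w, x, hwx⟩ := sl_seven_rep _ _ _ hM
      refine isConj_iff.2 ⟨proj ⟨!![w, -(M 0 0 * w + M 0 1 * x); x, -(M 1 0 * w + -M 0 0 * x)],
        by rw [Matrix.det_fin_two_of]; exact hwx⟩, ?_⟩
      rw [mul_inv_eq_iff_eq_mul]
      show proj _ * proj iS = proj _ * proj _
      have h6 : (6 : ZMod 7) = -1 := by decide
      refine (map_mul proj _ _).symm.trans ((congrArg proj (Subtype.ext ?_)).trans (map_mul proj _ _))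
      show (!![w, -(M 0 0 * w + M 0 1 * x); x, -(M 1 0 * w + -M 0 0 * x)] : Matrix (Fin 2) (Fin 2) (ZMod 7)) *
          !![0, 1; 6, 0] = M * !![w, -(M 0 0 * w + M 0 1 * x); x, -(M 1 0 * w + -M 0 0 * x)]
      ext i j
      fin_cases i <;> fin_cases j <;>
        simp [Matrix.mul_apply, Fin.sum_univ_two, hd, h6] <;>
        first
          | ring1
          | linear_combination -(x * hM)
          | linear_combination -(w * hM)
          | linear_combination x * hM
          | linear_combination w * hM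
    · refine absurd (Matrix.SpecialLinearGroup.mem_center_iff.2 ⟨M 0 0, ?_, ?_⟩) hnc
      · simp only [Fintype.card_fin, pow_two]
        rw [hb, ← had] at hM
        linear_combination hM
      · ext i j
        fin_cases i <;> fin_cases j <;> simp [hb, hc', ← had]

/-- An involution centralizer with quotient `PSL(2, 7)` by `⟨u⟩` does not occur. -/
theorem seven_case {G : Type u} [Group G] [Finite G] [IsSimpleGroup G] {u v : G}
    (hG : ¬ IsMulCommutative G) (h : Six u v) (Z : Subgroup ↥(centralizer ({u} : Set G))) [Z.Normal]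
    (hZ : ∀ g : ↥(centralizer ({u} : Set G)), g ∈ Z ↔ ((g : G) = 1 ∨ (g : G) = u))
    (e : ↥(centralizer ({u} : Set G)) ⧸ Z ≃* Matrix.ProjectiveSpecialLinearGroup (Fin 2) (ZMod 7)) :
    False := by
  classical
  haveI : Fact (Nat.Prime 2) := ⟨Nat.prime_two⟩
  set π := e.toMonoidHom.comp (QuotientGroup.mk' Z) with hπ
  have hπs : Function.Surjective π := e.surjective.comp (QuotientGroup.mk'_surjective Z)
  have hker : ∀ g, π g = 1 ↔ ((g : G) = 1 ∨ (g : G) = u) := fun g => by
    rw [← hZ, hπ, MonoidHom.comp_apply, MulEquiv.coe_toMonoidHom, e.map_eq_one_iff]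
    exact QuotientGroup.eq_one_iff g
  have huu := h.uu
  have hcu : ∀ g ∈ (centralizer ({u} : Set G)), u * g = g * u := fun g hg => (mem_centralizer_singleton_iff.1 hg).symm
  obtain ⟨P, huP, hPc⟩ := exists_sylow_central h h.hu
  by_cases hone : ∀ y ∈ (centralizer ({u} : Set G)), orderOf y = 2 → y = u
  · exact false_of_one_invol hG P h.hu fun y hy hyo =>
      hone y (mem_centralizer_singleton_iff.2 (hPc y hy).symm) hyo
  push_neg at hone
  obtain ⟨y, hyC, hyo, hyu⟩ := hone
  obtain ⟨⟨r, s, hr4, hr2, hs2, hsr⟩, hconj⟩ := seven_facts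
  have hyy : π ⟨y, hyC⟩ * π ⟨y, hyC⟩ = 1 ∧ π ⟨y, hyC⟩ ≠ 1 := by
    refine ⟨?_, fun e1 => ?_⟩
    · rw [← map_mul, show (⟨y, hyC⟩ : (centralizer ({u} : Set G))) * ⟨y, hyC⟩ = 1 from
        Subtype.ext (CfsgLib.Char.SelfCentThree.mul_self_invol hyo), map_one]
    · rcases (hker _).1 e1 with e2 | e2
      · exact CfsgLib.Char.SelfCentThree.ne_one_of_order hyo (by norm_num) e2
      · exact hyu e2
  -- the involutions of the quotient lift to involutions
  have hlift : ∀ x : (centralizer ({u} : Set G)), π x * π x = 1 → π x ≠ 1 → (x : G) * x = 1 := by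
    intro x hx hx1
    obtain ⟨c, hc⟩ := isConj_iff.1 (hconj _ _ hyy.1 hyy.2 hx hx1)
    obtain ⟨c, rfl⟩ := hπs c
    have h1 : π ((c * ⟨y, hyC⟩ * c⁻¹)⁻¹ * x) = 1 := by
      rw [map_mul, map_inv, map_mul, map_mul, map_inv, hc, inv_mul_cancel]
    have hy2 := CfsgLib.Char.SelfCentThree.mul_self_invol hyo
    set d := (c : G) * y * (c : G)⁻¹ with hd
    have hd2 : d * d = 1 := by
      rw [hd, show (c : G) * y * (c : G)⁻¹ * ((c : G) * y * (c : G)⁻¹) = (c : G) * (y * y) * (c : G)⁻¹ by
        group, hy2, mul_one, mul_inv_cancel]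
    rcases (hker _).1 h1 with e1 | e1
    · have e2 : d⁻¹ * (x : G) = 1 := e1
      rw [← inv_mul_eq_one.1 e2, hd2]
    · have e2 : (x : G) = d * u := inv_mul_eq_iff_eq_mul.1 e1
      have hdu : Commute d u := (hcu d ((centralizer ({u} : Set G)).mul_mem ((centralizer ({u} : Set G)).mul_mem c.2 hyC) ((centralizer ({u} : Set G)).inv_mem c.2))).symm
      rw [e2, ← pow_two, hdu.mul_pow, pow_two, pow_two, hd2, huu, mul_one]
  obtain ⟨r', hr'⟩ := hπs r
  obtain ⟨s', hs'⟩ := hπs s
  have hs1 : s ≠ 1 := fun e1 => by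
    rw [e1, one_mul, inv_one, mul_one] at hsr
    exact hr2 (mul_eq_one_iff_eq_inv.2 hsr)
  have hsr1 : s * r ≠ 1 := fun e1 => by
    have e2 : s = r⁻¹ := eq_inv_of_mul_eq_one_left e1
    rw [e2] at hs2
    exact hr2 (by rw [← inv_inv (r * r), _root_.mul_inv_rev, hs2, inv_one])
  set R : G := (r' : G) with hR
  set S' : G := (s' : G) with hS'
  set w := R * R with hw
  have hw2 : w * w = 1 := hlift (r' * r') (by
    rw [map_mul, hr', show r * r * (r * r) = r ^ 4 by simp [pow_succ, mul_assoc], hr4])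
    (by rw [map_mul, hr']; exact hr2)
  have hS2 : S' * S' = 1 := hlift s' (by rw [hs', hs2]) (by rw [hs']; exact hs1)
  have hSR : S' * R * (S' * R) = 1 := hlift (s' * r') (by
    rw [map_mul, hs', hr', show s * r * (s * r) = s * r * s⁻¹ * (s * s) * r by group, hsr, hs2,
      mul_one, inv_mul_cancel]) (by rw [map_mul, hs', hr']; exact hsr1)
  have hinv : S' * R * S'⁻¹ = R⁻¹ := by
    rw [inv_eq_of_mul_eq_one_right hS2]
    exact eq_inv_of_mul_eq_one_left (by rwa [mul_assoc (S' * R)])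
  have hwu : w ≠ u := fun e1 => hr2 (by
    rw [← hr', ← map_mul]; exact (hker _).2 (Or.inr e1))
  have hw1 : w ≠ 1 := fun e1 => hr2 (by
    rw [← hr', ← map_mul]; exact (hker _).2 (Or.inl e1))
  have hRu : Commute R u := (hcu R r'.2).symm
  have hSu : Commute S' u := (hcu S' s'.2).symm
  -- the dihedral group in the quotient
  let D : Subgroup P7 :=
    { carrier := {x | ∃ i : ℤ, x = r ^ i ∨ x = s * r ^ i}
      one_mem' := ⟨0, Or.inl (zpow_zero r).symm⟩
      mul_mem' := by
        have hcm : ∀ i : ℤ, r ^ i * s = s * r ^ (-i) := fun i => by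
          rw [zpow_neg, ← inv_zpow, ← hsr, conj_zpow, ← mul_assoc, ← mul_assoc, hs2, one_mul,
            inv_eq_of_mul_eq_one_right hs2]
        rintro x y ⟨i, rfl | rfl⟩ ⟨j, rfl | rfl⟩
        · exact ⟨i + j, Or.inl (zpow_add r i j).symm⟩
        · exact ⟨-i + j, Or.inr (by rw [← mul_assoc, hcm, mul_assoc, ← zpow_add])⟩
        · exact ⟨i + j, Or.inr (by rw [mul_assoc, ← zpow_add])⟩
        · exact ⟨-i + j, Or.inl (by
            rw [mul_assoc, ← mul_assoc (r ^ i), hcm, mul_assoc, ← zpow_add, ← mul_assoc, hs2, one_mul])⟩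
      inv_mem' := by
        rintro x ⟨i, rfl | rfl⟩
        · exact ⟨-i, Or.inl (zpow_neg r i).symm⟩
        · refine ⟨i, Or.inr (inv_eq_of_mul_eq_one_right ?_)⟩
          rw [show s * r ^ i * (s * r ^ i) = s * r ^ i * s⁻¹ * (s * s) * r ^ i by group, hs2, mul_one,
            ← conj_zpow, hsr, inv_zpow, inv_mul_cancel] }
  have hro : orderOf r = 4 := orderOf_eq_prime_pow (p := 2) (n := 1)
    (by rw [pow_one, pow_two]; exact hr2) hr4
  have hD : Nat.card D = 8 := by
    have hle : zpowers r ≤ D := zpowers_le.2 ⟨1, Or.inl (zpow_one r).symm⟩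
    have hsn : s ∉ zpowers r := fun hm => by
      obtain ⟨i, hi⟩ := mem_zpowers_iff.1 hm
      rw [← hi, (Commute.zpow_self r i).eq, mul_inv_cancel_right] at hsr
      exact hr2 (mul_eq_one_iff_eq_inv.2 hsr)
    have h2 : ((zpowers r).subgroupOf D).index = 2 := by
      rw [index_eq_two_iff]
      refine ⟨⟨s, 0, Or.inr (by simp)⟩, ?_⟩
      rintro ⟨b, i, rfl | rfl⟩
      · refine Or.inr ⟨zpow_mem (mem_zpowers r) i, fun hm => hsn ?_⟩
        exact ((zpowers r).mul_mem_cancel_left (zpow_mem (mem_zpowers r) i)).1 hm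
      · refine Or.inl ⟨?_, fun hm => hsn
          (((zpowers r).mul_mem_cancel_right (zpow_mem (mem_zpowers r) i)).1 hm)⟩
        show s * r ^ i * s ∈ zpowers r
        rw [show s * r ^ i * s = s * r ^ i * s⁻¹ * (s * s) by group, hs2, mul_one, ← conj_zpow, hsr,
          inv_zpow]
        exact inv_mem (zpow_mem (mem_zpowers r) i)
    have h3 := ((zpowers r).subgroupOf D).card_mul_index
    rw [h2, Nat.card_congr (subgroupOfEquivOfLe hle).toEquiv, Nat.card_zpowers, hro] at h3
    omega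
  set T := (D.comap π).map (centralizer ({u} : Set G)).subtype with hT
  have hform : ∀ x ∈ T, ∃ (z : G) (i : ℤ), (z = 1 ∨ z = u) ∧ (x = R ^ i * z ∨ x = S' * R ^ i * z) := by
    rintro _ ⟨x, ⟨i, hi | hi⟩, rfl⟩
    · refine ⟨_, i, (hker ((r' ^ i)⁻¹ * x)).1 (by rw [map_mul, map_inv, map_zpow, hr', hi, inv_mul_cancel]),
        Or.inl ?_⟩
      show (x : G) = R ^ i * ((R ^ i)⁻¹ * (x : G))
      rw [mul_inv_cancel_left]
    · refine ⟨_, i, (hker ((s' * r' ^ i)⁻¹ * x)).1 (by
          rw [map_mul, map_inv, map_mul, map_zpow, hs', hr', hi, inv_mul_cancel]), Or.inr ?_⟩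
      show (x : G) = S' * R ^ i * ((S' * R ^ i)⁻¹ * (x : G))
      rw [mul_inv_cancel_left]
  have hzz : ∀ z : G, z = 1 ∨ z = u → z * z = 1 := by
    rintro z (rfl | rfl)
    · exact one_mul 1
    · exact huu
  have hzc : ∀ (z : G), z = 1 ∨ z = u → ∀ g ∈ (centralizer ({u} : Set G)), Commute g z := by
    rintro z (rfl | rfl) g hg
    · exact Commute.one_right g
    · exact (hcu g hg).symm
  -- squares
  have hsq : ∀ x ∈ T, ∃ i : ℤ, x * x = w ^ i := by
    intro x hx
    obtain ⟨z, i, hz, rfl | rfl⟩ := hform x hx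
    · refine ⟨i, ?_⟩
      rw [← pow_two, (hzc z hz _ ((centralizer ({u} : Set G)).zpow_mem r'.2 i)).mul_pow, pow_two, pow_two, hzz z hz, mul_one, hw,
        (Commute.refl R).mul_zpow]
    · refine ⟨0, ?_⟩
      rw [← pow_two, (hzc z hz _ ((centralizer ({u} : Set G)).mul_mem s'.2 ((centralizer ({u} : Set G)).zpow_mem r'.2 i))).mul_pow, pow_two, pow_two, hzz z hz,
        mul_one, show S' * R ^ i * (S' * R ^ i) = S' * R ^ i * S'⁻¹ * (S' * S') * R ^ i by group, hS2,
        mul_one, ← conj_zpow, hinv, inv_zpow, inv_mul_cancel, zpow_zero]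
  have hwc : ∀ x ∈ T, w * x = x * w := by
    intro x hx
    have hwR : Commute w R := (Commute.refl R).mul_left (Commute.refl R)
    have hwS : Commute w S' := by
      refine (mul_inv_eq_iff_eq_mul.1 ?_ : S' * w = w * S').symm
      rw [hw, show S' * (R * R) * S'⁻¹ = S' * R * S'⁻¹ * (S' * R * S'⁻¹) by group, hinv,
        ← _root_.mul_inv_rev]
      exact inv_eq_of_mul_eq_one_right hw2
    obtain ⟨z, i, hz, rfl | rfl⟩ := hform x hx
    · exact ((hwR.zpow_right i).mul_right (hzc z hz _ ((centralizer ({u} : Set G)).mul_mem r'.2 r'.2))).eq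
    · exact (((hwS.mul_right (hwR.zpow_right i))).mul_right (hzc z hz _ ((centralizer ({u} : Set G)).mul_mem r'.2 r'.2))).eq
  have hker2 : Nat.card π.ker = 2 := by
    have e1 : (π.ker).map (centralizer ({u} : Set G)).subtype = zpowers u := by
      ext g
      constructor
      · rintro ⟨g, hg, rfl⟩
        rcases (hker g).1 hg with e2 | e2 <;> rw [show ((centralizer ({u} : Set G)).subtype g) = (g : G) from rfl, e2]
        · exact one_mem _
        · exact mem_zpowers u
      · intro hg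
        obtain ⟨k, hk⟩ := Finset.mem_image.1 (mem_zpowers_iff_mem_range_orderOf.1 hg)
        refine ⟨⟨g, ?_⟩, (hker _).2 ?_, rfl⟩
        · rw [← hk.2]; exact pow_mem (mem_centralizer_singleton_iff.2 rfl) k
        · have := hk.1
          rw [h.hu, Finset.mem_range] at this
          interval_cases k
          · exact Or.inl (show g = 1 from hk.2.symm.trans (pow_zero u))
          · exact Or.inr (show g = u from hk.2.symm.trans (pow_one u))
    rw [← card_map_of_injective (centralizer ({u} : Set G)).subtype_injective, e1, Nat.card_zpowers, h.hu]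
  have hTcard : Nat.card T = 16 := by
    rw [hT, card_map_of_injective (centralizer ({u} : Set G)).subtype_injective, ← card_mul_index (π.ker.subgroupOf (D.comap π)),
      Nat.card_congr (subgroupOfEquivOfLe (π.ker_le_comap D)).toEquiv, hker2]
    have : (π.ker.subgroupOf (D.comap π)).index = Nat.card D := by
      show π.ker.relIndex (D.comap π) = _
      rw [← MonoidHom.comap_bot, relIndex_comap, map_comap_eq_self_of_surjective hπs, relIndex_bot_left]
    rw [this, hD]
  have hCcard : Nat.card (centralizer ({u} : Set G)) = Nat.card T * 21 := by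
    rw [hTcard, ← card_mul_index π.ker, hker2, index_ker, MonoidHom.range_eq_top.2 hπs, card_top, card_P7]
  have hTp : IsPGroup 2 T := IsPGroup.of_card (n := 4) (by rw [hTcard]; norm_num)
  obtain ⟨S, hS⟩ := h.exists_sylow_eq (H := (centralizer ({u} : Set G))) (fun g hg => mem_centralizer_singleton_iff.2 hg) hTp
    (k := 21) (by decide) hCcard
  have huT : u ∈ T := ⟨⟨u, mem_centralizer_singleton_iff.2 rfl⟩, ⟨0, Or.inl (by
    rw [zpow_zero]; exact (hker _).2 (Or.inr rfl))⟩, rfl⟩
  have hRT : R ∈ T := ⟨r', ⟨1, Or.inl (by rw [zpow_one, hr'])⟩, rfl⟩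
  have hTC : ∀ x ∈ T, u * x = x * u := by
    rintro _ ⟨x, -, rfl⟩
    exact hcu x x.2
  obtain ⟨g, hg⟩ := isConj_iff.1 (h.one u w h.hu (CfsgLib.Char.SelfCentThree.orderOf_two hw2 hw1))
  clear_value T
  subst hS
  have hgw : g⁻¹⁻¹ * u * g⁻¹ = w := by rw [inv_inv]; exact hg
  obtain ⟨n, hn, e1⟩ := Sylow.conj_eq_normalizer_conj_of_mem_centralizer S u g⁻¹
    (mem_centralizer_iff.2 fun x hx => (hTC x hx).symm)
    (by rw [hgw]; exact mem_centralizer_iff.2 fun x hx => (hwc x hx).symm)
  rw [hgw] at e1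
  obtain ⟨i, hi⟩ := hsq _ ((mem_normalizer_iff.1 hn R).1 hRT)
  have e2 : u = n * R * n⁻¹ * (n * R * n⁻¹) := by
    rw [show n * R * n⁻¹ * (n * R * n⁻¹) = n * w * n⁻¹ by rw [hw]; group, e1]
    group
  rw [hi] at e2
  rcases Int.even_or_odd i with ⟨k, hk⟩ | ⟨k, hk⟩
  · rw [hk, zpow_add, ← (Commute.refl w).mul_zpow, hw2, one_zpow] at e2
    exact h.u_ne e2
  · rw [hk, zpow_add_one, two_mul, zpow_add, ← (Commute.refl w).mul_zpow, hw2, one_zpow, one_mul] at e2
    exact hwu e2.symm

end CfsgLib.Recog.OrderSix
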