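import Cfsg.Agent.Lib.Recog.OrderSix.Lines
import Cfsg.Agent.Lib.Coprime.UniqueOrderP
import Cfsg.Agent.Lib.Coprime.Solvable

/-!
# Two-cores without a second type of involution
-/

set_option autoImplicit false
set_option linter.unusedSectionVars false
set_option linter.style.haveILetI false

namespace CfsgLib.Recog.OrderSix

open Subgroup CfsgLib.Char.SelfCentThree

universe u

variable {G : Type u} [Group G] [Finite G] {u v s : G} {Q O : Subgroup G}

theorem card_le_eight_pairs {α : Type*} [DecidableEq α] (a b c d e f g i : α) :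
    ({a, b, c, d, e, f, g, i} : Finset α).card ≤ 8 := by
  refine (Finset.card_le_card (t := [a, b, c, d, e, f, g, i].toFinset) fun x hx => ?_).trans
    (List.toFinset_card_le _)
  simpa using hx

/-- The second centre of `Q`. -/
def Top.Z2 (h : Top u v Q O s) : Subgroup G where
  carrier := {a | a ∈ Q ∧ ∀ q ∈ Q, a * q = q * a ∨ a * q = u * (q * a)}
  one_mem' := ⟨one_mem _, fun q _ => Or.inl (by rw [one_mul, mul_one])⟩
  mul_mem' := by
    rintro a b ⟨ha, hac⟩ ⟨hb, hbc⟩
    refine ⟨mul_mem ha hb, fun s' hs => ?_⟩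
    have hau : a * u = u * a := h.core.qu ha
    rcases hbc s' hs with e | e <;> rcases hac s' hs with e' | e'
    · left; rw [mul_assoc, e, ← mul_assoc, e', mul_assoc]
    · right; rw [mul_assoc, e, ← mul_assoc, e']; group
    · right
      rw [mul_assoc, e, ← mul_assoc, hau, mul_assoc u a, ← mul_assoc a s', e']; group
    · left
      rw [mul_assoc, e, ← mul_assoc, hau, mul_assoc u a, ← mul_assoc a s', e',
        show u * (u * (s' * a) * b) = (u * u) * (s' * (a * b)) by group, h.core.six.uu, one_mul]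
  inv_mem' := by
    rintro a ⟨ha, hac⟩
    refine ⟨inv_mem ha, fun s' hs => ?_⟩
    rcases hac s' hs with e | e
    · exact Or.inl ((show Commute a s' from e).inv_left.eq)
    · right
      calc a⁻¹ * s' = a⁻¹ * (s' * a) * a⁻¹ := by group
        _ = a⁻¹ * (u⁻¹ * (a * s')) * a⁻¹ := by rw [e]; group
        _ = u * (s' * a⁻¹) := by
          rw [h.core.six.uinv, ← mul_assoc a⁻¹ u, h.core.qu (inv_mem ha)]; group

/-- Without involutions central modulo `u` in `S` the two-core is small. -/
theorem Top.small_core (h : Top u v Q O s) (hne : ∃ q ∈ Q, q ≠ 1 ∧ q ≠ u)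
    (hno : ∀ x ∈ Q, x * x = 1 → (∀ b ∈ h.S, x * b = b * x ∨ x * b = u * (b * x)) → x = 1 ∨ x = u) :
    Nonempty (↥Q ≃* QuaternionGroup 2) ∨ (Nat.card Q = 32 ∧ (∀ a ∈ Q, a * a = 1 ∨ a * a = u) ∧
      (∀ a ∈ Q, ∀ b ∈ Q, a * b = b * a ∨ a * b = u * (b * a)) ∧
      ∃ x ∈ Q, x * x = 1 ∧ x ≠ 1 ∧ x ≠ u) := by
  classical
  haveI : Fact (Nat.Prime 2) := ⟨Nat.prime_two⟩
  haveI : Fact (Nat.Prime 3) := ⟨Nat.prime_three⟩
  haveI := Fintype.ofFinite G
  have hc := h.core
  have huu := hc.six.uu
  have hflip : ∀ {a b : G}, a * b = u * (b * a) → b * a = u * (a * b) := fun {a b} e => by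
    rw [e, ← mul_assoc, huu, one_mul]
  set Z2 := h.Z2 with hZ2
  have hZQ : Z2 ≤ Q := fun a ha => ha.1
  have hmemZ : ∀ {a}, a ∈ Z2 ↔ a ∈ Q ∧ ∀ q ∈ Q, a * q = q * a ∨ a * q = u * (q * a) := Iff.rfl
  have huZ : u ∈ Z2 := ⟨hc.uQ, fun q hq => Or.inl (hc.qu hq).symm⟩
  have hconjZ : ∀ g, g * u = u * g → ∀ a ∈ Z2, g * a * g⁻¹ ∈ Z2 := by
    intro g hg a ⟨ha, hac⟩
    refine ⟨hc.conjQ hg ha, fun q hq => ?_⟩
    have hgu : g * u * g⁻¹ = u := by rw [hg, mul_inv_cancel_right]
    rcases hac _ (hc.conjQ' hg hq) with e | e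
    · left
      calc g * a * g⁻¹ * q = g * (a * (g⁻¹ * q * g)) * g⁻¹ := by group
        _ = g * ((g⁻¹ * q * g) * a) * g⁻¹ := by rw [e]
        _ = _ := by group
    · right
      calc g * a * g⁻¹ * q = g * (a * (g⁻¹ * q * g)) * g⁻¹ := by group
        _ = (g * u * g⁻¹) * (q * (g * a * g⁻¹)) := by rw [e]; group
        _ = _ := by rw [hgu]
  have hsq : ∀ a ∈ Z2, a * a = 1 ∨ a * a = u := by
    intro a ⟨ha, hac⟩
    refine h.center_Q (mul_mem ha ha) fun q hq => ?_
    rcases hac q hq with e | e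
    · rw [mul_assoc, e, ← mul_assoc, e, mul_assoc]
    · calc a * a * q = a * (u * (q * a)) := by rw [mul_assoc, e]
        _ = u * (a * q) * a := by rw [← mul_assoc a u, hc.qu ha]; group
        _ = (u * u) * (q * (a * a)) := by rw [e]; group
        _ = _ := by rw [huu, one_mul]
  have hconj_u : ∀ q ∈ Q, q * u * q⁻¹ = u := fun q hq => by rw [hc.qu hq, mul_inv_cancel_right]
  -- elements fixed by `s` modulo `u`
  let inF : G → Prop := fun a => a ∈ Z2 ∧ (s * a * s⁻¹ = a ∨ s * a * s⁻¹ = u * a)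
  have hFtype : ∀ a, inF a → a * a = 1 → a = 1 ∨ a = u := by
    intro a ⟨ha, has⟩ ha2
    refine hno a ha.1 ha2 ?_
    rintro b (hb | hb)
    · exact ha.2 b hb
    · obtain ⟨q, hq, rfl⟩ : ∃ q ∈ Q, b = q * s := ⟨_, hb, (inv_mul_cancel_right b s).symm⟩
      have hqu := hc.qu hq
      have hau := hc.qu ha.1
      rcases has with e | e <;> rcases ha.2 q hq with e' | e'
      · left
        rw [mul_inv_eq_iff_eq_mul] at e
        rw [← mul_assoc, e', mul_assoc, ← e, mul_assoc]
      · right
        rw [mul_inv_eq_iff_eq_mul] at e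
        rw [← mul_assoc, e', mul_assoc, mul_assoc q a s, ← e, mul_assoc q s]
      · right
        rw [mul_inv_eq_iff_eq_mul, mul_assoc] at e
        rw [← mul_assoc, e', mul_assoc q a s, show a * s = u * (s * a) by rw [e, ← mul_assoc u u, huu, one_mul],
          ← mul_assoc q u, hqu]; group
      · left
        rw [mul_inv_eq_iff_eq_mul, mul_assoc] at e
        rw [← mul_assoc, e', mul_assoc u (q * a) s, mul_assoc q a s,
          show a * s = u * (s * a) by rw [e, ← mul_assoc u u, huu, one_mul],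
          ← mul_assoc q u, hqu, show u * (u * q * (s * a)) = (u * u) * (q * s * a) by group, huu, one_mul]
  have hFsq : ∀ a, inF a → a ≠ 1 → a ≠ u → a * a = u := fun a ha h1 h2 =>
    (hsq a ha.1).resolve_left fun e => ((hFtype a ha e).elim h1 h2)
  have hFmul : ∀ a b, inF a → inF b → inF (a * b) := by
    intro a b ⟨ha, has⟩ ⟨hb, hbs⟩
    refine ⟨mul_mem ha hb, ?_⟩
    have e0 : s * (a * b) * s⁻¹ = (s * a * s⁻¹) * (s * b * s⁻¹) := by group
    have hau := hc.qu ha.1
    rcases has with e | e <;> rcases hbs with e' | e' <;> rw [e0, e, e']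
    · exact Or.inl rfl
    · right; rw [← mul_assoc, hau, mul_assoc]
    · right; rw [mul_assoc]
    · left; rw [mul_assoc u a, ← mul_assoc a u, hau, show u * (u * a * b) = (u * u) * (a * b) by group, huu, one_mul]
  -- centre of the second centre
  have hZZ : ∀ a ∈ Z2, (∀ b ∈ Z2, a * b = b * a) → a = 1 ∨ a = u := by
    intro w hw hwc
    by_contra hw1
    have hcs : ∀ g, g * u = u * g → ∀ a, a ∈ Z2 → (∀ b ∈ Z2, a * b = b * a) →
        ∀ b ∈ Z2, (g * a * g⁻¹) * b = b * (g * a * g⁻¹) := by
      intro g hg a _ hac b hb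
      have hb' : g⁻¹ * b * g ∈ Z2 := by
        have := hconjZ g⁻¹ ((show Commute g u from hg).inv_left.eq) b hb
        rwa [inv_inv] at this
      calc g * a * g⁻¹ * b = g * (a * (g⁻¹ * b * g)) * g⁻¹ := by group
        _ = g * ((g⁻¹ * b * g) * a) * g⁻¹ := by rw [hac _ hb']
        _ = _ := by group
    obtain ⟨f, hf, hfc, hf1⟩ : ∃ f, inF f ∧ (∀ b ∈ Z2, f * b = b * f) ∧ ¬ (f = 1 ∨ f = u) := by
      have hsw := hconjZ s h.su w hw
      have hswc := hcs s h.su w hw hwc
      by_cases hcase : w * (s * w * s⁻¹) = 1 ∨ w * (s * w * s⁻¹) = u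
      · refine ⟨w, ⟨hw, ?_⟩, hwc, hw1⟩
        rcases hcase with e | e
        · rcases hsq w hw with e' | e'
          · left; exact mul_left_cancel (e.trans e'.symm)
          · right
            refine mul_left_cancel (e.trans ?_ : w * (s * w * s⁻¹) = w * (u * w))
            rw [← mul_assoc, hc.qu hw.1, mul_assoc, e', huu]
        · rcases hsq w hw with e' | e'
          · right
            refine mul_left_cancel (e.trans ?_ : w * (s * w * s⁻¹) = w * (u * w))
            rw [← mul_assoc, hc.qu hw.1, mul_assoc, e', mul_one]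
          · left; exact mul_left_cancel (e.trans e'.symm)
      · refine ⟨w * (s * w * s⁻¹), ⟨mul_mem hw hsw, Or.inl ?_⟩, fun b hb => ?_, hcase⟩
        · have hss : s * (s * w * s⁻¹) * s⁻¹ = w := by
            rw [show s * (s * w * s⁻¹) * s⁻¹ = (s * s) * w * (s * s)⁻¹ by group]
            rcases h.ss with e | e <;> rw [e]
            · group
            · rw [← hc.qu hw.1, mul_inv_cancel_right]
          rw [show s * (w * (s * w * s⁻¹)) * s⁻¹ = (s * w * s⁻¹) * (s * (s * w * s⁻¹) * s⁻¹) by group, hss,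
            hswc w hw]
        · rw [mul_assoc, hswc b hb, ← mul_assoc, hwc b hb, mul_assoc]
    have hff := hFsq f hf (fun e => hf1 (Or.inl e)) fun e => hf1 (Or.inr e)
    obtain ⟨f1, hf1d⟩ : ∃ f1, f1 = v * f * v⁻¹ := ⟨_, rfl⟩
    obtain ⟨f2, hf2d⟩ : ∃ f2, f2 = v * f1 * v⁻¹ := ⟨_, rfl⟩
    have hvu := hc.six.huv.symm
    have h1Z : f1 ∈ Z2 := hf1d ▸ hconjZ v hvu f hf.1
    have h2Z : f2 ∈ Z2 := hf2d ▸ hconjZ v hvu f1 h1Z
    have h1c : ∀ b ∈ Z2, f1 * b = b * f1 := hf1d ▸ hcs v hvu f hf.1 hfc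
    have h2c : ∀ b ∈ Z2, f2 * b = b * f2 := hf2d ▸ hcs v hvu f1 h1Z h1c
    have hvuv : v * u * v⁻¹ = u := by rw [hvu, mul_inv_cancel_right]
    have h11 : f1 * f1 = u := by
      rw [hf1d, show v * f * v⁻¹ * (v * f * v⁻¹) = v * (f * f) * v⁻¹ by group, hff, hvuv]
    have h22 : f2 * f2 = u := by
      rw [hf2d, show v * f1 * v⁻¹ * (v * f1 * v⁻¹) = v * (f1 * f1) * v⁻¹ by group, h11, hvuv]
    have hfix : (f * f1 * f2) * v = v * (f * f1 * f2) := by
      refine (mul_inv_eq_iff_eq_mul.1 ?_).symm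
      have h33 : v * f2 * v⁻¹ = f := by
        rw [hf2d, hf1d, show v * (v * (v * f * v⁻¹) * v⁻¹) * v⁻¹ = (v * v * v) * f * (v * v * v)⁻¹ by group,
          hc.six.vvv, one_mul, inv_one, mul_one]
      rw [show v * (f * f1 * f2) * v⁻¹ = (v * f * v⁻¹) * (v * f1 * v⁻¹) * (v * f2 * v⁻¹) by group, ← hf1d,
        ← hf2d, h33, ← hfc _ (mul_mem h1Z h2Z), mul_assoc]
    have hT : (f * f1 * f2) * (f * f1 * f2) = u := by
      calc f * f1 * f2 * (f * f1 * f2) = f * ((f1 * f2) * f) * (f1 * f2) := by group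
        _ = (f * f) * (f1 * (f2 * f1) * f2) := by rw [← hfc _ (mul_mem h1Z h2Z)]; group
        _ = (f * f) * ((f1 * f1) * (f2 * f2)) := by rw [h2c f1 h1Z]; group
        _ = u := by rw [hff, h11, h22, huu, mul_one]
    rcases hc.fixQ (hZQ (mul_mem (mul_mem hf.1 h1Z) h2Z)) hfix with e | e <;> rw [e] at hT
    · rw [one_mul] at hT; exact hc.six.u_ne hT.symm
    · exact hc.six.u_ne (hT.symm.trans huu)
  -- `Q` is equal to its second centre
  let Cq : Subgroup G → Subgroup G := fun A => Q ⊓ centralizer (A : Set G)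
  have hCtriv : ∀ a ∈ Cq Z2, a = 1 ∨ a = u := by
    by_contra hcon
    push Not at hcon
    obtain ⟨c, hc0, hc1, hcu⟩ := hcon
    haveI : Group.IsNilpotent Q := hc.hQ.isNilpotent
    have hZmem : ∀ a : Q, a ∈ center Q ↔ (a : G) = 1 ∨ (a : G) = u := fun a => by
      constructor
      · exact fun ha => h.center_Q a.2 fun q hq => (congrArg Subtype.val (mem_center_iff.1 ha ⟨q, hq⟩)).symm
      · rintro (e | e) <;> refine mem_center_iff.2 fun b => Subtype.ext ?_ <;> simp only [coe_mul, e]
        · rw [one_mul, mul_one]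
        · exact hc.qu b.2
    set Cs : Subgroup Q := (Cq Z2).subgroupOf Q with hCs
    haveI : Cs.Normal := by
      refine ⟨fun n hn g => ?_⟩
      rw [hCs, mem_subgroupOf] at hn ⊢
      refine mem_inf.2 ⟨(g * n * g⁻¹).2, mem_centralizer_iff.2 fun b hb => ?_⟩
      have hb' : (g : G)⁻¹ * b * g ∈ Z2 := by
        have := hconjZ (g : G)⁻¹ ((show Commute (g : G) u from hc.qu g.2).inv_left.eq) b hb
        rwa [inv_inv] at this
      simp only [coe_mul, coe_inv]
      have e := mem_centralizer_iff.1 (mem_inf.1 hn).2 _ hb'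
      calc b * ((g : G) * n * (g : G)⁻¹) = g * (((g : G)⁻¹ * b * g) * n) * (g : G)⁻¹ := by group
        _ = g * ((n : G) * ((g : G)⁻¹ * b * g)) * (g : G)⁻¹ := by rw [e]
        _ = _ := by group
    haveI : (Cs.map (QuotientGroup.mk' (center Q))).Normal :=
      (inferInstance : Cs.Normal).map _ (QuotientGroup.mk'_surjective _)
    have hneb : Cs.map (QuotientGroup.mk' (center Q)) ≠ ⊥ := by
      intro e
      have : QuotientGroup.mk' (center Q) ⟨c, (mem_inf.1 hc0).1⟩ ∈ Cs.map (QuotientGroup.mk' (center Q)) :=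
        ⟨_, mem_subgroupOf.2 hc0, rfl⟩
      rw [e, mem_bot, QuotientGroup.mk'_apply, QuotientGroup.eq_one_iff, hZmem] at this
      exact this.elim hc1 hcu
    obtain ⟨_, ⟨⟨a, ha, rfl⟩, haz⟩, ha1⟩ := (bot_or_exists_ne_one _).resolve_left
      (CfsgLib.Coprime.nilpotent_inf_center_ne_bot (Cs.map (QuotientGroup.mk' (center Q))) hneb)
    have haZ : (a : G) ∈ Z2 := by
      refine ⟨a.2, fun q hq => ?_⟩
      have e := mem_center_iff.1 haz ((⟨q, hq⟩ : Q) : Q ⧸ center Q)
      rw [QuotientGroup.mk'_apply, ← QuotientGroup.mk_mul, ← QuotientGroup.mk_mul, QuotientGroup.eq, hZmem] at e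
      simp only [coe_mul, coe_inv] at e
      rcases e with e | e
      · exact Or.inl (inv_mul_eq_one.1 e).symm
      · refine Or.inr ((inv_mul_eq_iff_eq_mul.1 e).trans ?_)
        exact hc.qu (mul_mem hq a.2)
    refine ha1 ((QuotientGroup.eq_one_iff a).2 ((hZmem a).2 (hZZ _ haZ fun b hb => ?_)))
    exact (mem_centralizer_iff.1 (mem_inf.1 (mem_subgroupOf.1 ha)).2 b hb).symm
  have hcount : 2 * Nat.card Q ≤ Nat.card Z2 * Nat.card (Cq Z2) := by
    obtain ⟨A, ⟨hAZ, hA⟩, hAmax⟩ := (Set.toFinite {A : Subgroup G | A ≤ Z2 ∧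
      2 * Nat.card Q ≤ Nat.card A * Nat.card (Cq A)}).exists_maximal ⟨zpowers u, zpowers_le.2 huZ, by
        have e : Cq (zpowers u) = Q := inf_eq_left.2 fun q hq => mem_centralizer_iff.2 fun a ha => by
          obtain ⟨j, rfl⟩ := mem_zpowers_iff.1 ha
          exact ((show Commute u q from (hc.qu hq).symm).zpow_left j).eq
        rw [e, Nat.card_zpowers, hc.six.hu]⟩
    suffices Z2 ≤ A by rwa [le_antisymm hAZ this] at hA
    intro a ha
    by_contra haA
    set A' := A ⊔ zpowers a with hA'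
    have hlt : A < A' := lt_of_le_of_ne le_sup_left fun e => haA (e ▸ mem_sup_right (mem_zpowers a))
    refine hlt.not_ge (hAmax ⟨sup_le hAZ (zpowers_le.2 ha), ?_⟩ hlt.le)
    have h2A : 2 * Nat.card A ≤ Nat.card A' := by
      have e := (A.subgroupOf A').card_mul_index
      rw [Nat.card_congr (subgroupOfEquivOfLe hlt.le).toEquiv] at e
      have h2 : 2 ≤ (A.subgroupOf A').index := by
        have h0 := (A.subgroupOf A').index_ne_zero_of_finite
        have h1 : (A.subgroupOf A').index ≠ 1 := fun e' =>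
          hlt.not_ge (subgroupOf_eq_top.1 (index_eq_one.1 e'))
        omega
      rw [← e, mul_comm 2]
      exact Nat.mul_le_mul_left _ h2
    set K := Cq A with hK
    set K' := Cq A' with hK'
    have hKmem : ∀ q, q ∈ K' ↔ q ∈ K ∧ q * a = a * q := by
      intro q
      refine ⟨fun hq => ⟨mem_inf.2 ⟨(mem_inf.1 hq).1, mem_centralizer_iff.2 fun b hb =>
          mem_centralizer_iff.1 (mem_inf.1 hq).2 b (mem_sup_left hb)⟩,
          (mem_centralizer_iff.1 (mem_inf.1 hq).2 a (mem_sup_right (mem_zpowers a))).symm⟩, ?_⟩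
      rintro ⟨hq, hqa⟩
      refine mem_inf.2 ⟨(mem_inf.1 hq).1, ?_⟩
      have hle : A' ≤ centralizer ({q} : Set G) := sup_le
        (fun b hb => mem_centralizer_singleton_iff.2 (mem_centralizer_iff.1 (mem_inf.1 hq).2 b hb))
        (zpowers_le.2 (mem_centralizer_singleton_iff.2 hqa.symm))
      exact mem_centralizer_iff.2 fun b hb => mem_centralizer_singleton_iff.1 (hle hb)
    have hK2 : Nat.card K ≤ 2 * Nat.card K' := by
      by_cases hall : ∀ q ∈ K, q * a = a * q
      · have : K ≤ K' := fun q hq => (hKmem q).2 ⟨hq, hall q hq⟩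
        have := Subgroup.card_le_of_le this
        omega
      push Not at hall
      obtain ⟨q0, hq0, hq0a⟩ := hall
      have hcov : ∀ q ∈ K, q ∈ K' ∨ q0⁻¹ * q ∈ K' := by
        intro q hq
        by_cases hqa : q * a = a * q
        · exact Or.inl ((hKmem q).2 ⟨hq, hqa⟩)
        refine Or.inr ((hKmem _).2 ⟨mul_mem (inv_mem hq0) hq, ?_⟩)
        have e1 := hflip ((ha.2 q (mem_inf.1 hq).1).resolve_left fun e => hqa e.symm)
        have e2 := hflip ((ha.2 q0 (mem_inf.1 hq0).1).resolve_left fun e => hq0a e.symm)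
        calc q0⁻¹ * q * a = q0⁻¹ * (u * (a * q)) := by rw [mul_assoc, e1]
          _ = q0⁻¹ * (u * (a * q0)) * (q0⁻¹ * q) := by group
          _ = _ := by rw [← e2]; group
      have : Nat.card K ≤ Nat.card (K' ⊕ K') := by
        refine Nat.card_le_card_of_injective (fun q : K => if hh : (q : G) ∈ K' then Sum.inl ⟨q, hh⟩
          else Sum.inr ⟨q0⁻¹ * q, (hcov q q.2).resolve_left hh⟩) ?_
        intro p q e
        simp only at e
        split_ifs at e with h1 h2 h3
        · simpa using e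
        · simp only [Sum.inr.injEq, Subtype.mk.injEq, mul_right_inj] at e
          exact Subtype.ext e
      rw [Nat.card_sum] at this
      omega
    calc 2 * Nat.card Q ≤ Nat.card A * Nat.card K := hA
      _ ≤ Nat.card A * (2 * Nat.card K') := Nat.mul_le_mul_left _ hK2
      _ = (2 * Nat.card A) * Nat.card K' := by ring
      _ ≤ _ := Nat.mul_le_mul_right _ h2A
  have hCq2 : Nat.card (Cq Z2) ≤ 2 := by
    refine (Nat.card_le_card_of_injective
      (fun a : Cq Z2 => (⟨(a : G), by simpa using hCtriv a a.2⟩ : ({1, u} : Finset G)))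
      fun a b hab => Subtype.ext (congrArg (fun x : ↥({1, u} : Finset G) => x.1) hab)).trans ?_
    rw [Nat.card_eq_fintype_card, Fintype.card_coe]; exact Finset.card_le_two
  have hZeq : Z2 = Q := eq_of_le_of_card_ge hZQ (by
    have := Nat.mul_le_mul_left (Nat.card Z2) hCq2
    omega)
  have hsqQ : ∀ a ∈ Q, a * a = 1 ∨ a * a = u := fun a ha => hsq a (hZeq ▸ ha)
  have hcomQ : ∀ a ∈ Q, ∀ b ∈ Q, a * b = b * a ∨ a * b = u * (b * a) := fun a ha b hb =>
    ((hmemZ).1 (hZeq ▸ ha)).2 b hb
  -- the fixed elements form at most four classes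
  have hFanti : ∀ a c, inF a → inF c → a ≠ 1 → a ≠ u → c ≠ 1 → c ≠ u → c ≠ a → c ≠ u * a →
      a * c = u * (c * a) := by
    intro a c ha hc' ha1 hau hc1 hcu hca hcua
    have haa := hFsq a ha ha1 hau
    have hcc := hFsq c hc' hc1 hcu
    refine (hcomQ a ha.1.1 c hc'.1.1).resolve_left fun e => ?_
    have e2 : (a * c) * (a * c) = 1 := by
      rw [show a * c * (a * c) = a * (c * a) * c by group, ← e,
        show a * (a * c) * c = (a * a) * (c * c) by group, haa, hcc, huu]
    rcases hFtype _ (hFmul a c ha hc') e2 with e3 | e3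
    · apply hcua
      rw [eq_inv_of_mul_eq_one_right e3]
      refine inv_eq_of_mul_eq_one_right ?_
      rw [← mul_assoc, hc.qu ha.1.1, mul_assoc, haa, huu]
    · exact hca (mul_left_cancel (e3.trans haa.symm))
  have hF4 : ∃ a c, ∀ f, inF f → ({f, u * f} : Finset G) ∈
      ({({1, u * 1} : Finset G), {a, u * a}, {c, u * c}, {a * c, u * (a * c)}} : Finset (Finset G)) := by
    have hsame : ∀ f g : G, f = g ∨ f = u * g → ({f, u * f} : Finset G) = {g, u * g} := by
      rintro f g (rfl | rfl)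
      · rfl
      · rw [← mul_assoc, huu, one_mul, Finset.pair_comm]
    by_cases hex : ∃ a, inF a ∧ a ≠ 1 ∧ a ≠ u
    swap
    · push Not at hex
      refine ⟨1, 1, fun f hf => ?_⟩
      have : f = 1 ∨ f = u * 1 := by
        by_cases h1 : f = 1
        · exact Or.inl h1
        · exact Or.inr (by rw [mul_one]; exact hex f hf h1)
      rw [hsame f 1 this]; simp
    obtain ⟨a, ha, ha1, hau⟩ := hex
    by_cases hex2 : ∃ c, inF c ∧ c ≠ 1 ∧ c ≠ u ∧ c ≠ a ∧ c ≠ u * a
    swap
    · push Not at hex2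
      refine ⟨a, 1, fun f hf => ?_⟩
      by_cases h1 : f = 1 ∨ f = u
      · rw [hsame f 1 (h1.imp_right fun e => by rw [e, mul_one])]; simp
      · push Not at h1
        have : f = a ∨ f = u * a := by
          by_cases h2 : f = a
          · exact Or.inl h2
          · exact Or.inr (hex2 f hf h1.1 h1.2 h2)
        rw [hsame f a this]; simp
    obtain ⟨c, hc', hc1, hcu, hca, hcua⟩ := hex2
    refine ⟨a, c, fun f hf => ?_⟩
    by_cases h1 : f = 1 ∨ f = u
    · rw [hsame f 1 (h1.imp_right fun e => by rw [e, mul_one])]; simp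
    by_cases h2 : f = a ∨ f = u * a
    · rw [hsame f a h2]; simp
    by_cases h3 : f = c ∨ f = u * c
    · rw [hsame f c h3]; simp
    by_cases h4 : f = a * c ∨ f = u * (a * c)
    · rw [hsame f _ h4]; simp
    exfalso
    push Not at h1 h2 h3 h4
    have e1 := hFanti a c ha hc' ha1 hau hc1 hcu hca hcua
    have hac1 : a * c ≠ 1 := fun e => hcua (by
      rw [eq_inv_of_mul_eq_one_right e]
      refine inv_eq_of_mul_eq_one_right ?_
      rw [← mul_assoc, hc.qu ha.1.1, mul_assoc, hFsq a ha ha1 hau, huu])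
    have hacu : a * c ≠ u := fun e => hca (mul_left_cancel (e.trans (hFsq a ha ha1 hau).symm))
    have e2 := hFanti (a * c) f (hFmul a c ha hc') hf hac1 hacu h1.1 h1.2 h4.1 h4.2
    have e3 := hFanti a f ha hf ha1 hau h1.1 h1.2 h2.1 h2.2
    have e4 := hFanti c f hc' hf hc1 hcu h1.1 h1.2 h3.1 h3.2
    apply hc.six.u_ne
    have e5 : a * c * f = f * (a * c) := by
      calc a * c * f = a * (u * (f * c)) := by rw [mul_assoc, e4]
        _ = u * (a * f) * c := by rw [← mul_assoc a u, hc.qu ha.1.1]; group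
        _ = (u * u) * (f * (a * c)) := by rw [e3]; group
        _ = _ := by rw [huu, one_mul]
    rw [e5] at e2
    exact mul_eq_right.1 e2.symm
  obtain ⟨a0, c0, hF4⟩ := hF4
  have h32 : Nat.card Q ≤ 32 := by
    rw [← hZeq]
    let φ : Z2 → Finset G := fun a => {(a : G) * (s * a * s⁻¹), u * ((a : G) * (s * a * s⁻¹))}
    have hφF : ∀ a : Z2, inF ((a : G) * (s * a * s⁻¹)) := by
      intro a
      have hsa := hconjZ s h.su a a.2
      refine ⟨mul_mem a.2 hsa, ?_⟩
      have hss : s * (s * (a : G) * s⁻¹) * s⁻¹ = a := by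
        rw [show s * (s * (a : G) * s⁻¹) * s⁻¹ = (s * s) * a * (s * s)⁻¹ by group]
        rcases h.ss with e | e <;> rw [e]
        · group
        · rw [← hc.qu a.2.1, mul_inv_cancel_right]
      rw [show s * ((a : G) * (s * a * s⁻¹)) * s⁻¹ = (s * a * s⁻¹) * (s * (s * (a : G) * s⁻¹) * s⁻¹) by group, hss]
      exact hcomQ _ hsa.1 _ a.2.1
    haveI := Fintype.ofFinite Z2
    rw [Nat.card_eq_fintype_card, ← Finset.card_univ]
    refine le_trans (Finset.card_le_mul_card_image Finset.univ 8 (f := φ) fun b hb => ?_) ?_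
    · obtain ⟨a, -, rfl⟩ := Finset.mem_image.1 hb
      -- a fibre is a coset of the fixed elements
      let E : Finset G := ({1, u, a0, u * a0, c0, u * c0, a0 * c0, u * (a0 * c0)} : Finset G)
      refine le_trans (Finset.card_le_card_of_injOn (fun b : Z2 => (a : G)⁻¹ * b) (fun b hb => ?_)
        fun p _ q _ e => Subtype.ext (mul_left_cancel e)) (show E.card ≤ 8 from card_le_eight_pairs _ _ _ _ _ _ _ _)
      rw [Finset.mem_coe, Finset.mem_filter] at hb
      obtain ⟨d, hd⟩ : ∃ d, d = (a : G)⁻¹ * b := ⟨_, rfl⟩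
      have hdZ : d ∈ Z2 := hd ▸ mul_mem (inv_mem a.2) b.2
      have hdQ := hdZ.1
      have hbmem : (b : G) * (s * b * s⁻¹) ∈ φ a := by rw [← hb.2]; simp [φ]
      have hsaQ : s * (a : G) * s⁻¹ ∈ Q := h.sQ a.2.1
      have hdF : inF d := by
        refine ⟨hdZ, ?_⟩
        have hsd : s * d * s⁻¹ ∈ Q := h.sQ hdQ
        have hmid : (b : G) * (s * b * s⁻¹) = (a : G) * (d * (s * a * s⁻¹)) * (s * d * s⁻¹) := by
          rw [hd]; group
        have hval : ∀ e : G, (e = 1 ∨ e = u) →
            (b : G) * (s * b * s⁻¹) = e * ((a : G) * (s * a * s⁻¹) * (d * (s * d * s⁻¹))) →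
            s * d * s⁻¹ = d ∨ s * d * s⁻¹ = u * d := by
          intro e he heq
          have huQ := hc.uQ
          set p := (a : G) * (s * a * s⁻¹)
          have hep : e * p = p * e := by
            rcases he with rfl | rfl
            · rw [one_mul, mul_one]
            · exact (hc.qu (mul_mem a.2.1 hsaQ)).symm
          have hds : d * (s * d * s⁻¹) = 1 ∨ d * (s * d * s⁻¹) = u := by
            simp only [φ, Finset.mem_insert, Finset.mem_singleton, heq, ← mul_assoc e p, hep, mul_assoc p e] at hbmem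
            rcases hbmem with e' | e' <;> rcases he with h0 | h0 <;> rw [h0] at e'
            · left; rw [one_mul] at e'; exact mul_eq_left.1 e'
            · right; have e'' := mul_eq_left.1 e'
              rw [eq_inv_of_mul_eq_one_right e'', hc.six.uinv]
            · right; rw [one_mul] at e'
              rw [← mul_right_inj p, e']; exact (hc.qu (mul_mem a.2.1 hsaQ)).symm
            · left
              rw [show u * p = p * u from (hc.qu (mul_mem a.2.1 hsaQ)).symm, mul_right_inj] at e'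
              exact mul_eq_left.1 e'
          rcases hds with e' | e' <;> rcases hsqQ d hdQ with e'' | e''
          · left; exact mul_left_cancel (e'.trans e''.symm)
          · right
            refine mul_left_cancel (e'.trans ?_ : d * (s * d * s⁻¹) = d * (u * d))
            rw [← mul_assoc, hc.qu hdQ, mul_assoc, e'', huu]
          · right
            refine mul_left_cancel (e'.trans ?_ : d * (s * d * s⁻¹) = d * (u * d))
            rw [← mul_assoc, hc.qu hdQ, mul_assoc, e'', mul_one]
          · left; exact mul_left_cancel (e'.trans e''.symm)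
        rcases hcomQ d hdQ _ hsaQ with e | e
        · refine hval 1 (Or.inl rfl) ?_
          rw [hmid, e]; group
        · refine hval u (Or.inr rfl) ?_
          rw [hmid, e, ← mul_assoc (a : G) u, hc.qu a.2.1]; group
      have h4 := hF4 d hdF
      simp only [Finset.mem_coe, E, Finset.mem_insert, Finset.mem_singleton, ← hd] at h4 ⊢
      have hmem : d ∈ ({d, u * d} : Finset G) := by simp
      rcases h4 with e | e | e | e <;> rw [e] at hmem <;>
        simp only [Finset.mem_insert, Finset.mem_singleton] at hmem <;> rcases hmem with e' | e' <;>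
        rw [e'] <;> simp
    · refine le_trans (Nat.mul_le_mul_left 8 (Finset.card_le_card (t :=
        ({({1, u * 1} : Finset G), {a0, u * a0}, {c0, u * c0}, {a0 * c0, u * (a0 * c0)}} : Finset (Finset G)))
        fun b hb => ?_)) ?_
      · obtain ⟨a, -, rfl⟩ := Finset.mem_image.1 hb
        exact hF4 _ (hφF a)
      · exact le_trans (Nat.mul_le_mul_left 8 Finset.card_le_four) (by norm_num)
  -- the order is two modulo three
  obtain ⟨k, hk⟩ := hc.hQ.exists_card_eq
  have hk5 : k ≤ 5 := by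
    by_contra hgt
    have : 2 ^ 6 ≤ 2 ^ k := Nat.pow_le_pow_right (by norm_num) (by omega)
    omega
  haveI := Fintype.ofFinite Q
  have hle : zpowers v ≤ normalizer (Q : Set G) := zpowers_le.2 (hc.Qn hc.v_mem)
  letI : MulAction (zpowers v) Q := MulAction.compHom Q (Q.normalizerMonoidHom.comp (inclusion hle))
  have hvz : IsPGroup 3 (zpowers v) := IsPGroup.of_card (n := 1) (by rw [Nat.card_zpowers, hc.six.hv, pow_one])
  have hmod := hvz.card_modEq_card_fixedPoints Q
  have hfp : Nat.card (MulAction.fixedPoints (zpowers v) Q) = 2 := by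
    have e1 : ∀ a : Q, a ∈ MulAction.fixedPoints (zpowers v) Q ↔ ((a : G) = 1 ∨ (a : G) = u) := by
      intro a
      constructor
      · intro ha
        have e : v * (a : G) * v⁻¹ = a := congrArg Subtype.val (ha ⟨v, mem_zpowers v⟩)
        exact hc.fixQ a.2 (mul_inv_eq_iff_eq_mul.1 e).symm
      · rintro hh ⟨g, hg⟩
        obtain ⟨j, rfl⟩ := mem_zpowers_iff.1 hg
        refine Subtype.ext ?_
        show v ^ j * (a : G) * (v ^ j)⁻¹ = a
        rcases hh with e | e <;> rw [e]
        · group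
        · rw [((show Commute v u from hc.six.huv.symm).zpow_left j).eq, mul_inv_cancel_right]
    refine le_antisymm ?_ ?_
    · refine (Nat.card_le_card_of_injective (fun a : MulAction.fixedPoints (zpowers v) Q =>
        (⟨(a.1 : G), by simpa using (e1 _).1 a.2⟩ : ({1, u} : Finset G))) fun a b hab => ?_).trans ?_
      · exact Subtype.ext (Subtype.ext (congrArg (fun c : ↥({1, u} : Finset G) => c.1) hab))
      · rw [Nat.card_eq_fintype_card, Fintype.card_coe]; exact Finset.card_le_two
    · haveI : Nontrivial (MulAction.fixedPoints (zpowers v) Q) :=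
        ⟨⟨⟨1, (e1 _).2 (Or.inl rfl)⟩, ⟨⟨u, hc.uQ⟩, (e1 _).2 (Or.inr rfl)⟩, fun e =>
          hc.six.u_ne (congrArg Subtype.val (congrArg Subtype.val e)).symm⟩⟩
      exact Finite.one_lt_card
  rw [hfp, hk] at hmod
  have h2lt : 2 < Nat.card Q := by
    obtain ⟨q, hq, hq1, hqu⟩ := hne
    rw [Nat.card_eq_fintype_card]
    refine Fintype.two_lt_card_iff.2 ⟨1, ⟨u, hc.uQ⟩, ⟨q, hq⟩, ?_, ?_, ?_⟩
    · exact fun c => hc.six.u_ne (congrArg Subtype.val c).symm
    · exact fun c => hq1 (congrArg Subtype.val c).symm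
    · exact fun c => hqu (congrArg Subtype.val c).symm
  have hcases : Nat.card Q = 8 ∨ Nat.card Q = 32 := by
    rw [hk] at h2lt ⊢
    interval_cases k
    all_goals first
      | (simp only [Nat.ModEq] at hmod; omega)
      | norm_num
  have hnab : ¬ ∀ a b : Q, a * b = b * a := by
    intro hab
    obtain ⟨q, hq, hq1, hqu⟩ := hne
    exact (h.center_Q hq fun b hb => congrArg Subtype.val (hab ⟨q, hq⟩ ⟨b, hb⟩)).elim hq1 hqu
  by_cases hinv : ∃ x ∈ Q, x * x = 1 ∧ x ≠ 1 ∧ x ≠ u
  · rcases hcases with h8 | h32'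
    swap
    · exact Or.inr ⟨h32', hsqQ, hcomQ, hinv⟩
    exfalso
    obtain ⟨x, hx, hx2, hx1, hxu⟩ := hinv
    set y := v * x * v⁻¹ with hy
    set z := v * y * v⁻¹ with hz
    have hvu' := hc.six.huv.symm
    have hyQ : y ∈ Q := hc.vQ hx
    have hzQ : z ∈ Q := hc.vQ hyQ
    have hvuv : v * u * v⁻¹ = u := by rw [hvu', mul_inv_cancel_right]
    have hy2 : y * y = 1 := by
      rw [hy, show v * x * v⁻¹ * (v * x * v⁻¹) = v * (x * x) * v⁻¹ by group, hx2]; group
    have hz2 : z * z = 1 := by
      rw [hz, show v * y * v⁻¹ * (v * y * v⁻¹) = v * (y * y) * v⁻¹ by group, hy2]; group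
    have hnc : ∀ w w' : G, w ∈ Q → w ≠ 1 → w ≠ u → w' = v * w * v⁻¹ → w' ≠ w ∧ w' ≠ u * w := by
      intro w w' hw hw1 hwu hw'
      constructor
      · intro e
        exact (hc.fixQ hw (mul_inv_eq_iff_eq_mul.1 (hw'.symm.trans e)).symm).elim hw1 hwu
      · intro e
        have h3 : v * (v * (v * w * v⁻¹) * v⁻¹) * v⁻¹ = w := by
          rw [show v * (v * (v * w * v⁻¹) * v⁻¹) * v⁻¹ = (v * v * v) * w * (v * v * v)⁻¹ by group,
            hc.six.vvv, one_mul, inv_one, mul_one]
        rw [← hw', e, show v * (u * w) * v⁻¹ = (v * u * v⁻¹) * (v * w * v⁻¹) by group, hvuv, ← hw', e,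
          show u * (u * w) = w by rw [← mul_assoc, huu, one_mul], ← hw', e] at h3
        exact hc.six.u_ne (mul_eq_right.1 h3)
    have hne1 : ∀ w w' : G, w ≠ 1 → w ≠ u → w' = v * w * v⁻¹ → w' ≠ 1 ∧ w' ≠ u := by
      intro w w' hw1 hwu hw'
      refine ⟨fun e => hw1 (conj_eq_one_iff.1 (hw'.symm.trans e)), fun e => hwu ?_⟩
      rw [e] at hw'
      rw [← hvuv, mul_left_inj, mul_right_inj] at hw'
      exact hw'.symm
    obtain ⟨hy1, hyu⟩ := hne1 x y hx1 hxu rfl
    obtain ⟨hz1, hzu⟩ := hne1 y z hy1 hyu rfl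
    obtain ⟨hyx, hyux⟩ := hnc x y hx hx1 hxu rfl
    obtain ⟨hzy, hzuy⟩ := hnc y z hyQ hy1 hyu rfl
    have hxz : x = v * z * v⁻¹ := by
      rw [hz, hy, show v * (v * (v * x * v⁻¹) * v⁻¹) * v⁻¹ = (v * v * v) * x * (v * v * v)⁻¹ by group,
        hc.six.vvv, one_mul, inv_one, mul_one]
    obtain ⟨hxz1, hxuz⟩ := hnc z x hzQ hz1 hzu hxz
    have hzux : z ≠ u * x := fun e => hxuz (by rw [e, ← mul_assoc, huu, one_mul])
    set Z := center Q with hZ
    have hZmem : ∀ a : Q, a ∈ Z ↔ (a : G) = 1 ∨ (a : G) = u := fun a => by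
      constructor
      · exact fun ha => h.center_Q a.2 fun q hq => (congrArg Subtype.val (mem_center_iff.1 ha ⟨q, hq⟩)).symm
      · rintro (e | e) <;> refine mem_center_iff.2 fun b => Subtype.ext ?_ <;> simp only [coe_mul, e]
        · rw [one_mul, mul_one]
        · exact hc.qu b.2
    have hmk : ∀ a b : Q, (a : Q ⧸ Z) = b ↔ (b : G) = a ∨ (b : G) = u * a := fun a b => by
      rw [QuotientGroup.eq, hZmem, coe_mul, coe_inv]
      constructor
      · rintro (e | e)
        · exact Or.inl (inv_mul_eq_one.1 e).symm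
        · exact Or.inr ((inv_mul_eq_iff_eq_mul.1 e).trans (hc.qu a.2))
      · rintro (e | e)
        · exact Or.inl (by rw [e, inv_mul_cancel])
        · exact Or.inr (by rw [e, ← hc.qu a.2, inv_mul_cancel_left])
    have hidx : Nat.card (Q ⧸ Z) = 4 := by
      have hZ2' : Nat.card Z = 2 := by
        rw [show Z = zpowers (⟨u, hc.uQ⟩ : Q) from le_antisymm (fun a ha => by
          rcases (hZmem a).1 ha with e | e
          · rw [show a = 1 from Subtype.ext e]; exact one_mem _
          · rw [show a = ⟨u, hc.uQ⟩ from Subtype.ext e]; exact mem_zpowers _)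
          (zpowers_le.2 ((hZmem _).2 (Or.inr rfl))), Nat.card_zpowers, ← Subgroup.orderOf_coe]
        exact hc.six.hu
      have e := Z.card_mul_index
      rw [hZ2', h8, index_eq_card] at e
      omega
    haveI := Fintype.ofFinite (Q ⧸ Z)
    let E : Finset (Q ⧸ Z) := {((1 : Q) : Q ⧸ Z), ((⟨x, hx⟩ : Q) : Q ⧸ Z), ((⟨y, hyQ⟩ : Q) : Q ⧸ Z),
      ((⟨z, hzQ⟩ : Q) : Q ⧸ Z)}
    have hEtop : E = Finset.univ := by
      apply Finset.eq_univ_of_card
      rw [← Nat.card_eq_fintype_card, hidx]
      refine Finset.card_eq_four.2 ⟨_, _, _, _, ?_, ?_, ?_, ?_, ?_, ?_, rfl⟩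
      all_goals rw [Ne, hmk]
      · exact fun e => e.elim hx1 fun e => hxu (by simpa using e)
      · exact fun e => e.elim hy1 fun e => hyu (by simpa using e)
      · exact fun e => e.elim hz1 fun e => hzu (by simpa using e)
      · exact fun e => e.elim hyx hyux
      · exact fun e => e.elim (Ne.symm hxz1) hzux
      · exact fun e => e.elim hzy hzuy
    have hcov : ∀ q ∈ Q, q = 1 ∨ q = u ∨ q = x ∨ q = u * x ∨ q = y ∨ q = u * y ∨ q = z ∨ q = u * z := by
      intro q hq
      have hmem : ((⟨q, hq⟩ : Q) : Q ⧸ Z) ∈ E := hEtop ▸ Finset.mem_univ _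
      simp only [E, Finset.mem_insert, Finset.mem_singleton] at hmem
      rcases hmem with e | e | e | e <;> rcases (hmk _ _).1 e.symm with e' | e' <;>
        simp only [OneMemClass.coe_one, mul_one] at e' <;> simp [e']
    have hup : ∀ p ∈ Q, p * p = 1 → (u * p) * (u * p) = 1 := fun p hp e => by
      rw [show u * p * (u * p) = u * (p * u) * p by group, hc.qu hp, ← mul_assoc u u, huu, one_mul, e]
    have hall : ∀ q ∈ Q, q * q = 1 := by
      intro q hq
      rcases hcov q hq with rfl | rfl | rfl | rfl | rfl | rfl | rfl | rfl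
      · exact mul_one 1
      · exact huu
      · exact hx2
      · exact hup x hx hx2
      · exact hy2
      · exact hup y hyQ hy2
      · exact hz2
      · exact hup z hzQ hz2
    refine hnab fun a b => Subtype.ext ?_
    have ha := hall a a.2
    have hb := hall b b.2
    have hab := hall _ (mul_mem a.2 b.2)
    show (a : G) * b = b * a
    calc (a : G) * b = ((a : G) * b)⁻¹ := eq_inv_of_mul_eq_one_left hab
      _ = _ := by rw [mul_inv_rev, inv_eq_of_mul_eq_one_right ha, inv_eq_of_mul_eq_one_right hb]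
  · left
    push Not at hinv
    have huniq : CfsgLib.Coprime.UniqueOrderP 2 Q := by
      intro a b ha2 hb2 ha1
      have hval : ∀ c : Q, c ^ 2 = 1 → c ≠ 1 → (c : G) = u := fun c hc2 hc1 =>
        hinv c c.2 (by
          have := congrArg Subtype.val hc2
          rwa [SubgroupClass.coe_pow, pow_two] at this) fun e => hc1 (Subtype.ext e)
      by_cases hb1 : b = 1
      · rw [hb1]; exact one_mem _
      · rw [show b = a from Subtype.ext ((hval b hb2 hb1).trans (hval a ha2 ha1).symm)]
        exact mem_zpowers a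
    rcases CfsgLib.Coprime.cyclic_or_quaternion_of_unique_two hc.hQ huniq with hcyc | ⟨n, ⟨e⟩⟩
    · haveI := hcyc
      exact absurd (fun a b => (IsCyclic.commGroup (α := Q)).mul_comm a b) hnab
    · have hn : n = 1 := by
        have he := Nat.card_congr e.toEquiv
        rw [Nat.card_eq_fintype_card (α := QuaternionGroup (2 ^ n)), QuaternionGroup.card] at he
        rcases hcases with h8 | h32'
        · rw [h8] at he
          exact Nat.pow_right_injective (le_refl 2) (show 2 ^ n = 2 ^ 1 by omega)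
        · exfalso
          rw [h32'] at he
          have hn3 : n = 3 := Nat.pow_right_injective (le_refl 2) (show 2 ^ n = 2 ^ 3 by omega)
          subst hn3
          set q := e.symm (QuaternionGroup.a 1)
          have hq4 : q ^ 4 = 1 := by
            refine Subtype.ext ?_
            rw [SubgroupClass.coe_pow, show 4 = 2 * 2 from rfl, pow_mul, pow_two, pow_two]
            rcases hsqQ q q.2 with e' | e' <;> rw [e']
            · exact mul_one 1
            · exact huu
          have h16 : orderOf q = 16 := by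
            rw [e.symm.orderOf_eq, QuaternionGroup.orderOf_a_one]; norm_num
          have := orderOf_dvd_of_pow_eq_one hq4
          rw [h16] at this
          norm_num at this
      subst hn
      exact ⟨e⟩

end CfsgLib.Recog.OrderSix
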