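import Cfsg.Agent.Lib.Recog.OrderSix.AmalgamSmall
import Cfsg.Agent.Lib.Recog.OrderSix.SmallCore
import Cfsg.Agent.Lib.Recog.OrderSix.CoreThree
import Cfsg.Agent.Lib.Recog.OrderSix.FourCase
import Cfsg.Agent.Lib.Recog.OrderSix.GLCase
import Cfsg.Agent.Lib.Recog.OrderSix.IcosaCase
import Cfsg.Agent.Lib.Recog.OrderSix.SevenCase

/-!
# Simple groups with a self-centralizing element of order six and one class of involutions
-/

set_option autoImplicit false
set_option linter.unusedSectionVars false

namespace CfsgLib.Recog.OrderSix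

open Subgroup CfsgLib.Char.SelfCentThree

universe u

variable {G : Type u} [Group G] [Finite G]

/-- A self-centralizing element of order six gives the setting. -/
theorem six_of_centralizer (h1 : ∀ x y : G, orderOf x = 2 → orderOf y = 2 → IsConj x y)
    (t : G) (ht : orderOf t = 6) (hC : centralizer ({t} : Set G) = zpowers t) :
    Six (t ^ 3) (t ^ 2) where
  hu := by rw [orderOf_pow_of_dvd (by norm_num) (by rw [ht]; norm_num), ht]
  hv := by rw [orderOf_pow_of_dvd (by norm_num) (by rw [ht]; norm_num), ht]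
  huv := by rw [← pow_add, ← pow_add]
  one := h1
  cent := by
    intro g h3 h2
    have h6 : t ^ 6 = 1 := ht ▸ pow_orderOf_eq_one t
    have hinv : (t ^ 2)⁻¹ = t ^ 4 := inv_eq_of_mul_eq_one_right (by rw [← pow_add]; exact h6)
    have hgt : g * t = t * g := by
      have h : Commute g (t ^ 3 * (t ^ 2)⁻¹) :=
        (show Commute g (t ^ 3) from h3).mul_right (show Commute g (t ^ 2) from h2).inv_right
      rwa [show t ^ 3 * (t ^ 2)⁻¹ = t by rw [pow_succ t 2]; group] at h
    have hg : g ∈ zpowers t := hC ▸ mem_centralizer_singleton_iff.2 hgt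
    classical
    rw [mem_zpowers_iff_mem_range_orderOf, ht, Finset.mem_image] at hg
    obtain ⟨k, hk, rfl⟩ := hg
    rw [Finset.mem_range] at hk
    rw [hinv, ← pow_add, ← pow_add]
    interval_cases k
    · exact Or.inl (pow_zero t)
    · refine Or.inr (Or.inr (Or.inr (Or.inr (Or.inr ?_))))
      rw [show 3 + 4 = 6 + 1 from rfl, pow_add, h6, one_mul]
    · exact Or.inr (Or.inr (Or.inl rfl))
    · exact Or.inr (Or.inl rfl)
    · exact Or.inr (Or.inr (Or.inr (Or.inl rfl)))
    · exact Or.inr (Or.inr (Or.inr (Or.inr (Or.inl rfl))))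

/-- The classification. -/
theorem main [IsSimpleGroup G] (hG : ¬ IsMulCommutative G)
    (h1 : ∀ x y : G, orderOf x = 2 → orderOf y = 2 → IsConj x y)
    (t : G) (ht : orderOf t = 6) (hC : centralizer ({t} : Set G) = zpowers t) :
    (∃ (F : Type) (_ : Field F) (_ : Fintype F), (Fintype.card F = 11 ∨ Fintype.card F = 13) ∧
        Nonempty (G ≃* Matrix.ProjectiveSpecialLinearGroup (Fin 2) F)) ∨
      (∃ (F : Type) (_ : Field F) (_ : Fintype F), Fintype.card F = 3 ∧
        Nonempty (G ≃* Matrix.ProjectiveSpecialLinearGroup (Fin 3) F)) ∨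
      Cfsg.Spor.IsoM11 G ∨ Cfsg.Spor.IsoJ1 G := by
  classical
  have h := six_of_centralizer h1 t ht hC
  set u := t ^ 3
  set v := t ^ 2
  rcases h.classify with ⟨Q, O, hc⟩ | ⟨Q, O, s, ht'⟩ | ⟨N, hN, huN, hsq, -, ⟨e⟩⟩ | ⟨Z, hZn, hZ, ⟨e⟩⟩
  · exact (core_three hG hc).elim
  · by_cases hQ : ∀ q ∈ Q, q = 1 ∨ q = u
    · exact Or.inl (four_case hG ht' hQ)
    push Not at hQ
    by_cases hsec : ∃ x ∈ Q, x * x = 1 ∧ x ≠ 1 ∧ x ≠ u ∧
        ∀ b ∈ ht'.S, x * b = b * x ∨ x * b = u * (b * x)
    · obtain ⟨x, hx, hx2, hx1, hxu, hxc⟩ := hsec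
      exact (ht'.false_of_second hx hx2 hx1 hxu hxc).elim
    rcases ht'.small_core hQ fun x hx hx2 hxc => by
        by_contra hne
        exact hsec ⟨x, hx, hx2, fun e => hne (Or.inl e), fun e => hne (Or.inr e), hxc⟩ with
      ⟨⟨eQ⟩⟩ | ⟨h32, hsq, hcom, x, hx, hx2, hx1, hxu⟩
    · have hc := ht'.core
      have hcent : ∀ g : G, Commute g u → Commute g v → g ∈ zpowers (u * v) := by
        intro g hgu hgv
        have hcuv : Commute u v := h.huv
        have huv2 : (u * v) ^ 2 = v⁻¹ := by
          rw [hcuv.mul_pow, pow_two u, h.uu, one_mul, pow_two, inv_eq_sq h.hv]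
        have hv' : v ∈ zpowers (u * v) := by
          have := inv_mem (pow_mem (mem_zpowers (u * v)) 2)
          rwa [huv2, inv_inv] at this
        have hu' : u ∈ zpowers (u * v) := by
          have := mul_mem (mem_zpowers (u * v)) (inv_mem hv')
          rwa [mul_inv_cancel_right] at this
        rcases h.cent g hgu.eq hgv.eq with e | e | e | e | e | e <;> rw [e]
        · exact one_mem _
        · exact hu'
        · exact hv'
        · exact inv_mem hv'
        · exact mem_zpowers _
        · exact mul_mem hu' (inv_mem hv')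
      rcases gl_case hG u v h.hu h.hv h.huv h1 hcent Q O eQ hc.QC hc.OC hc.uQ hc.hO hc.Qn hc.On
        (fun a ha b hb => hc.comm a ha b hb) (by
          rw [hc.card, Nat.card_congr eQ.toEquiv, Nat.card_eq_fintype_card, QuaternionGroup.card]
          ring) s ht'.su ht'.sv with hP | hM
      · exact Or.inr (Or.inl ⟨ZMod 3, inferInstance, inferInstance, ZMod.card 3, hP⟩)
      · exact Or.inr (Or.inr (Or.inl hM))
    · exact (ht'.false_of_extraspecial h32 hsq hcom hx hx2 hx1 hxu).elim
  · exact Or.inr (Or.inr (Or.inr (icosa_case hG h N huN hsq e)))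
  · exact (seven_case hG h Z hZ e).elim

end CfsgLib.Recog.OrderSix
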