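import Cfsg.Agent.Lib.Spor.Tri.SmallSymmetric
import Cfsg.Agent.Lib.Coprime.Core

/-!
# Maps of period three and extensions of two-groups by `S₃`
-/

set_option autoImplicit false
set_option linter.unusedSectionVars false
set_option linter.style.haveILetI false

namespace CfsgLib.Recog.OrderSix

open Subgroup

universe u

/-- A map of period three has a fixed point if the size is not divisible by three. -/
theorem exists_fixed_of_three {α : Type*} [Finite α] (f : α → α) (h3 : ∀ a, f (f (f a)) = a)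
    (hα : ¬ 3 ∣ Nat.card α) : ∃ a, f a = a := by
  classical
  haveI : Fact (Nat.Prime 3) := ⟨Nat.prime_three⟩
  haveI := Fintype.ofFinite α
  rw [Nat.card_eq_fintype_card] at hα
  let σ : Equiv.Perm α := ⟨f, fun a => f (f a), h3, h3⟩
  refine Equiv.Perm.exists_fixed_point_of_prime (p := 3) (n := 1) hα (σ := σ) (Equiv.ext fun a => ?_)
  rw [pow_one, pow_succ, pow_two]
  exact h3 a

/-- A map of period three preserves the number of its fixed points modulo three. -/
theorem card_mod_three {α : Type*} [Finite α] (f : α → α) (h3 : ∀ a, f (f (f a)) = a) :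
    Nat.card α % 3 = Nat.card {a // f a = a} % 3 := by
  classical
  haveI : Fact (Nat.Prime 3) := ⟨Nat.prime_three⟩
  haveI := Fintype.ofFinite α
  let f' : Function.End α := f
  have hf : f' ^ 3 ^ 1 = 1 := funext fun a => h3 a
  have h := Equiv.Perm.card_fixedPoints_modEq (p := 3) hf
  rw [← Nat.card_eq_fintype_card, ← Nat.card_eq_fintype_card] at h
  exact h

/-- A fixed-point-free automorphism of order three of a group of order sixteen forces it to be
abelian. -/
theorem comm_of_fpf_sixteen {K : Type*} [Group K] [Finite K] (θ : K ≃* K)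
    (h3 : ∀ a, θ (θ (θ a)) = a) (hfix : ∀ a, θ a = a → a = 1) (h16 : Nat.card K = 16) :
    ∀ a b : K, a * b = b * a := by
  classical
  haveI : Fact (Nat.Prime 2) := ⟨Nat.prime_two⟩
  haveI := Fintype.ofFinite K
  have hprod : ∀ a, a * θ a * θ (θ a) = 1 := by
    intro a
    have := MonoidHom.FixedPointFree.prod_pow_eq_one (φ := θ) hfix (n := 3) (funext h3) a
    simpa [List.range_succ, mul_assoc] using this
  have hprod' : ∀ a, a * θ (θ a) * θ a = 1 := by
    intro a
    have hs : ∀ c, θ.symm c = θ (θ c) := fun c => θ.symm_apply_eq.2 (h3 c).symm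
    have := MonoidHom.FixedPointFree.prod_pow_eq_one (φ := θ.symm)
      (fun c hc => hfix c (by nth_rewrite 1 [← hc]; exact θ.apply_symm_apply c)) (n := 3)
      (funext fun c => by
        simp only [Function.iterate_succ_apply', Function.iterate_zero_apply, hs, h3]; rfl) a
    simpa [List.range_succ, mul_assoc, hs, h3] using this
  have hcm : ∀ a, a * θ a = θ a * a := by
    intro a
    have key : ∀ c, θ c * θ (θ c) = θ (θ c) * θ c := fun c => by
      have e1 := hprod c
      have e2 := hprod' c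
      rw [mul_assoc] at e1 e2
      exact mul_left_cancel (e1.trans e2.symm)
    have := key (θ (θ a))
    rwa [h3] at this
  have hcm2 : ∀ a, a * θ (θ a) = θ (θ a) * a := fun a => by
    have := hcm (θ (θ a))
    rw [h3] at this
    exact this.symm
  set Z := center K with hZ
  have hθZ : ∀ z ∈ Z, θ z ∈ Z := fun z hz => mem_center_iff.2 fun g => by
    obtain ⟨g', rfl⟩ := θ.surjective g
    rw [← map_mul, ← map_mul, mem_center_iff.1 hz g']
  have hmod : Nat.card Z % 3 = 1 := by
    rw [card_mod_three (fun z : Z => (⟨θ z, hθZ z z.2⟩ : Z)) fun z => Subtype.ext (h3 z)]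
    have : Unique {z : Z // (⟨θ z, hθZ z z.2⟩ : Z) = z} :=
      ⟨⟨⟨1, Subtype.ext (map_one θ)⟩⟩, fun z => Subtype.ext (Subtype.ext (hfix _ (congrArg Subtype.val z.2)))⟩
    rw [Nat.card_unique]
  haveI : Nontrivial K := Finite.one_lt_card_iff_nontrivial.1 (by rw [h16]; norm_num)
  haveI : Nontrivial Z := (IsPGroup.of_card (p := 2) (n := 4) (by rw [h16]; norm_num)).center_nontrivial
  have h1Z : 1 < Nat.card Z := Finite.one_lt_card
  have hd : Nat.card Z ∣ 2 ^ 4 := by
    rw [show (2 : ℕ) ^ 4 = 16 by norm_num, ← h16]; exact Subgroup.card_subgroup_dvd_card Z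
  obtain ⟨j, hj, hje⟩ := (Nat.dvd_prime_pow Nat.prime_two).1 hd
  have h4Z : 4 ≤ Nat.card Z := by
    rw [hje] at h1Z hmod ⊢
    interval_cases j <;> omega
  intro a b
  by_cases ha : a ∈ Z
  · exact (mem_center_iff.1 ha b).symm
  set D := centralizer ({a} : Set K) with hD
  have hmem : ∀ g, g ∈ D ↔ g * a = a * g := fun g => mem_centralizer_singleton_iff
  let c : Fin 4 → K := ![1, a, θ a, θ (θ a)]
  have hcD : ∀ i, c i ∈ D := fun i => by
    fin_cases i <;> simp [c, hmem]
    · exact (hcm a).symm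
    · exact (hcm2 a).symm
  have hne : ∀ i k : Fin 4, (c i)⁻¹ * c k ∈ Z → i = k := by
    have hq : ∀ g, g ∉ Z → θ g ∉ Z := fun g hg h => hg (by
      have := hθZ _ (hθZ _ h)
      rwa [h3] at this)
    have hq2 : ∀ g, g ∉ Z → g⁻¹ * θ g ∉ Z := by
      intro g hg hgz
      let θ' : Z → Z := fun z => ⟨θ z, hθZ z z.2⟩
      obtain ⟨w, hw⟩ : ∃ w : Z, (θ' w)⁻¹ * w = ⟨_, hgz⟩ := by
        refine Finite.surjective_of_injective (f := fun z : Z => (θ' z)⁻¹ * z) (fun x y e => ?_) _
        have e' : (θ (x : K))⁻¹ * x = (θ (y : K))⁻¹ * y := congrArg Subtype.val e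
        refine Subtype.ext (mul_inv_eq_one.1 (hfix _ ?_))
        rw [map_mul, map_inv]
        calc θ (x : K) * (θ (y : K))⁻¹
            = θ (x : K) * ((θ (y : K))⁻¹ * y) * (y : K)⁻¹ := by group
          _ = (x : K) * (y : K)⁻¹ := by rw [← e']; group
      have hw' : (θ (w : K))⁻¹ * w = g⁻¹ * θ g := congrArg Subtype.val hw
      refine hg ?_
      have hgw : θ (g * (w : K)) = g * w := by
        rw [map_mul]
        calc θ g * θ (w : K) = g * (g⁻¹ * θ g) * θ (w : K) := by group
          _ = g * (θ (w : K))⁻¹ * (w * θ (w : K)) := by rw [← hw']; group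
          _ = g * (θ (w : K))⁻¹ * (θ (w : K) * w) := by rw [hcm]
          _ = _ := by group
      rw [eq_inv_of_mul_eq_one_left (hfix _ hgw)]
      exact inv_mem w.2
    have h01 : a⁻¹ * θ a ∉ Z := hq2 a ha
    have h12 : (θ a)⁻¹ * θ (θ a) ∉ Z := hq2 _ (hq a ha)
    have h20 : (θ (θ a))⁻¹ * a ∉ Z := by
      have := hq2 _ (hq _ (hq a ha))
      rwa [h3] at this
    have hi : ∀ g : K, g⁻¹ ∉ Z ↔ g ∉ Z := fun g => not_congr inv_mem_iff
    have s01 : (θ a)⁻¹ * a ∉ Z := by rw [← hi]; simpa using h01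
    have s12 : (θ (θ a))⁻¹ * θ a ∉ Z := by rw [← hi]; simpa using h12
    have s20 : a⁻¹ * θ (θ a) ∉ Z := by rw [← hi]; simpa using h20
    have n1 := hq a ha
    have n2 := hq _ n1
    intro i k hik
    fin_cases i <;> fin_cases k <;> simp only [c] at hik <;>
      simp [ha, n1, n2, h01, h12, h20, s01, s12, s20] at hik ⊢
  have hinj : Function.Injective fun p : Fin 4 × Z =>
      (⟨c p.1 * (p.2 : K), mul_mem (hcD p.1) ((center_le_centralizer _) p.2.2)⟩ : D) := by
    rintro ⟨i, z⟩ ⟨k, w⟩ e
    have e' : c i * (z : K) = c k * (w : K) := congrArg Subtype.val e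
    obtain rfl : i = k := hne i k (by
      rw [show (c i)⁻¹ * c k = (z : K) * (w : K)⁻¹ by
        rw [eq_mul_inv_iff_mul_eq, mul_assoc, ← e', inv_mul_cancel_left]]
      exact mul_mem z.2 (inv_mem w.2))
    simpa using mul_left_cancel e'
  have htop : D = ⊤ := by
    refine eq_top_of_le_card D ?_
    have := Nat.card_le_card_of_injective _ hinj
    rw [Nat.card_prod, Nat.card_fin] at this
    omega
  exact ((hmem b).1 (htop ▸ mem_top b)).symm

theorem two_group_perm_three : ∀ t : Equiv.Perm (Fin 3), t * t = 1 →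
    (∀ g : Equiv.Perm (Fin 3), (t * (g * t * g⁻¹)) * (t * (g * t * g⁻¹)) = 1) → t = 1 := by
  decide +kernel

/-- A surjection onto `S₃` with a two-group as kernel exhibits the two-core. -/
theorem pCore_eq_ker_of_perm_three {M : Type*} [Group M] [Finite M] (π : M →* Equiv.Perm (Fin 3))
    (hsurj : Function.Surjective π) (hker : IsPGroup 2 π.ker) :
    Nonempty (M ⧸ Cfsg.pCore 2 M ≃* Equiv.Perm (Fin 3)) := by
  haveI : Fact (Nat.Prime 2) := ⟨Nat.prime_two⟩
  have heq : Cfsg.pCore 2 M = π.ker := by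
    refine le_antisymm ?_ (le_sSup ⟨inferInstance, hker⟩)
    have hP := (CfsgLib.Coprime.pCore_isPGroup (G := M) 2).map π
    have hn : ((Cfsg.pCore 2 M).map π).Normal := by
      refine Subgroup.Normal.map ?_ π hsurj
      exact (CfsgLib.Coprime.sSup_normal_induction (G := M) (P := fun N => IsPGroup 2 N) IsPGroup.of_bot
        (fun H K _ hK h1 h2 => haveI := hK; h1.to_sup_of_normal_right h2) (fun N hN => hN)).1
    have hsq : ∀ t ∈ (Cfsg.pCore 2 M).map π, t * t = 1 := by
      intro t ht
      obtain ⟨k, hk⟩ := hP ⟨t, ht⟩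
      have h1 : orderOf t ∣ 2 ^ k := orderOf_dvd_of_pow_eq_one (congrArg Subtype.val hk)
      have h2 : orderOf t ∣ 6 := by
        have := orderOf_dvd_natCard t
        rwa [Nat.card_perm, Nat.card_fin, show Nat.factorial 3 = 6 from rfl] at this
      have h3 : orderOf t ∣ 2 :=
        ((((by norm_num : Nat.Coprime 2 3)).pow_left k).coprime_dvd_left h1).dvd_of_dvd_mul_right
          (show orderOf t ∣ 2 * 3 from h2)
      rw [← pow_two]
      exact orderOf_dvd_iff_pow_eq_one.1 h3
    intro m hm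
    rw [MonoidHom.mem_ker]
    refine two_group_perm_three _ (hsq _ (mem_map_of_mem π hm)) fun g => ?_
    exact hsq _ (mul_mem (mem_map_of_mem π hm) (hn.conj_mem _ (mem_map_of_mem π hm) g))
  exact ⟨(QuotientGroup.quotientMulEquivOfEq heq).trans (QuotientGroup.quotientKerEquivOfSurjective π hsurj)⟩

variable {G : Type u} [Group G] [Finite G]

/-- Two elements inducing involutions with product of order three on a two-group generate with it
an extension by `S₃`. -/
theorem exists_s3_over {R : Subgroup G} (hR : IsPGroup 2 R) {a b : G}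
    (ha : a ∈ normalizer (R : Set G)) (hb : b ∈ normalizer (R : Set G))
    (ha2 : a * a ∈ R) (hb2 : b * b ∈ R) (hab : a * b * (a * b) * (a * b) ∈ R) (hne : a⁻¹ * b ∉ R) :
    ∃ M : Subgroup G, R ≤ M ∧ a ∈ M ∧ b ∈ M ∧ M ≤ normalizer (R : Set G) ∧
      (∀ W : Subgroup G, R ≤ W → a ∈ W → b ∈ W → M ≤ W) ∧
      Nat.card M = 6 * Nat.card R ∧ Nonempty (↥M ⧸ Cfsg.pCore 2 ↥M ≃* Equiv.Perm (Fin 3)) := by
  classical
  set M := R ⊔ closure ({a, b} : Set G) with hM
  have hRM : R ≤ M := le_sup_left
  have haM : a ∈ M := mem_sup_right (subset_closure (by simp))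
  have hbM : b ∈ M := mem_sup_right (subset_closure (by simp))
  have hMN : M ≤ normalizer (R : Set G) := sup_le Subgroup.le_normalizer ((closure_le _).2 (by
    rintro z (rfl | rfl) <;> assumption))
  set RM := R.subgroupOf M with hRMdef
  haveI : RM.Normal := (normal_subgroupOf_iff_le_normalizer hRM).2 hMN
  set π : M →* M ⧸ RM := QuotientGroup.mk' RM with hπ
  have hπ1 : ∀ g : M, π g = 1 ↔ (g : G) ∈ R := fun g =>
    (QuotientGroup.eq_one_iff g).trans mem_subgroupOf
  set A := π ⟨a, haM⟩ with hA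
  set B := π ⟨b, hbM⟩ with hB
  have hAA : A * A = 1 := by rw [hA, ← map_mul]; exact (hπ1 _).2 ha2
  have hBB : B * B = 1 := by rw [hB, ← map_mul]; exact (hπ1 _).2 hb2
  have hABc : A * B * (A * B) * (A * B) = 1 := by
    simp only [hA, hB, ← map_mul]; exact (hπ1 _).2 hab
  have hAi : A⁻¹ = A := inv_eq_of_mul_eq_one_right hAA
  have hBi : B⁻¹ = B := inv_eq_of_mul_eq_one_right hBB
  have hne' : A ≠ B := fun e => hne <| by
    have h1 : A⁻¹ * B = 1 := by rw [e, inv_mul_cancel]
    rw [hA, hB, ← map_inv, ← map_mul] at h1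
    exact (hπ1 _).1 h1
  have hbr : B * A * B = A * B * A := by
    have h1 : A * B * A * (B * A * B) = 1 := by rw [← hABc]; group
    rw [eq_inv_of_mul_eq_one_right h1, mul_inv_rev, mul_inv_rev, hAi, hBi, mul_assoc]
  have hnc : ¬ Commute A B := fun hc => hne' <| by
    have h2 : A * B * (A * B) = 1 := by
      calc A * B * (A * B) = A * (B * A) * B := by group
        _ = A * A * (B * B) := by rw [← hc.eq]; group
        _ = 1 := by rw [hAA, hBB, mul_one]
    rw [h2, one_mul] at hABc
    rw [eq_inv_of_mul_eq_one_left hABc, hBi]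
  obtain ⟨e⟩ := CfsgLib.Spor.Tri.nonempty_equiv_perm_three hAA hBB hbr hne' hnc
  have htop : closure ({A, B} : Set (M ⧸ RM)) = ⊤ := by
    refine eq_top_iff.2 fun q _ => ?_
    obtain ⟨⟨g, hg⟩, rfl⟩ := QuotientGroup.mk'_surjective RM q
    have hle : M ≤ ((closure ({A, B} : Set (M ⧸ RM))).comap π).map M.subtype := by
      refine sup_le (fun r hr => ⟨⟨r, hRM hr⟩, ?_, rfl⟩) ((closure_le _).2 ?_)
      · rw [SetLike.mem_coe, mem_comap, (hπ1 _).2 hr]; exact one_mem _
      · rintro z (rfl | rfl)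
        · exact ⟨⟨z, haM⟩, mem_comap.2 (subset_closure (by simp [hA])), rfl⟩
        · exact ⟨⟨z, hbM⟩, mem_comap.2 (subset_closure (by simp [hB])), rfl⟩
    obtain ⟨g', hg', e'⟩ := hle hg
    rw [show (⟨g, hg⟩ : M) = g' from Subtype.ext e'.symm]
    exact hg'
  let e6 : (M ⧸ RM) ≃* Equiv.Perm (Fin 3) :=
    (topEquiv.symm.trans (MulEquiv.subgroupCongr htop.symm)).trans e
  refine ⟨M, hRM, haM, hbM, hMN, fun W h1 h2 h3 => sup_le h1 ((closure_le _).2 (by
    rintro z (rfl | rfl) <;> assumption)), ?_, pCore_eq_ker_of_perm_three (e6.toMonoidHom.comp π)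
    (e6.surjective.comp (QuotientGroup.mk'_surjective RM)) ?_⟩
  · rw [RM.card_eq_card_quotient_mul_card_subgroup, Nat.card_congr e6.toEquiv,
      Nat.card_congr (subgroupOfEquivOfLe hRM).toEquiv, Nat.card_perm, Nat.card_fin]
    rfl
  · have : (e6.toMonoidHom.comp π).ker = RM := by
      ext g
      rw [MonoidHom.mem_ker, MonoidHom.comp_apply, MulEquiv.coe_toMonoidHom,
        MulEquiv.map_eq_one_iff, hπ, QuotientGroup.mk'_apply, QuotientGroup.eq_one_iff]
    rw [this]
    exact hR.comap_of_injective M.subtype M.subtype_injective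

end CfsgLib.Recog.OrderSix
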