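import Cfsg.Agent.Lib.Recog.OrderSix.Basic
import Cfsg.Agent.Lib.Char.SelfCentThree.Main
import Cfsg.Agent.Lib.Coprime.SchurZassenhaus
import Cfsg.Agent.Lib.Coprime.Core
import Cfsg.Agent.Lib.Coprime.MinimalNonNilpotent

/-!
# The centralizer of the involution
-/

set_option autoImplicit false
set_option linter.unusedSectionVars false
set_option linter.style.haveILetI false

namespace CfsgLib.Recog.OrderSix

open Subgroup CfsgLib.Char.SelfCentThree

universe u

variable {G : Type u} [Group G]

/-- The centralizer of `u` has a nilpotent normal subgroup `Q × O` of index `m`. -/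
structure Core (u v : G) (Q O : Subgroup G) (m : ℕ) : Prop where
  six : Six u v
  uQ : u ∈ Q
  hQ : IsPGroup 2 Q
  hO : Odd (Nat.card O)
  QC : Q ≤ centralizer ({u} : Set G)
  OC : O ≤ centralizer ({u} : Set G)
  Qn : centralizer ({u} : Set G) ≤ normalizer (Q : Set G)
  On : centralizer ({u} : Set G) ≤ normalizer (O : Set G)
  comm : ∀ o ∈ O, ∀ q ∈ Q, o * q = q * o
  not_three : ¬ 3 ∣ Nat.card Q * Nat.card O
  card : Nat.card (centralizer ({u} : Set G)) = m * (Nat.card Q * Nat.card O)

/-- The case with top `S₃`. -/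
structure Top (u v : G) (Q O : Subgroup G) (s : G) : Prop where
  core : Core u v Q O 6
  su : s * u = u * s
  sv : s * v * s⁻¹ = v⁻¹
  ss : s * s = 1 ∨ s * s = u

variable [Finite G] {u v : G}

/-- The four possibilities for the centralizer of the involution. -/
theorem Six.classify (h : Six u v) :
    (∃ Q O, Core u v Q O 3) ∨ (∃ Q O s, Top u v Q O s) ∨
    (∃ (N : Subgroup ↥(centralizer ({u} : Set G))) (_ : N.Normal),
      (∀ g : ↥(centralizer ({u} : Set G)), (g : G) = u → g ∈ N) ∧
      (∀ n ∈ N, (n : G) * n = 1 ∨ (n : G) * n = u) ∧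
      (∀ a ∈ N, ∀ b ∈ N, (a : G) * b = b * a ∨ (a : G) * b = u * (b * a)) ∧
      Nonempty (↥(centralizer ({u} : Set G)) ⧸ N ≃* alternatingGroup (Fin 5))) ∨
    (∃ (Z : Subgroup ↥(centralizer ({u} : Set G))) (_ : Z.Normal),
      (∀ g : ↥(centralizer ({u} : Set G)), g ∈ Z ↔ ((g : G) = 1 ∨ (g : G) = u)) ∧
      Nonempty (↥(centralizer ({u} : Set G)) ⧸ Z ≃*
        Matrix.ProjectiveSpecialLinearGroup (Fin 2) (ZMod 7))) := by
  classical
  haveI : Fact (Nat.Prime 3) := ⟨Nat.prime_three⟩
  haveI : Fact (Nat.Prime 2) := ⟨Nat.prime_two⟩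
  set C := centralizer ({u} : Set G) with hC
  have hCu : ∀ g : C, (g : G) * u = u * g := fun g => mem_centralizer_singleton_iff.1 g.2
  set uC : C := ⟨u, mem_centralizer_singleton_iff.2 rfl⟩ with huC
  set vC : C := ⟨v, mem_centralizer_singleton_iff.2 h.huv.symm⟩ with hvC
  set Z : Subgroup C := zpowers uC with hZ
  have hZcen : Z ≤ center C := zpowers_le.2 (mem_center_iff.2 fun g => Subtype.ext (hCu g))
  haveI hZn : Z.Normal := ⟨fun n hn g => by
    rw [mem_center_iff.1 (hZcen hn) g, mul_inv_cancel_right]; exact hn⟩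
  have huo : orderOf uC = 2 := by rw [← Subgroup.orderOf_coe]; exact h.hu
  have hZmem : ∀ g : C, g ∈ Z ↔ ((g : G) = 1 ∨ (g : G) = u) := by
    intro g
    constructor
    · intro hg
      obtain ⟨k, rfl⟩ := mem_zpowers_iff.1 hg
      rcases Int.emod_two_eq_zero_or_one k with e | e
      · left
        rw [← zpow_mod_orderOf, huo, show ((2 : ℕ) : ℤ) = 2 from rfl, e, zpow_zero]; rfl
      · right
        rw [← zpow_mod_orderOf, huo, show ((2 : ℕ) : ℤ) = 2 from rfl, e, zpow_one]
    · rintro (e | e)
      · rw [show g = 1 from Subtype.ext e]; exact one_mem _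
      · rw [show g = uC from Subtype.ext e]; exact mem_zpowers _
  let π : C →* C ⧸ Z := QuotientGroup.mk' Z
  have hvo : orderOf (π vC) = 3 := by
    refine orderOf_three ?_ fun e => ?_
    · rw [← map_mul, ← map_mul, show vC * vC * vC = 1 from Subtype.ext h.vvv, map_one]
    · rcases (hZmem vC).1 ((QuotientGroup.eq_one_iff vC).1 e) with e' | e'
      · exact h.v_ne e'
      · exact h.ne_v e'.symm
  -- the image of `v` is self-centralizing
  have hX : centralizer (zpowers (π vC) : Set (C ⧸ Z)) = zpowers (π vC) := by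
    refine le_antisymm (fun q hq => ?_) fun q hq => ?_
    · obtain ⟨g, rfl⟩ := QuotientGroup.mk'_surjective Z q
      have e := mem_centralizer_iff.1 hq _ (mem_zpowers (π vC))
      rw [← map_mul, ← map_mul, QuotientGroup.mk'_apply, QuotientGroup.mk'_apply, QuotientGroup.eq,
        hZmem] at e
      simp only [coe_mul, coe_inv] at e
      have hgu := hCu g
      have hgv : (g : G) * v = v * g := by
        rcases e with e | e
        · exact (inv_mul_eq_one.1 e).symm
        · exfalso
          have e' : (v * (g : G))⁻¹ * ((g : G) * v) = u := e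
          have e1 : (g : G) * v * (g : G)⁻¹ = v * u := by
            rw [show (g : G) * v = v * g * u by rw [← e']; group, mul_assoc (v : G) g u, hgu]; group
          have h2 := congrArg orderOf e1
          rw [orderOf_conj_eq, h.hv] at h2
          have hcop : (orderOf v).Coprime (orderOf u) := by rw [h.hu, h.hv]; norm_num
          rw [(show Commute v u from h.huv.symm).orderOf_mul_eq_mul_orderOf_of_coprime hcop, h.hu, h.hv] at h2
          omega
      rcases h.cent g hgu hgv with e1 | e1 | e1 | e1 | e1 | e1
      · rw [show g = 1 from Subtype.ext e1, map_one]; exact one_mem _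
      · rw [show g = uC from Subtype.ext e1, show π uC = 1 from
          (QuotientGroup.eq_one_iff _).2 (mem_zpowers _)]; exact one_mem _
      · rw [show g = vC from Subtype.ext e1]; exact mem_zpowers _
      · rw [show g = vC⁻¹ from Subtype.ext e1, map_inv]; exact inv_mem (mem_zpowers _)
      · rw [show g = uC * vC from Subtype.ext e1, map_mul, show π uC = 1 from
          (QuotientGroup.eq_one_iff _).2 (mem_zpowers _), one_mul]; exact mem_zpowers _
      · rw [show g = uC * vC⁻¹ from Subtype.ext e1, map_mul, show π uC = 1 from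
          (QuotientGroup.eq_one_iff _).2 (mem_zpowers _), one_mul, map_inv]
        exact inv_mem (mem_zpowers _)
    · rw [mem_centralizer_iff]
      intro p hp
      obtain ⟨i, rfl⟩ := mem_zpowers_iff.1 hp
      obtain ⟨j, rfl⟩ := mem_zpowers_iff.1 hq
      exact ((Commute.refl (π vC)).zpow_zpow i j).eq
  rcases CfsgLib.Char.SelfCentThree.classify _ (by rw [Nat.card_zpowers, hvo]) hX with
    ⟨N, hN, hnil, hcop, hq⟩ | ⟨N, hN, hNc, hN2, ⟨e⟩⟩ | he
  · haveI := hN
    set N1 : Subgroup C := N.comap π with hN1
    have hZN : Z ≤ N1 := fun g hg => by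
      rw [hN1, mem_comap, show π g = 1 from (QuotientGroup.eq_one_iff g).2 hg]; exact one_mem _
    haveI : Group.IsNilpotent N1 := by
      haveI := hnil
      refine Subgroup.isNilpotent_of_ker_le_center
        ((π.comp N1.subtype).codRestrict N fun g => g.2) (fun g hg => ?_)
      rw [MonoidHom.mem_ker] at hg
      have hgZ : (g : C) ∈ Z := (QuotientGroup.eq_one_iff (g : C)).1 (congrArg Subtype.val hg)
      exact mem_center_iff.2 fun k => Subtype.ext (mem_center_iff.1 (hZcen hgZ) k)
    have hcardN1 : Nat.card N1 = 2 * Nat.card N := by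
      have hidx : N1.index = N.index := index_comap_of_surjective N (QuotientGroup.mk'_surjective Z)
      have h1 := N1.card_mul_index
      have h2 := N.card_mul_index
      have h3 := Z.card_mul_index
      rw [← Subgroup.index_eq_card] at h2
      rw [Nat.card_zpowers, huo, ← h2] at h3
      rw [hidx, ← h3, ← mul_assoc] at h1
      exact Nat.eq_of_mul_eq_mul_right (Nat.pos_of_ne_zero N.index_ne_zero_of_finite) h1
    have hN13 : ¬ 3 ∣ Nat.card N1 := by
      rw [hcardN1]
      intro h3
      exact (Nat.Prime.coprime_iff_not_dvd Nat.prime_three).1 hcop.symm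
        ((Nat.Coprime.dvd_mul_left (by norm_num)).1 h3)
    obtain ⟨P⟩ : Nonempty (Sylow 2 N1) := inferInstance
    haveI hPn : (P : Subgroup N1).Normal :=
      ((Group.isNilpotent_of_finite_tfae (G := N1)).out 0 3 rfl rfl |>.1 inferInstance) 2 inferInstance P
    obtain ⟨K, hK⟩ := Subgroup.exists_right_complement'_of_coprime P.card_coprime_index
    have hKcard : Nat.card K = (P : Subgroup N1).index := hK.symm.index_eq_card.symm
    have hKodd : Odd (Nat.card K) := by
      rw [hKcard, Nat.odd_iff]
      have := P.not_dvd_index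
      omega
    have hcommPK : ∀ o ∈ K, ∀ q ∈ (P : Subgroup N1), o * q = q * o := fun o ho q hq => by
      refine (CfsgLib.Coprime.commute_of_coprime_pow (p := 2) ?_ P.2 hq).eq
      exact (Nat.coprime_two_right.2 (hKodd.of_dvd_nat (Subgroup.orderOf_dvd_natCard K ho)))
    have hKodd' : ∀ g : N1, Odd (orderOf g) → g ∈ K := by
      intro g hg
      obtain ⟨⟨q, k⟩, rfl⟩ := hK.2 g
      have hc : Commute (q : N1) k := (hcommPK k k.2 q q.2).symm
      have hq1 : (q : N1) = 1 := by
        have h1 : (q : N1) ^ (orderOf ((q : N1) * k) * Nat.card K) = 1 := by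
          have h2 : ((q : N1) * k) ^ (orderOf ((q : N1) * k) * Nat.card K) = 1 := by
            rw [pow_mul, pow_orderOf_eq_one, one_pow]
          have hk1 : (k : N1) ^ Nat.card K = 1 := by
            rw [← SubgroupClass.coe_pow, pow_card_eq_one', OneMemClass.coe_one]
          rwa [hc.mul_pow, mul_comm (orderOf ((q : N1) * k)) (Nat.card K),
            pow_mul (k : N1), hk1, one_pow, mul_one, mul_comm] at h2
        obtain ⟨j, hj⟩ := P.2 q
        have h3 : orderOf (q : N1) ∣ 2 ^ j := orderOf_dvd_of_pow_eq_one (congrArg Subtype.val hj)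
        refine orderOf_eq_one_iff.1 (Nat.eq_one_of_dvd_coprimes
          ((Nat.coprime_two_left.2 (hg.mul hKodd)).pow_left j) h3 (orderOf_dvd_of_pow_eq_one h1))
      show (q : N1) * (k : N1) ∈ K
      rw [hq1, one_mul]
      exact k.2
    set Q : Subgroup G := ((P : Subgroup N1).map N1.subtype).map C.subtype with hQdef
    set O : Subgroup G := (K.map N1.subtype).map C.subtype with hOdef
    haveI : (P : Subgroup N1).Characteristic := Sylow.characteristic_of_normal P inferInstance
    haveI : ((P : Subgroup N1).map N1.subtype).Normal :=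
      ConjAct.normal_of_characteristic_of_normal
    haveI : (K.map N1.subtype).Normal := by
      refine ⟨?_⟩
      rintro _ ⟨k, hk, rfl⟩ g
      refine ⟨⟨g * (k : C) * g⁻¹, (inferInstance : N1.Normal).conj_mem _ k.2 g⟩, hKodd' _ ?_, rfl⟩
      rw [← Subgroup.orderOf_coe]
      show Odd (orderOf (g * ((k : N1) : C) * g⁻¹))
      rw [orderOf_conj_eq, Subgroup.orderOf_coe]
      exact hKodd.of_dvd_nat (Subgroup.orderOf_dvd_natCard K hk)
    have hnorm : ∀ M : Subgroup C, M.Normal → C ≤ normalizer ((M.map C.subtype : Subgroup G) : Set G) := by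
      intro M hM g hg
      have hstep : ∀ g : C, ∀ y ∈ M.map C.subtype, (g : G) * y * (g : G)⁻¹ ∈ M.map C.subtype := by
        rintro g _ ⟨m, hm, rfl⟩
        exact ⟨g * m * g⁻¹, hM.conj_mem m hm g, rfl⟩
      refine mem_normalizer_iff.2 fun y => ⟨hstep ⟨g, hg⟩ y, fun hy => ?_⟩
      simpa [mul_assoc] using hstep ⟨g, hg⟩⁻¹ _ hy
    have hcQ : Nat.card Q = Nat.card (P : Subgroup N1) := by
      rw [hQdef, card_map_of_injective C.subtype_injective, card_map_of_injective N1.subtype_injective]
    have hcO : Nat.card O = Nat.card K := by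
      rw [hOdef, card_map_of_injective C.subtype_injective, card_map_of_injective N1.subtype_injective]
    have hcQO : Nat.card Q * Nat.card O = Nat.card N1 := by
      rw [hcQ, hcO, hKcard, card_mul_index]
    have huP : (⟨uC, hZN (mem_zpowers _)⟩ : N1) ∈ (P : Subgroup N1) := by
      obtain ⟨P', hP'⟩ := (IsPGroup.of_card (p := 2) (n := 1)
        (show Nat.card (zpowers (⟨uC, hZN (mem_zpowers _)⟩ : N1)) = 2 ^ 1 by
          rw [Nat.card_zpowers, ← Subgroup.orderOf_coe, huo, pow_one])).exists_le_sylow
      haveI : Subsingleton (Sylow 2 N1) := by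
        haveI := Sylow.unique_of_normal P inferInstance
        infer_instance
      exact Subsingleton.elim P' P ▸ hP' (mem_zpowers _)
    have hcore : ∀ m : ℕ, Nat.card C = m * Nat.card N1 → Core u v Q O m := fun m hm =>
      { six := h
        uQ := ⟨uC, ⟨⟨uC, hZN (mem_zpowers _)⟩, huP, rfl⟩, rfl⟩
        hQ := (P.2.map _).map _
        hO := hcO ▸ hKodd
        QC := map_subtype_le _
        OC := map_subtype_le _
        Qn := hnorm _ inferInstance
        On := hnorm _ inferInstance
        comm := by
          rintro _ ⟨_, ⟨o, ho, rfl⟩, rfl⟩ _ ⟨_, ⟨q, hq, rfl⟩, rfl⟩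
          exact congrArg (fun z : N1 => ((z : C) : G)) (hcommPK o ho q hq)
        not_three := hcQO ▸ hN13
        card := by rw [hm, hcQO] }
    have hindex : Nat.card C = Nat.card ((C ⧸ Z) ⧸ N) * Nat.card N1 := by
      rw [← Subgroup.index_eq_card N, ← index_comap_of_surjective N (QuotientGroup.mk'_surjective Z),
        mul_comm, ← hN1, card_mul_index]
    rcases hq with h3 | he6
    · exact Or.inl ⟨Q, O, hcore 3 (by rw [hindex, h3])⟩
    · have h6 : Nat.card C = 6 * Nat.card N1 := by
        rw [hindex, Nat.card_congr he6.some.toEquiv, Nat.card_eq_fintype_card, Fintype.card_perm,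
          Fintype.card_fin]
        norm_num [Nat.factorial]
      refine Or.inr (Or.inl ?_)
      set M : Subgroup C := N1 ⊔ zpowers vC with hM
      have hvN : vC ∉ N1 := fun hv => hN13 (by
        have := Subgroup.orderOf_dvd_natCard N1 hv
        rwa [← Subgroup.orderOf_coe, show (vC : G) = v from rfl, h.hv] at this)
      have hinter : N1 ⊓ zpowers vC = ⊥ := by
        refine eq_bot_iff.2 fun g hg => ?_
        rw [mem_bot, ← orderOf_eq_one_iff]
        have h1 := Subgroup.orderOf_dvd_natCard _ hg.1
        have h2 := Subgroup.orderOf_dvd_natCard _ hg.2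
        rw [Nat.card_zpowers, show orderOf vC = 3 by rw [← Subgroup.orderOf_coe]; exact h.hv] at h2
        exact Nat.eq_one_of_dvd_coprimes ((Nat.prime_three.coprime_iff_not_dvd.2 hN13)) h2 h1
      have hMcard : Nat.card M = 3 * Nat.card N1 := by
        have h1 : N1.relIndex M = N1.relIndex (zpowers vC) := by
          rw [hM, sup_comm, relIndex_sup_right]
        have h2 : N1.relIndex (zpowers vC) = 3 := by
          have h4 : N1.subgroupOf (zpowers vC) = ⊥ := by
            rw [subgroupOf_eq_bot, disjoint_iff]; exact hinter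
          rw [relIndex, h4, index_bot, Nat.card_zpowers, ← Subgroup.orderOf_coe]
          exact h.hv
        have h3 := (N1.subgroupOf M).card_mul_index
        rw [Nat.card_congr (subgroupOfEquivOfLe (le_sup_left : N1 ≤ M)).toEquiv] at h3
        rw [← h3, ← relIndex, h1, h2, mul_comm]
      haveI hMn : M.Normal := by
        refine normal_of_index_eq_two ?_
        have := M.card_mul_index
        rw [hMcard, h6] at this
        have hpos : 0 < Nat.card N1 := Nat.card_pos
        nlinarith
      set vM : M := ⟨vC, mem_sup_right (mem_zpowers _)⟩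
      obtain ⟨R, hR⟩ := (IsPGroup.of_card (p := 3) (n := 1)
        (show Nat.card (zpowers vM) = 3 ^ 1 by
          rw [Nat.card_zpowers, ← Subgroup.orderOf_coe, ← Subgroup.orderOf_coe, pow_one]; exact h.hv)).exists_le_sylow
      have hRv : (R : Subgroup M) = zpowers vM := by
        refine (eq_of_le_of_card_ge hR ?_).symm
        obtain ⟨j, hj⟩ := R.2.exists_card_eq
        rw [Nat.card_zpowers, ← Subgroup.orderOf_coe, ← Subgroup.orderOf_coe, show ((vM : C) : G) = v from rfl, h.hv, hj]
        have hdvd : 3 ^ j ∣ 3 * Nat.card N1 := hj ▸ hMcard ▸ Subgroup.card_subgroup_dvd_card _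
        by_contra hgt
        have h2j : 2 ≤ j := by
          by_contra hc
          have : 3 ^ j ≤ 3 ^ 1 := Nat.pow_le_pow_right (by norm_num) (by omega)
          omega
        exact hN13 (Nat.dvd_of_mul_dvd_mul_left (by norm_num : 0 < 3)
          ((show 3 * 3 ∣ 3 ^ j from pow_dvd_pow 3 h2j).trans hdvd))
      have hfr := Sylow.normalizer_sup_eq_top R
      obtain ⟨g, hg, hgM⟩ : ∃ g ∈ normalizer ((R : Subgroup M).map M.subtype : Set C), g ∉ M := by
        by_contra hc
        push Not at hc
        have : (⊤ : Subgroup C) ≤ M := hfr ▸ sup_le hc le_rfl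
        have hc2 := Subgroup.card_le_of_le this
        rw [card_top, hMcard, h6] at hc2
        have := Nat.card_pos (α := N1)
        omega
      have hRC : ((R : Subgroup M).map M.subtype) = zpowers vC := by
        rw [hRv, MonoidHom.map_zpowers]; rfl
      have hm : g * vC * g⁻¹ ∈ zpowers vC := by
        rw [← hRC]; exact (mem_normalizer_iff.1 hg _).1 (hRC ▸ mem_zpowers vC)
      obtain ⟨k, hk⟩ := mem_zpowers_iff.1 hm
      have hk' : (g : G) * v * (g : G)⁻¹ = v ^ k := by
        have := congrArg Subtype.val hk.symm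
        simpa [hvC] using this
      have hgu := hCu g
      have hnc : (g : G) * v ≠ v * g := by
        intro e1
        apply hgM
        rcases h.cent g hgu e1 with e2 | e2 | e2 | e2 | e2 | e2
        · rw [show g = 1 from Subtype.ext e2]; exact one_mem _
        · rw [show g = uC from Subtype.ext e2]; exact mem_sup_left (hZN (mem_zpowers _))
        · rw [show g = vC from Subtype.ext e2]; exact mem_sup_right (mem_zpowers _)
        · rw [show g = vC⁻¹ from Subtype.ext e2]; exact mem_sup_right (inv_mem (mem_zpowers _))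
        · rw [show g = uC * vC from Subtype.ext e2]
          exact mul_mem (mem_sup_left (hZN (mem_zpowers _))) (mem_sup_right (mem_zpowers _))
        · rw [show g = uC * vC⁻¹ from Subtype.ext e2]
          exact mul_mem (mem_sup_left (hZN (mem_zpowers _))) (mem_sup_right (inv_mem (mem_zpowers _)))
      have h3z : v ^ (3 : ℤ) = 1 := by
        rw [show (3 : ℤ) = ((3 : ℕ) : ℤ) from rfl, zpow_natCast, pow_succ, pow_two, h.vvv]
      rw [zpow_eq_zpow_emod k h3z] at hk'
      have hsv : (g : G) * v * (g : G)⁻¹ = v⁻¹ := by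
        rcases (show k % 3 = 0 ∨ k % 3 = 1 ∨ k % 3 = 2 by omega) with e1 | e1 | e1 <;> rw [e1] at hk'
        · rw [zpow_zero] at hk'; exact absurd (conj_eq_one_iff.1 hk') h.v_ne
        · rw [zpow_one, mul_inv_eq_iff_eq_mul] at hk'; exact absurd hk' hnc
        · rw [hk', inv_eq_sq h.hv, show (2 : ℤ) = ((2 : ℕ) : ℤ) from rfl, zpow_natCast, pow_two]
      refine ⟨Q, O, g, hcore 6 h6, hgu, hsv, ?_⟩
      have hggv : (g : G) * g * v = v * ((g : G) * g) := by
        calc (g : G) * g * v = g * ((g : G) * v * (g : G)⁻¹) * g := by group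
          _ = g * v⁻¹ * (g : G)⁻¹ * (g * g) := by rw [hsv]; group
          _ = ((g : G) * v * (g : G)⁻¹)⁻¹ * (g * g) := by group
          _ = _ := by rw [hsv, inv_inv]
      have hggu : (g : G) * g * u = u * ((g : G) * g) := by rw [mul_assoc, hgu, ← mul_assoc, hgu, mul_assoc]
      have hbad : ∀ e : G, (e * v = v * e) → (g : G) * g = e → (∀ w : G, w * e = e * w → w * u = u * w → w * v = v * w) → False :=
        fun e _ hee hw => hnc (hw g (by rw [← hee, mul_assoc]) hgu)
      rcases h.cent _ hggu hggv with e1 | e1 | e1 | e1 | e1 | e1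
      · exact Or.inl e1
      · exact Or.inr e1
      · exact (hbad v rfl e1 fun w hw _ => hw).elim
      · refine (hbad v⁻¹ (by group) e1 fun w hw _ => ?_).elim
        have := (show Commute w v⁻¹ from hw).inv_right.eq
        rwa [inv_inv] at this
      · refine (hbad (u * v) (by rw [← mul_assoc v u v, ← h.huv]) e1 fun w hw hwu => ?_).elim
        have h1 := ((show Commute w u from hwu).inv_right.mul_right (show Commute w (u * v) from hw)).eq
        rwa [inv_mul_cancel_left] at h1
      · refine (hbad (u * v⁻¹) (by rw [mul_assoc, inv_mul_cancel, mul_one, ← mul_assoc, ← h.huv, mul_inv_cancel_right]) e1 fun w hw hwu => ?_).elim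
        have h1 := ((show Commute w u from hwu).inv_right.mul_right (show Commute w (u * v⁻¹) from hw)).inv_right.eq
        rwa [inv_mul_cancel_left, inv_inv] at h1
  · haveI := hN
    refine Or.inr (Or.inr (Or.inl ⟨N.comap π, inferInstance, fun g hg => ?_, fun n hn => ?_, ?_, ?_⟩))
    · rw [mem_comap, show π g = 1 from (QuotientGroup.eq_one_iff g).2 ((hZmem g).2 (Or.inr hg))]
      exact one_mem _
    · have := hN2 _ hn
      rw [pow_two, ← map_mul, QuotientGroup.mk'_apply, QuotientGroup.eq_one_iff, hZmem] at this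
      exact this
    · intro a ha b hb
      have := congrArg Subtype.val (hNc.is_comm.comm ⟨π a, ha⟩ ⟨π b, hb⟩)
      simp only [coe_mul] at this
      rw [← map_mul, ← map_mul, eq_comm, QuotientGroup.mk'_apply, QuotientGroup.mk'_apply,
        QuotientGroup.eq, hZmem] at this
      simp only [coe_mul, coe_inv] at this
      rcases this with e1 | e1
      · exact Or.inl (inv_mul_eq_one.1 e1).symm
      · refine Or.inr ((inv_mul_eq_iff_eq_mul.1 e1).trans ?_)
        have := hCu (b * a)
        rw [coe_mul] at this
        exact this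
    · refine ⟨(QuotientGroup.quotientMulEquivOfEq ?_).trans
        ((QuotientGroup.quotientKerEquivOfSurjective ((QuotientGroup.mk' N).comp π) ?_).trans e)⟩
      · rw [← MonoidHom.comap_ker, QuotientGroup.ker_mk']
      · exact (QuotientGroup.mk'_surjective N).comp (QuotientGroup.mk'_surjective Z)
  · exact Or.inr (Or.inr (Or.inr ⟨Z, inferInstance, hZmem, he⟩))

end CfsgLib.Recog.OrderSix
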