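import Cfsg.Agent.Lib.Recog.OrderSix.Setting

/-!
# Elements outside the two-core in the case with top `S₃`
-/

set_option autoImplicit false
set_option linter.unusedSectionVars false
set_option linter.style.haveILetI false

namespace CfsgLib.Recog.OrderSix

open Subgroup CfsgLib.Char.SelfCentThree

universe u

variable {G : Type u} [Group G] {u v s : G} {Q O : Subgroup G} {m : ℕ}

theorem Core.v_mem (h : Core u v Q O m) : v ∈ centralizer ({u} : Set G) :=
  mem_centralizer_singleton_iff.2 h.six.huv.symm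

theorem Core.qu (h : Core u v Q O m) {q : G} (hq : q ∈ Q) : q * u = u * q :=
  mem_centralizer_singleton_iff.1 (h.QC hq)

theorem Core.ou (h : Core u v Q O m) {o : G} (ho : o ∈ O) : o * u = u * o :=
  mem_centralizer_singleton_iff.1 (h.OC ho)

theorem Core.conjQ (h : Core u v Q O m) {g q : G} (hg : g * u = u * g) (hq : q ∈ Q) :
    g * q * g⁻¹ ∈ Q :=
  (mem_normalizer_iff.1 (h.Qn (mem_centralizer_singleton_iff.2 hg)) q).1 hq

theorem Core.conjQ' (h : Core u v Q O m) {g q : G} (hg : g * u = u * g) (hq : q ∈ Q) :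
    g⁻¹ * q * g ∈ Q :=
  (mem_normalizer_iff''.1 (h.Qn (mem_centralizer_singleton_iff.2 hg)) q).1 hq

theorem Core.conjO (h : Core u v Q O m) {g o : G} (hg : g * u = u * g) (ho : o ∈ O) :
    g * o * g⁻¹ ∈ O :=
  (mem_normalizer_iff.1 (h.On (mem_centralizer_singleton_iff.2 hg)) o).1 ho

theorem Core.vQ (h : Core u v Q O m) {q : G} (hq : q ∈ Q) : v * q * v⁻¹ ∈ Q :=
  h.conjQ h.six.huv.symm hq

theorem Core.fixQ (h : Core u v Q O m) {q : G} (hq : q ∈ Q) (hqv : q * v = v * q) : q = 1 ∨ q = u :=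
  h.six.fix (h.qu hq) hqv (not_three_dvd_of_two_group h.hQ hq)

theorem Core.fixO [Finite G] (h : Core u v Q O m) {o : G} (ho : o ∈ O) (hov : o * v = v * o) :
    o = 1 := by
  have hd := Subgroup.orderOf_dvd_natCard O ho
  refine (h.six.fix (h.ou ho) hov fun h3 => h.not_three ((h3.trans hd).mul_left _)).resolve_right
    fun e => ?_
  rw [e, h.six.hu] at hd
  exact h.hO.not_two_dvd_nat hd

theorem Core.inter [Finite G] (h : Core u v Q O m) {g : G} (hq : g ∈ Q) (ho : g ∈ O) : g = 1 := by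
  obtain ⟨k, hk⟩ := h.hQ ⟨g, hq⟩
  exact orderOf_eq_one_iff.1 (Nat.eq_one_of_dvd_coprimes
    ((Nat.coprime_two_left.2 h.hO).pow_left k)
    (orderOf_dvd_of_pow_eq_one (congrArg Subtype.val hk)) (Subgroup.orderOf_dvd_natCard O ho))

/-- The product `Q × O`. -/
def Core.QO (h : Core u v Q O m) : Subgroup G where
  carrier := {g | ∃ q ∈ Q, ∃ o ∈ O, g = q * o}
  one_mem' := ⟨1, one_mem _, 1, one_mem _, (one_mul 1).symm⟩
  mul_mem' := by
    rintro a b ⟨q, hq, o, ho, rfl⟩ ⟨q', hq', o', ho', rfl⟩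
    refine ⟨q * q', mul_mem hq hq', o * o', mul_mem ho ho', ?_⟩
    rw [mul_assoc q o, ← mul_assoc o q', h.comm o ho q' hq']
    group
  inv_mem' := by
    rintro a ⟨q, hq, o, ho, rfl⟩
    refine ⟨q⁻¹, inv_mem hq, o⁻¹, inv_mem ho, ?_⟩
    rw [mul_inv_rev, h.comm o⁻¹ (inv_mem ho) q⁻¹ (inv_mem hq)]

theorem Core.card_QO [Finite G] (h : Core u v Q O m) :
    Nat.card h.QO = Nat.card Q * Nat.card O := by
  rw [← Nat.card_prod]
  refine (Nat.card_eq_of_bijective (fun p : Q × O => (⟨(p.1 : G) * p.2, p.1, p.1.2, p.2, p.2.2, rfl⟩ : h.QO))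
    ⟨fun a b hab => ?_, ?_⟩).symm
  · have e : (a.1 : G) * a.2 = b.1 * b.2 := congrArg Subtype.val hab
    have e1 : (b.1 : G)⁻¹ * a.1 = b.2 * (a.2 : G)⁻¹ := by
      rw [inv_mul_eq_iff_eq_mul, ← mul_assoc, ← e, mul_inv_cancel_right]
    have hone := h.inter (mul_mem (inv_mem b.1.2) a.1.2) (e1 ▸ mul_mem b.2.2 (inv_mem a.2.2))
    have h1 : (a.1 : G) = b.1 := (inv_mul_eq_one.1 hone).symm
    exact Prod.ext (Subtype.ext h1) (Subtype.ext (mul_left_cancel (h1 ▸ e)))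
  · rintro ⟨_, q, hq, o, ho, rfl⟩
    exact ⟨(⟨q, hq⟩, ⟨o, ho⟩), rfl⟩

theorem Core.QO_normal (h : Core u v Q O m) {g x : G} (hg : g * u = u * g) (hx : x ∈ h.QO) :
    g * x * g⁻¹ ∈ h.QO := by
  obtain ⟨q, hq, o, ho, rfl⟩ := hx
  exact ⟨_, h.conjQ hg hq, _, h.conjO hg ho, by group⟩

theorem Core.v_not_QO [Finite G] (h : Core u v Q O m) : v ∉ h.QO := fun hv => h.not_three (by
  rw [← h.card_QO, ← h.six.hv]; exact Subgroup.orderOf_dvd_natCard _ hv)

/-- Elements of order three of the centralizer are conjugate to powers of `v`. -/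
theorem Core.exists_conj_three [Finite G] (h : Core u v Q O m) (hm : ¬ 9 ∣ m) {y : G}
    (hy : orderOf y = 3) (hyu : y * u = u * y) :
    ∃ c : G, c * u = u * c ∧ (c * y * c⁻¹ = v ∨ c * y * c⁻¹ = v⁻¹) := by
  haveI : Fact (Nat.Prime 3) := ⟨Nat.prime_three⟩
  set C := centralizer ({u} : Set G) with hC
  have hvC : v ∈ C := h.v_mem
  have hyC : y ∈ C := mem_centralizer_singleton_iff.2 hyu
  have hsyl : ∀ g : C, orderOf (g : G) = 3 → ∃ P : Sylow 3 C, (P : Subgroup C) = zpowers g := by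
    intro g hg
    rw [Subgroup.orderOf_coe] at hg
    obtain ⟨P, hP⟩ := (IsPGroup.of_card (p := 3) (n := 1)
      (show Nat.card (zpowers g) = 3 ^ 1 by rw [Nat.card_zpowers, hg, pow_one])).exists_le_sylow
    refine ⟨P, (eq_of_le_of_card_ge hP ?_).symm⟩
    obtain ⟨j, hj⟩ := P.2.exists_card_eq
    rw [Nat.card_zpowers, hg, hj]
    have hd : 3 ^ j ∣ m * (Nat.card Q * Nat.card O) := hj ▸ h.card ▸ Subgroup.card_subgroup_dvd_card _
    have hd2 : 3 ^ j ∣ m :=
      ((Nat.prime_three.coprime_iff_not_dvd.2 h.not_three).pow_left j).dvd_of_dvd_mul_right hd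
    by_contra hgt
    have h2j : 2 ≤ j := by
      by_contra hc
      have : 3 ^ j ≤ 3 ^ 1 := Nat.pow_le_pow_right (by norm_num) (by omega)
      omega
    exact hm ((show 9 ∣ 3 ^ j from pow_dvd_pow 3 h2j).trans hd2)
  obtain ⟨P, hP⟩ := hsyl ⟨y, hyC⟩ hy
  obtain ⟨P', hP'⟩ := hsyl ⟨v, hvC⟩ h.six.hv
  obtain ⟨c, hc⟩ := MulAction.exists_smul_eq C P P'
  refine ⟨c, mem_centralizer_singleton_iff.1 c.2, ?_⟩
  have hmem : c * ⟨y, hyC⟩ * c⁻¹ ∈ zpowers (⟨v, hvC⟩ : C) := by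
    rw [← hP', ← hc, Sylow.coe_subgroup_smul, hP]
    exact ⟨_, mem_zpowers _, rfl⟩
  obtain ⟨j, hj⟩ := mem_zpowers_iff.1 hmem
  have hj' : v ^ j = (c : G) * y * (c : G)⁻¹ := by simpa using congrArg Subtype.val hj
  have h3z : v ^ (3 : ℤ) = 1 := by
    rw [show (3 : ℤ) = ((3 : ℕ) : ℤ) from rfl, zpow_natCast, pow_succ, pow_two, h.six.vvv]
  rw [zpow_eq_zpow_emod j h3z] at hj'
  rcases (show j % 3 = 0 ∨ j % 3 = 1 ∨ j % 3 = 2 by omega) with e | e | e <;> rw [e] at hj'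
  · rw [zpow_zero, eq_comm, conj_eq_one_iff] at hj'
    rw [hj', orderOf_one] at hy; omega
  · exact Or.inl (by rw [← hj', zpow_one])
  · refine Or.inr ?_
    rw [← hj', inv_eq_sq h.six.hv, show (2 : ℤ) = ((2 : ℕ) : ℤ) from rfl, zpow_natCast, pow_two]

/-- The Sylow subgroup `Q⟨s⟩`. -/
def Top.S (h : Top u v Q O s) : Subgroup G where
  carrier := {g | g ∈ Q ∨ g * s⁻¹ ∈ Q}
  one_mem' := Or.inl (one_mem _)
  mul_mem' := by
    have hss : s * s ∈ Q := h.ss.elim (fun e => e ▸ one_mem _) fun e => e ▸ h.core.uQ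
    rintro a b (ha | ha) (hb | hb)
    · exact Or.inl (mul_mem ha hb)
    · exact Or.inr (by rw [mul_assoc]; exact mul_mem ha hb)
    · refine Or.inr ?_
      rw [show a * b * s⁻¹ = (a * s⁻¹) * (s * b * s⁻¹) by group]
      exact mul_mem ha (h.core.conjQ h.su hb)
    · refine Or.inl ?_
      rw [show a * b = (a * s⁻¹) * (s * (b * s⁻¹) * s⁻¹) * (s * s) by group]
      exact mul_mem (mul_mem ha (h.core.conjQ h.su hb)) hss
  inv_mem' := by
    have hss : s * s ∈ Q := h.ss.elim (fun e => e ▸ one_mem _) fun e => e ▸ h.core.uQ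
    rintro a (ha | ha)
    · exact Or.inl (inv_mem ha)
    · refine Or.inr ?_
      rw [show a⁻¹ * s⁻¹ = (s⁻¹ * (a * s⁻¹)⁻¹ * s) * (s * s)⁻¹ by group]
      exact mul_mem (h.core.conjQ' h.su (inv_mem ha)) (inv_mem hss)

theorem Top.Q_le (h : Top u v Q O s) : Q ≤ h.S := fun _ hq => Or.inl hq

theorem Top.s_mem (h : Top u v Q O s) : s ∈ h.S := Or.inr (by rw [mul_inv_cancel]; exact one_mem _)

theorem Top.S_le (h : Top u v Q O s) : h.S ≤ centralizer ({u} : Set G) := by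
  rintro g (hg | hg)
  · exact h.core.QC hg
  · have := mul_mem (h.core.QC hg) (mem_centralizer_singleton_iff.2 h.su : s ∈ centralizer ({u} : Set G))
    rwa [inv_mul_cancel_right] at this

theorem Top.S_u (h : Top u v Q O s) {g : G} (hg : g ∈ h.S) : u * g = g * u :=
  (mem_centralizer_singleton_iff.1 (h.S_le hg)).symm

theorem Top.sQ (h : Top u v Q O s) {q : G} (hq : q ∈ Q) : s * q * s⁻¹ ∈ Q := h.core.conjQ h.su hq

theorem Top.uS (h : Top u v Q O s) : u ∈ h.S := h.Q_le h.core.uQ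

variable [Finite G]

theorem Top.s_not (h : Top u v Q O s) : s ∉ Q := fun hs => by
  apply h.core.v_not_QO
  have h1 : v⁻¹ * s * v ∈ Q := h.core.conjQ' h.core.six.huv.symm hs
  have h2 : s * v * s⁻¹ * v⁻¹ ∈ Q := by
    rw [show s * v * s⁻¹ * v⁻¹ = s * (v * s⁻¹ * v⁻¹) by group]
    exact mul_mem hs (h.core.vQ (inv_mem hs))
  rw [h.sv] at h2
  have h3 : v = v⁻¹ * v⁻¹ := by rw [← mul_inv_rev, ← inv_eq_sq h.core.six.hv, inv_inv]
  exact ⟨v, h3 ▸ h2, 1, one_mem _, (mul_one v).symm⟩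

theorem Top.card_S (h : Top u v Q O s) : Nat.card h.S = 2 * Nat.card Q := by
  have hidx : (Q.subgroupOf h.S).index = 2 := by
    rw [Subgroup.index_eq_two_iff]
    refine ⟨⟨s⁻¹, inv_mem h.s_mem⟩, fun ⟨b, hb⟩ => ?_⟩
    simp only [mem_subgroupOf, coe_mul]
    rcases hb with hb | hb
    · refine Or.inr ⟨hb, fun h' => h.s_not ?_⟩
      have := mul_mem (inv_mem h') hb
      rwa [show (b * s⁻¹)⁻¹ * b = s by group] at this
    · refine Or.inl ⟨hb, fun h' => h.s_not ?_⟩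
      have := mul_mem (inv_mem hb) h'
      rwa [show (b * s⁻¹)⁻¹ * b = s by group] at this
  rw [← (Q.subgroupOf h.S).card_mul_index, hidx, mul_comm,
    Nat.card_congr (subgroupOfEquivOfLe h.Q_le).toEquiv]

theorem Top.isPGroup (h : Top u v Q O s) : IsPGroup 2 h.S := by
  obtain ⟨k, hk⟩ := h.core.hQ.exists_card_eq
  exact IsPGroup.of_card (n := k + 1) (by rw [h.card_S, hk, pow_succ'])

theorem Top.exists_sylow (h : Top u v Q O s) : ∃ P : Sylow 2 G, (P : Subgroup G) = h.S := by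
  refine h.core.six.exists_sylow_eq (H := centralizer ({u} : Set G))
    (fun g hg => mem_centralizer_singleton_iff.2 hg) h.isPGroup (k := 3 * Nat.card O)
    ((by decide : Odd 3).mul h.core.hO) ?_
  rw [h.core.card, h.card_S]; ring

/-- Involutions central in `S` are conjugate to `u` in the normalizer of `S`. -/
theorem Top.exists_conj_normalizer (h : Top u v Q O s) {x : G} (hx : x ∈ h.S)
    (hxc : ∀ y ∈ h.S, x * y = y * x) (hxo : orderOf x = 2) :
    ∃ n ∈ normalizer (h.S : Set G), n * u * n⁻¹ = x := by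
  haveI : Fact (Nat.Prime 2) := ⟨Nat.prime_two⟩
  obtain ⟨P, hP⟩ := h.exists_sylow
  obtain ⟨g, hg⟩ := isConj_iff.1 (h.core.six.one u x h.core.six.hu hxo)
  have hgx : g⁻¹⁻¹ * u * g⁻¹ = x := by rw [inv_inv]; exact hg
  obtain ⟨n, hn, e⟩ := Sylow.conj_eq_normalizer_conj_of_mem_centralizer P u g⁻¹
    (mem_centralizer_iff.2 fun y hy => (h.S_u (hP ▸ hy)).symm)
    (by rw [hgx]; exact mem_centralizer_iff.2 fun y hy => (hxc y (hP ▸ hy)).symm)
  exact ⟨n⁻¹, inv_mem (hP ▸ hn), by rw [inv_inv, ← e, hgx]⟩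

/-- An element outside `Q` centralizes at most `√(2|Q|)` elements of `Q`. -/
theorem Top.card_cent_le (h : Top u v Q O s) {z : G} (hz : z ∈ h.S) (hzQ : z ∉ Q) {A : Subgroup G}
    (hA : A ≤ Q) (hAz : ∀ a ∈ A, a * z = z * a) : Nat.card A * Nat.card A ≤ 2 * Nat.card Q := by
  classical
  haveI : Fact (Nat.Prime 3) := ⟨Nat.prime_three⟩
  have hq : z * s⁻¹ ∈ Q := hz.resolve_left hzQ
  obtain ⟨q, hqQ, rfl⟩ : ∃ q ∈ Q, z = q * s := ⟨_, hq, (inv_mul_cancel_right z s).symm⟩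
  set w := (q * s)⁻¹ * (v * (q * s) * v⁻¹) with hw
  set q1 := q⁻¹ * (v * q * v⁻¹) with hq1
  have hq1Q : q1 ∈ Q := mul_mem (inv_mem hqQ) (h.core.vQ hqQ)
  have hsvs : s⁻¹ * v * s = v⁻¹ := by
    have e1 : (s * v * s⁻¹)⁻¹ = v := by rw [h.sv, inv_inv]
    calc s⁻¹ * v * s = s⁻¹ * (s * v * s⁻¹)⁻¹ * s := by rw [e1]
      _ = v⁻¹ := by group
  have hw' : w = (s⁻¹ * q1 * s) * v := by
    calc w = (s⁻¹ * q1 * s) * (s⁻¹ * v * s) * v⁻¹ := by rw [hw, hq1]; group
      _ = (s⁻¹ * q1 * s) * (v⁻¹ * v⁻¹) := by rw [hsvs]; group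
      _ = _ := by rw [← mul_inv_rev, ← inv_eq_sq h.core.six.hv, inv_inv]
  set q2 := s⁻¹ * q1 * s with hq2
  have hq2Q : q2 ∈ Q := h.core.conjQ' h.su hq1Q
  have hwu : w * u = u * w := by
    rw [hw']
    exact ((show Commute q2 u from h.core.qu hq2Q).mul_left h.core.six.huv.symm).eq
  have hvn : ∀ {a}, a ∈ Q → v * a * v⁻¹ ∈ Q := fun ha => h.core.vQ ha
  have h3w : 3 ∣ orderOf w := by
    by_contra hc
    apply h.core.v_not_QO
    have hwQ : w ^ 3 ∈ Q := by
      rw [hw']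
      have e : (q2 * v) ^ 3 = q2 * (v * q2 * v⁻¹) * (v * (v * q2 * v⁻¹) * v⁻¹) * (v * v * v) := by
        rw [pow_succ, pow_two]; group
      rw [e, h.core.six.vvv, mul_one]
      exact mul_mem (mul_mem hq2Q (hvn hq2Q)) (hvn (hvn hq2Q))
    obtain ⟨k, hk⟩ := exists_pow_eq_self_of_coprime
      (Nat.prime_three.coprime_iff_not_dvd.2 hc : Nat.Coprime 3 (orderOf w))
    refine ⟨q2⁻¹ * w, mul_mem (inv_mem hq2Q) (hk ▸ pow_mem hwQ k), 1, one_mem _, ?_⟩
    rw [mul_one, hw', inv_mul_cancel_left]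
  set y := w ^ (orderOf w / 3) with hy
  have hyo : orderOf y = 3 := by
    rw [hy, orderOf_pow_of_dvd (Nat.div_pos (Nat.le_of_dvd (orderOf_pos w) h3w) (by norm_num)).ne'
      (Nat.div_dvd_of_dvd h3w), Nat.div_div_self h3w (orderOf_pos w).ne']
  have hyu : y * u = u * y := ((show Commute w u from hwu).pow_left _).eq
  obtain ⟨c, hcu, hcy⟩ := h.core.exists_conj_three (by norm_num) hyo hyu
  set B := A.map (MulAut.conj v).toMonoidHom with hB
  have hBmem : ∀ b, b ∈ B → ∃ a ∈ A, v * a * v⁻¹ = b := fun b ⟨a, ha, e⟩ => ⟨a, ha, e⟩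
  have hBQ : B ≤ Q := fun b hb => by
    obtain ⟨a, ha, rfl⟩ := hBmem b hb
    exact h.core.vQ (hA ha)
  have hBz : ∀ b ∈ B, b * (v * (q * s) * v⁻¹) = v * (q * s) * v⁻¹ * b := fun b hb => by
    obtain ⟨a, ha, rfl⟩ := hBmem b hb
    calc v * a * v⁻¹ * (v * (q * s) * v⁻¹) = v * (a * (q * s)) * v⁻¹ := by group
      _ = v * (q * s * a) * v⁻¹ := by rw [hAz a ha]
      _ = _ := by group
  have hint : Nat.card ↥(A ⊓ B) ≤ 2 := by
    have hsub : ∀ a ∈ A ⊓ B, c * a * c⁻¹ = 1 ∨ c * a * c⁻¹ = u := by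
      intro a ha
      refine h.core.fixQ (h.core.conjQ hcu (hA ha.1)) ?_
      have haw : Commute a w :=
        ((show Commute a (q * s) from hAz a ha.1).inv_right).mul_right (hBz a ha.2)
      have hay : Commute a y := haw.pow_right _
      have hcay : (c * a * c⁻¹) * (c * y * c⁻¹) = (c * y * c⁻¹) * (c * a * c⁻¹) := by
        rw [show c * a * c⁻¹ * (c * y * c⁻¹) = c * (a * y) * c⁻¹ by group, hay.eq]; group
      rcases hcy with e | e <;> rw [e] at hcay
      · exact hcay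
      · have := (show Commute (c * a * c⁻¹) v⁻¹ from hcay).inv_right
        rw [inv_inv] at this
        exact this.eq
    haveI := Fintype.ofFinite G
    refine (Nat.card_le_card_of_injective
      (fun a : ↥(A ⊓ B) => (⟨c * (a : G) * c⁻¹, by simpa using hsub a a.2⟩ : ({1, u} : Finset G)))
      fun a b hab => ?_).trans ?_
    · have e : c * (a : G) * c⁻¹ = c * (b : G) * c⁻¹ := congrArg (fun x : ↥({1, u} : Finset G) => x.1) hab
      exact Subtype.ext (mul_left_cancel (mul_right_cancel e))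
    · rw [Nat.card_eq_fintype_card, Fintype.card_coe]; exact Finset.card_le_two
  have hcardB : Nat.card B = Nat.card A := by
    rw [hB, card_map_of_injective (MulAut.conj v).injective]
  have h1 : A.relIndex B ≤ A.relIndex Q := relIndex_le_of_le_right hBQ
    (fun e => by
      have := (A.subgroupOf Q).index_ne_zero_of_finite
      exact this e)
  have h2 : Nat.card ↥(A ⊓ B) * A.relIndex B = Nat.card B := by
    have e := (A.subgroupOf B).card_mul_index
    rw [← inf_subgroupOf_right, Nat.card_congr (subgroupOfEquivOfLe inf_le_right).toEquiv,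
      inf_subgroupOf_right] at e
    exact e
  have h3 : Nat.card A * A.relIndex Q = Nat.card Q := by
    have e := (A.subgroupOf Q).card_mul_index
    rwa [Nat.card_congr (subgroupOfEquivOfLe hA).toEquiv] at e
  calc Nat.card A * Nat.card A = Nat.card A * (Nat.card ↥(A ⊓ B) * A.relIndex B) := by rw [h2, hcardB]
    _ ≤ Nat.card A * (2 * A.relIndex Q) := Nat.mul_le_mul_left _ (Nat.mul_le_mul hint h1)
    _ = 2 * Nat.card Q := by rw [← h3]; ring

/-- The centre of `S` lies in `Q`, unless `Q` has order two. -/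
theorem Top.center_le (h : Top u v Q O s) (hQ : 2 < Nat.card Q) {z : G} (hz : z ∈ h.S)
    (hzc : ∀ y ∈ h.S, z * y = y * z) : z ∈ Q := by
  by_contra hzQ
  have := h.card_cent_le hz hzQ le_rfl fun a ha => (hzc a (h.Q_le ha)).symm
  nlinarith

end CfsgLib.Recog.OrderSix
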